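import Mathlib
import Cfsg.Agent.Lib.StdM.X
import Cfsg.Agent.Lib.Mon.Four2

/-! Groups with an involution centralizer `2.²E₆(2).2` (plans/STDB.md): notation and interfaces. -/

set_option autoImplicit false

namespace CfsgLib.StdB

open Cfsg CfsgLib.Leech CfsgLib.Mon CfsgLib.DCX CfsgLib.StdM Subgroup

/-- the class under `a = tK1` -/
noncomputable abbrev s1 : V24 := k0.φ (dlL none (some 1))

/-- the centralizer of `t` and `a` in `C` -/
noncomputable abbrev DK : Subgroup (C k0) := DD k0 none (some 0) (some 1)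

/-- the centralizer of `t` in `Q` -/
noncomputable def RQ : Subgroup (C k0) := Q k0 ⊓ CK

/-- the classes orthogonal to `v0` and `s1` -/
noncomputable abbrev WW : AddSubgroup V24 := StdM.perp v0 s1

/-- `w` and `w + v0` are short -/
def Om (w : V24) : Prop := IsShort k0 w ∧ IsShort k0 (w + v0)

/-- equality modulo `v0` -/
def Ev (v w : V24) : Prop := v = w ∨ v = w + v0

theorem a_eq : tK1 = q k0 0 s1 := tK1_eq

theorem mem_DK {c : C k0} : c ∈ DK ↔ c * tK = tK * c ∧ c * tK1 = tK1 * c :=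
  and_congr mem_centralizer_singleton_iff mem_centralizer_singleton_iff

theorem DK_le_CK : DK ≤ CK := inf_le_left

theorem mem_DK_iff {c : C k0} : c ∈ DK ↔ c ∈ CK ∧ cε c s1 = 0 ∧ cact c s1 = s1 := by
  rw [mem_DK, a_eq, comm_q_iff (v := s1), mem_CK]

theorem q_mem_CK_iff {e : ZMod 2} {w : V24} : q k0 e w ∈ CK ↔ om w v0 = 0 := by
  rw [mem_CK_iff, cε_q, cact_q, and_iff_left rfl]

theorem q_mem_RQ {e : ZMod 2} {w : V24} : q k0 e w ∈ RQ ↔ om w v0 = 0 :=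
  (and_iff_right (q_mem_Q e w)).trans q_mem_CK_iff

theorem q_mem_DK {e : ZMod 2} {w : V24} : q k0 e w ∈ DK ↔ w ∈ WW := by
  rw [mem_DK_iff, q_mem_CK_iff, cε_q, cact_q, and_iff_left rfl, StdM.mem_perp]

theorem short_s1 : IsShort k0 s1 := ⟨_, sqNorm_dlL (by decide), rfl⟩

theorem short_v0 : IsShort k0 v0 := ⟨_, sqNorm_tK, rfl⟩

theorem qf_of_short {w : V24} (h : IsShort k0 w) : qf w = 0 := let ⟨_, a, b⟩ := h; b ▸ Mult.qf_short a

theorem om_of_short {v w : V24} (h1 : IsShort k0 v) (h2 : IsShort k0 w) (h : IsShort k0 (v + w)) : om v w = 0 := by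
  have := qf_add v w
  rwa [qf_of_short h, qf_of_short h1, qf_of_short h2, zero_add, zero_add, eq_comm] at this

theorem Om.perp {w : V24} (h : Om w) : om w v0 = 0 := om_of_short h.1 short_v0 h.2

theorem Om.add {w : V24} (h : Om w) : Om (w + v0) := ⟨h.2, by rw [XP.add_add]; exact h.1⟩

theorem Om.of_ev {v w : V24} (h : Om w) (e : Ev v w) : Om v := e.elim (· ▸ h) (· ▸ h.add)

theorem Om.cact {w : V24} (h : Om w) {c : C k0} (hc : c ∈ CK) : Om (cact c w) :=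
  ⟨h.1.cact c, by have := h.2.cact c; rwa [map_add, (mem_CK_iff.1 hc).2] at this⟩

theorem Om_s1 : Om s1 := ⟨short_s1, dlL (some 0) (some 1), sqNorm_dlL (by decide), by
  rw [φ_dlL, s1, φ_dlL, v0, φ_dlL, add_add_add_comm, ww_add_self, zero_add, add_comm]⟩

theorem om_s1_v0 : om s1 v0 = 0 := Om_s1.perp

theorem om_s1_w0 : om s1 (w0 k0) = 0 := by
  rw [s1, φ_dlL, om_add_left, om_lam_w0, om_lam_w0]; decide

theorem om_act {c : C k0} (hc : c ∈ CK) (w : V24) : om (cact c w) v0 = om w v0 := by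
  conv_lhs => rw [← (mem_CK_iff.1 hc).2, om_cact]

theorem Ev.refl (v : V24) : Ev v v := Or.inl rfl

theorem Ev.symm {v w : V24} (h : Ev v w) : Ev w v := h.imp Eq.symm fun e => by rw [e, XP.add_add]

theorem Ev.trans {u v w : V24} (h : Ev u v) (k : Ev v w) : Ev u w := by
  rcases h with rfl | rfl
  · exact k
  · exact k.elim (fun e => Or.inr (by rw [e])) fun e => Or.inl (by rw [e, XP.add_add])

theorem Ev.add {u v u' v' : V24} (h : Ev u v) (k : Ev u' v') : Ev (u + u') (v + v') := by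
  rcases h with rfl | rfl <;> rcases k with rfl | rfl
  exacts [Or.inl rfl, Or.inr (add_assoc _ _ _).symm, Or.inr (add_right_comm _ _ _),
    Or.inl (by rw [add_add_add_comm, ww_add_self, add_zero])]

theorem Ev.cact {u v : V24} (h : Ev u v) {c : C k0} (hc : c ∈ CK) : Ev (cact c u) (cact c v) :=
  h.imp (congrArg _) fun e => by rw [e, map_add, (mem_CK_iff.1 hc).2]

theorem Ev.om {u v w : V24} (h : Ev u v) (hw : om w v0 = 0) : om u w = om v w :=
  h.elim (fun e => by rw [e]) fun e => by rw [e, om_add_left, om_comm v0, hw, add_zero]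

theorem Ev.qf {u v : V24} (h : Ev u v) (hv : Mon.om v v0 = 0) : qf u = qf v :=
  h.elim (fun e => by rw [e]) fun e => by rw [e, qf_add, XP.qf_v0, hv, add_zero, add_zero]

variable {M G : Type*} [Group M] [Group G]

/-- `2².²E₆(2)` -/
noncomputable abbrev LM (π : C k0 →* M) : Subgroup M := cen2 (π tK) (π tK1)

/-- `DK` in `LM` -/
noncomputable def ιL (π : C k0 →* M) : DK →* LM π := (π.comp DK.subtype).codRestrict _ fun c =>
  mem_cen2.2 ⟨((show Commute _ _ from (mem_DK.1 c.2).1).map π :), ((show Commute _ _ from (mem_DK.1 c.2).2).map π :)⟩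

@[simp] theorem coe_ιL (π : C k0 →* M) (c : DK) : (ιL π c : M) = π c := rfl

/-- `a` in `LM` -/
noncomputable def aL (π : C k0 →* M) : LM π := ιL π ⟨tK1, mem_DK.2 ⟨mem_CK.1 tK1_mem_CK, rfl⟩⟩

/-- `z` in `LM` -/
noncomputable def zL (π : C k0 →* M) : LM π := ιL π ⟨z k0, mem_DK.2 ⟨(z_comm _).symm, (z_comm _).symm⟩⟩

@[simp] theorem coe_aL (π : C k0 →* M) : (aL π : M) = π tK1 := rfl

@[simp] theorem coe_zL (π : C k0 →* M) : (zL π : M) = π (z k0) := rfl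

theorem aL_comm (π : C k0 →* M) (l : LM π) : l * aL π = aL π * l := Subtype.ext (mem_cen2.1 l.2).2

variable {π : C k0 →* M} {τ : M}

/-- the Monster with the order of `LM` -/
structure MB (π : C k0 →* M) (τ : M) : Prop extends MS π τ where
  cardL : Nat.card (LM π) = 306129918735099415756800

theorem tau_mem (h : MAm π τ) : τ ∈ LM π := by
  have k : ∀ p r, τ * π (tI k0 p r) = π (tI k0 p r) * τ := fun p r =>
    mul_inv_eq_iff_eq_mul.1 (h.conj (gam_E (std_k0.isE_xI_mul p r)))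
  exact mem_cen2.2 ⟨k _ _, k _ _⟩

/-- `φ` identifies `LM / ⟨t⟩` with a normal subgroup of the centralizer of `a` in `G`, whose elements act like
elements of the normalizer of `⟨t, a⟩` -/
structure Emb (τ : M) (φ : LM π →* G) : Prop extends MB π τ where
  ker : ∀ l, φ l = 1 ↔ l.1 = 1 ∨ l.1 = π tK
  act : ∀ h, h * φ (aL π) = φ (aL π) * h → ∃ n, n * π tK = π tK * n ∧
    (n * π tK1 * n⁻¹ = π tK1 ∨ n * π tK1 * n⁻¹ = π tK * π tK1) ∧
    ∀ l l' : LM π, l'.1 = n * l.1 * n⁻¹ → h * φ l * h⁻¹ = φ l'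
  cen : ∀ g, (∀ l, g * φ l = φ l * g) → g = 1 ∨ g = φ (aL π)

/-- `x` lies in the conjugate of the range of `φ` which belongs to `s` -/
def InL (φ : LM π →* G) (s x : G) : Prop := ∃ g, g * φ (aL π) * g⁻¹ = s ∧ g⁻¹ * x * g ∈ φ.range

/-- the elements of `Q ⊓ DK` in `G` -/
noncomputable def qL (φ : LM π →* G) (e : ZMod 2) (w : V24) : G :=
  if h : om w v0 = 0 ∧ om w s1 = 0 then φ (ιL π ⟨q k0 e w, q_mem_DK.2 h⟩) else 1

/-- `ρ` extends `φ` from `Q ⊓ DK` to `RQ` -/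
structure Ext (τ : M) (φ : LM π →* G) (ρ : RQ →* G) : Prop extends Emb τ φ where
  az : IsConj (φ (aL π)) (φ (aL π) * φ (zL π))
  ext : ∀ (x : RQ) (l : LM π), l.1 = π x.1 → ρ x = φ l

/-- the elements of `RQ` in `G` -/
noncomputable def qG (ρ : RQ →* G) (e : ZMod 2) (w : V24) : G :=
  if h : om w v0 = 0 then ρ ⟨q k0 e w, q_mem_RQ.2 h⟩ else 1

/-- `g` centralizes `z` and acts on `RQ / ⟨t, z⟩` like `c` -/
structure Acts (ρ : RQ →* G) (g : G) (c : C k0) : Prop where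
  mem : c ∈ CK
  z : g * qG ρ 1 0 = qG ρ 1 0 * g
  act : ∀ w, om w v0 = 0 → ∃ e, g * qG ρ 0 w * g⁻¹ = qG ρ e (cact c w)

variable {φ : LM π →* G} {ρ : RQ →* G} {e e' : ZMod 2} {v w : V24}

theorem qG_def (e : ZMod 2) (h : om w v0 = 0) : qG ρ e w = ρ ⟨q k0 e w, q_mem_RQ.2 h⟩ := dif_pos h

theorem mem_range_iff {x : G} : x ∈ ρ.range ↔ ∃ e w, om w v0 = 0 ∧ x = qG ρ e w :=
  ⟨by rintro ⟨⟨_, ⟨e, w, rfl⟩, h⟩, rfl⟩; exact ⟨e, w, q_mem_CK_iff.1 h, (qG_def e (q_mem_CK_iff.1 h)).symm⟩,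
    by rintro ⟨e, w, h, rfl⟩; exact ⟨_, (qG_def e h).symm⟩⟩

theorem qG_mem (e : ZMod 2) (w : V24) : qG ρ e w ∈ ρ.range := by
  rw [qG]; split_ifs
  exacts [⟨_, rfl⟩, one_mem _]

theorem om_add0 (hv : om v v0 = 0) (hw : om w v0 = 0) : om (v + w) v0 = 0 := by rw [om_add_left, hv, hw, add_zero]

theorem qG_mul (e e' : ZMod 2) (hv : om v v0 = 0) (hw : om w v0 = 0) :
    qG ρ e v * qG ρ e' w = qG ρ (e + e' + bet v w) (v + w) := by
  rw [qG_def e hv, qG_def e' hw, qG_def _ (om_add0 hv hw), ← map_mul]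
  exact congrArg ρ (Subtype.ext (q_mul _ _ _ _))

theorem qG_zero : qG ρ 0 0 = 1 := by
  rw [qG_def 0 (om_zero_left _), ← map_one ρ]; exact congrArg ρ (Subtype.ext q_zero)

theorem qG_mul_zero (e e' : ZMod 2) (hw : om w v0 = 0) : qG ρ e w * qG ρ e' 0 = qG ρ (e + e') w := by
  simp [qG_mul e e' hw (om_zero_left _)]

theorem qG_mul_self (e : ZMod 2) (hw : om w v0 = 0) : qG ρ e w * qG ρ e w = qG ρ (qf w) 0 := by
  rw [qG_def e hw, qG_def _ (om_zero_left _), ← map_mul]; exact congrArg ρ (Subtype.ext (q_mul_self _ _))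

theorem qG_conj (e e' : ZMod 2) (hv : om v v0 = 0) (hw : om w v0 = 0) :
    qG ρ e v * qG ρ e' w * (qG ρ e v)⁻¹ = qG ρ (e' + om v w) w := by
  rw [qG_def e hv, qG_def e' hw, qG_def _ hw, ← map_inv, ← map_mul, ← map_mul]
  exact congrArg ρ (Subtype.ext ((conj_q _ _ _).trans (by rw [cε_q, cact_q])))

theorem qG_z (x : RQ) : ρ x * qG ρ 1 0 = qG ρ 1 0 * ρ x := by
  rw [qG_def 1 (om_zero_left _), ← map_mul, ← map_mul]; exact congrArg ρ (Subtype.ext (z_comm _))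

theorem acts_qG (e : ZMod 2) (hv : om v v0 = 0) : Acts ρ (qG ρ e v) (q k0 e v) :=
  ⟨q_mem_CK_iff.2 hv, qG_def (ρ := ρ) e hv ▸ qG_z _, fun w hw => ⟨_, by rw [qG_conj e 0 hv hw, cact_q]⟩⟩

theorem Emb.a_comm (l : LM π) : φ l * φ (aL π) = φ (aL π) * φ l := by rw [← map_mul, aL_comm, map_mul]

theorem Emb.eq_iff (h : Emb τ φ) {l l' : LM π} : φ l = φ l' ↔ l.1 = l'.1 ∨ l.1 = π tK * l'.1 := by
  rw [← mul_inv_eq_one, ← map_inv, ← map_mul, h.ker, coe_mul, coe_inv, mul_inv_eq_one, mul_inv_eq_iff_eq_mul]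

theorem qL_def (e : ZMod 2) (h : w ∈ WW) : qL φ e w = φ (ιL π ⟨q k0 e w, q_mem_DK.2 h⟩) := dif_pos h

theorem qL_eq {l : LM π} (k : l.1 = π (q k0 e w)) (h : w ∈ WW) : qL φ e w = φ l :=
  (qL_def e h).trans (congrArg φ (Subtype.ext k.symm))

theorem v0_mem : v0 ∈ WW := ⟨om_self _, om_comm s1 v0 ▸ om_s1_v0⟩

theorem s1_mem : s1 ∈ WW := ⟨om_s1_v0, om_self _⟩

theorem w0_mem : w0 k0 ∈ WW := ⟨XP.om_w0_v0, om_comm s1 (w0 k0) ▸ om_s1_w0⟩

theorem qL_a : qL φ 0 s1 = φ (aL π) := qL_eq (congrArg π StdB.a_eq) s1_mem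

theorem qL_z : qL φ 1 0 = φ (zL π) := qL_eq rfl (zero_mem _)

theorem qL_mul (e e' : ZMod 2) (hv : v ∈ WW) (hw : w ∈ WW) :
    qL φ e v * qL φ e' w = qL φ (e + e' + bet v w) (v + w) := by
  rw [qL_def e hv, qL_def e' hw, ← map_mul, ← map_mul]
  exact (qL_eq (congrArg π (q_mul _ _ _ _)) (add_mem hv hw)).symm

theorem qL_zero : qL φ 0 0 = 1 := (qL_eq (l := 1) (by rw [q_zero, map_one]; rfl) (zero_mem _)).trans (map_one φ)

theorem qL_mul_z (e : ZMod 2) (hw : w ∈ WW) : qL φ e w * φ (zL π) = qL φ (e + 1) w := by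
  simp [← qL_z, qL_mul e 1 hw (zero_mem _)]

theorem qL_mul_self (e : ZMod 2) (hw : w ∈ WW) : qL φ e w * qL φ e w = qL φ (qf w) 0 := by
  rw [qL_def e hw, ← map_mul, ← map_mul]
  exact (qL_eq (congrArg π (q_mul_self _ _)) (zero_mem _)).symm

theorem qL_conj (e e' : ZMod 2) (hv : v ∈ WW) (hw : w ∈ WW) :
    qL φ e v * qL φ e' w * (qL φ e v)⁻¹ = qL φ (e' + om v w) w := by
  rw [qL_def e hv, qL_def e' hw, ← map_inv, ← map_mul, ← map_mul, ← map_inv, ← map_mul, ← map_mul]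
  exact (qL_eq (congrArg π ((conj_q _ _ _).trans (by rw [cε_q, cact_q]))) hw).symm

theorem ι_z (c : DK) : φ (ιL π c) * φ (zL π) = φ (zL π) * φ (ιL π c) := by
  rw [zL, ← map_mul, ← map_mul, ← map_mul, ← map_mul]; exact congrArg (φ <| ιL π ·) (Subtype.ext (z_comm _))

theorem Emb.qL_t (h : Emb τ φ) : qL φ 0 v0 = 1 := by
  rw [qL_def 0 v0_mem, h.ker]; exact Or.inr (congrArg π tK_eq.symm)

theorem Emb.qL_inj (h : Emb τ φ) (hv : v ∈ WW) (hw : w ∈ WW) (k : qL φ e v = qL φ e' w) :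
    e = e' ∧ v = w ∨ v = w + v0 := by
  rw [qL_def e hv, qL_def e' hw, h.eq_iff, coe_ιL, coe_ιL, ← map_mul, h.inj.eq_iff, h.inj.eq_iff, tK_eq, q_mul] at k
  exact k.imp q_inj fun k => (q_inj k).2.trans (add_comm _ _)

theorem Emb.sign_inj (h : Emb τ φ) (hw : w ∈ WW) (k : qL φ e w = qL φ e' w) : e = e' :=
  (h.qL_inj hw hw k).elim And.left fun k => absurd (left_eq_add.1 k) XP.v0_ne

theorem Ext.qG_eq (h : Ext τ φ ρ) {l : LM π} (k : l.1 = π (q k0 e w)) (hw : om w v0 = 0) : qG ρ e w = φ l := by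
  rw [qG_def e hw]; exact h.ext _ _ k

theorem Ext.qG_ι (h : Ext τ φ ρ) (e : ZMod 2) (hw : w ∈ WW) : qG ρ e w = qL φ e w :=
  (h.qG_eq rfl hw.1).trans (qL_def e hw).symm

theorem Ext.a_eq (h : Ext τ φ ρ) : qG ρ 0 s1 = φ (aL π) := h.qG_eq (congrArg π StdB.a_eq) om_s1_v0

theorem Ext.z_eq (h : Ext τ φ ρ) : qG ρ 1 0 = φ (zL π) := h.qG_eq rfl (om_zero_left _)

theorem Ext.t_eq (h : Ext τ φ ρ) : qG ρ 0 v0 = 1 := (h.qG_ι 0 v0_mem).trans h.toEmb.qL_t

theorem Ext.z_ne (h : Ext τ φ ρ) : qG ρ 1 0 ≠ 1 := by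
  rw [h.z_eq, Ne, h.ker, coe_zL, ← map_one π, h.inj.eq_iff, h.inj.eq_iff, not_or]
  exact ⟨z_ne_one, FusP.tK_ne_z.symm⟩

theorem Ext.qG_add (h : Ext τ φ ρ) (e : ZMod 2) (hw : om w v0 = 0) :
    qG ρ (e + bet w v0) (w + v0) = qG ρ e w := by
  rw [← mul_one (qG ρ e w), ← h.t_eq, qG_mul e 0 hw (om_self _), add_zero]

theorem Ext.qG_ev (h : Ext τ φ ρ) (k : Ev v w) (hw : om w v0 = 0) (e : ZMod 2) : ∃ e', qG ρ e v = qG ρ e' w := by
  rcases k with rfl | rfl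
  · exact ⟨e, rfl⟩
  · exact ⟨e + bet w v0, by rw [← h.qG_add _ hw, add_assoc, z2_add_self, add_zero]⟩

theorem Ext.sign_inj (h : Ext τ φ ρ) (hw : om w v0 = 0) (k : qG ρ e w = qG ρ e' w) : e = e' := by
  by_contra n
  rw [(by decide : ∀ e e' : ZMod 2, e ≠ e' → e' = e + 1) e e' n, ← qG_mul_zero e 1 hw, left_eq_mul] at k
  exact h.z_ne k

theorem Ext.qG_inj (h : Ext τ φ ρ) (hv : om v v0 = 0) (hw : om w v0 = 0) (k : qG ρ e v = qG ρ e' w) : Ev v w := by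
  have : ∀ y, om y v0 = 0 → om y (v + w) = 0 := fun y hy => by
    have h1 := qG_conj (ρ := ρ) e 0 hv hy
    rw [k, qG_conj e' 0 hw hy] at h1
    rw [om_add_right, om_comm y v, om_comm y w, ← add_left_cancel (h.sign_inj hy h1), z2_add_self]
  rcases perp_perp (u := v0) (w := v0) (fun y hy => this y hy.1) with e | e | e | e
  · exact Or.inl (eq_of_add_eq_zero' e)
  · exact Or.inr (by rw [← e, add_comm v, XP.add_add'])
  · exact Or.inr (by rw [← e, add_comm v, XP.add_add'])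
  · exact Or.inl (eq_of_add_eq_zero' (e.trans (ww_add_self _)))

end CfsgLib.StdB
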