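import Mathlib
import Cfsg.Agent.Lib.StdB.Defs

/-! STDB, package SQ (plans/STDB.md §SQ). -/

set_option autoImplicit false

namespace CfsgLib.StdB

open Cfsg CfsgLib.Leech CfsgLib.Mon CfsgLib.MType CfsgLib.DCX CfsgLib.StdM Finset

namespace SqP

theorem mod_four {S : Finset GolayPt} (hS : IsCW S) (h : S.card ≤ 12) {x : leechLattice} (hx : ∀ i ∉ S, x.1 i = 0) :
    ∃ α : ℤ, (∀ i ∈ S, (x.1 i - 2 * α) % 4 = 0) ∧ (∑ i ∈ S, x.1 i) % 8 = 0 := by
  obtain ⟨p, hp⟩ : ∃ p, p ∉ S := by
    by_contra! k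
    rw [eq_univ_of_forall k, card_univ, card_pt] at h; omega
  have ev := isEvenVec_of_even x.2 (i := p) (by rw [hx p hp]; rfl)
  have hs := sum_mod_of_even x.2 ev
  rw [← sum_subset (subset_univ S) fun i _ hi => hx i hi] at hs
  rcases sub_cases hS (isCW_cw x.2) fun i hi => by_contra fun k => by simp [mem_cw, hx i k] at hi with e | e | e | e
  · refine ⟨0, fun i _ => ?_, hs⟩
    have := ev i
    have : ¬ 2 ≤ x.1 i % 4 := fun k => notMem_empty i (e ▸ mem_cw.2 k)
    omega
  · refine ⟨1, fun i hi => ?_, hs⟩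
    have := ev i
    have := mem_cw.1 (e.symm ▸ hi : i ∈ cw x.1)
    omega
  all_goals omega

theorem dot16 {S : Finset GolayPt} (hS : IsCW S) (h : S.card ≤ 12) {x y : leechLattice} (hx : ∀ i ∉ S, x.1 i = 0)
    (hy : ∀ i ∉ S, y.1 i = 0) : dotInt x.1 y.1 % 16 = 0 := by
  obtain ⟨α, a1, a2⟩ := mod_four hS h hx
  obtain ⟨β, b1, b2⟩ := mod_four hS h hy
  have e1 : (16 : ℤ) ∣ ∑ i ∈ S, (x.1 i - 2 * α) * (y.1 i - 2 * β) := dvd_sum fun i hi =>
    mul_dvd_mul (Int.dvd_of_emod_eq_zero (a1 i hi)) (Int.dvd_of_emod_eq_zero (b1 i hi))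
  have e2 : ∑ i ∈ S, (x.1 i - 2 * α) * (y.1 i - 2 * β) = ∑ i ∈ S, x.1 i * y.1 i - 2 * β * ∑ i ∈ S, x.1 i -
      2 * α * ∑ i ∈ S, y.1 i + 4 * α * β * S.card := by
    simp only [mul_sum, ← sum_sub_distrib, card_eq_sum_ones, Nat.cast_sum, ← sum_add_distrib]
    exact sum_congr rfl fun i _ => by push_cast; ring
  obtain ⟨k, hk⟩ : 4 ∣ S.card := by have := hS.card_eq; omega
  obtain ⟨m, hm⟩ := Int.dvd_of_emod_eq_zero a2
  obtain ⟨n, hn⟩ := Int.dvd_of_emod_eq_zero b2
  obtain ⟨l, hl⟩ := e1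
  rw [dotInt, ← sum_subset (subset_univ S) fun i _ hi => by rw [hx i hi, zero_mul]]
  rw [e2, hm, hn, hk] at hl
  exact Int.emod_eq_zero_of_dvd ⟨l + β * m + α * n - α * β * k, by push_cast at hl; linear_combination hl⟩

/-- orthogonality to the fixed classes passes from one eigenvector to another -/
def PP (g : Co0) : Prop := ∀ a b : leechLattice, sqNorm a.1 = 32 → (g • a = a ∧ g • b = b ∨ g • a = -a ∧ g • b = -b) →
  (∀ w, k0.act g w = w → om w (k0.φ a) = 0) → ∀ w, k0.act g w = w → om w (k0.φ b) = 0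

theorem PP.transport {x t : Co0} (hx : PP x) (h : IsConj (x : Spor.Co1) t) : PP t := by
  refine MonRec.wc_transport ?_ ?_ h hx
  · intro γ t ht a b ha hab h1 w hw
    have k : ∀ {u v : leechLattice}, (γ * t * γ⁻¹) • u = v → t • γ⁻¹ • u = γ⁻¹ • v := fun e => by
      rw [← e, mul_smul, mul_smul, inv_smul_smul]
    have := ht (γ⁻¹ • a) (γ⁻¹ • b) (by rwa [sqNorm_smul])
      (hab.imp (And.imp k k) (And.imp (fun e => by rw [k e, smul_neg]) fun e => by rw [k e, smul_neg]))
      (fun u hu => by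
        rw [← k0.act_φ, ← k0.om_act γ, k0.act_act_inv]
        exact h1 _ (by rw [k0.act_mul, k0.act_mul, k0.act_inv_act, hu])) (k0.act γ⁻¹ w)
      (k0.act_injective γ (by rw [← k0.act_mul, ← k0.act_mul, hw, k0.act_act_inv]))
    rwa [← k0.act_φ, k0.om_act] at this
  · intro t ht a b ha hab h1 w hw
    simp only [mul_smul, negAut_smul, smul_neg, neg_eq_iff_eq_neg, neg_neg, k0.act_mul, k0.act_neg] at hab h1 hw
    exact ht a b ha hab.symm h1 w hw

theorem pp_sgn {d : Finset GolayPt} (hd : IsCW d) (h : d.card = 8 ∨ d.card = 12) : PP (sgnAut d hd) := by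
  intro a b ha hab h1 w hw
  obtain ⟨x, rfl⟩ := k0.surj w
  obtain ⟨l, hl⟩ := k0.φ_eq_iff.1 ((k0.act_φ _ x).symm.trans hw)
  have e : ∀ i, l.1 i = if i ∈ d then -x.1 i else 0 := fun i => by
    have : (sgnAut d hd • x).1 i - x.1 i = 2 * l.1 i := congrArg (fun v : leechLattice => v.1 i) hl
    rw [sgnAut_smul_apply] at this
    split_ifs at this ⊢ <;> omega
  have pos : ∀ {u : leechLattice}, sgnAut d hd • u = u → ∀ i ∉ dᶜ, u.1 i = 0 := fun {u} k i hi => by
    have := congrArg (fun v : leechLattice => v.1 i) k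
    simp only [sgnAut_smul_apply, if_pos (not_not.1 (mt mem_compl.2 hi))] at this
    omega
  have neg : ∀ {u : leechLattice}, sgnAut d hd • u = -u → ∀ i ∉ d, u.1 i = 0 := fun {u} k i hi => by
    have : (sgnAut d hd • u).1 i = -u.1 i := congrArg (fun v : leechLattice => v.1 i) k
    rw [sgnAut_smul_apply, if_neg hi] at this
    omega
  rw [k0.om_φ, ipL_eq_zero]
  rcases hab with ⟨e1, e2⟩ | ⟨e1, e2⟩
  · rcases h with h | h
    · obtain ⟨w, hw⟩ := exists_eq_add_of_perp (sgnAut_mul_self d hd) h1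
      obtain ⟨y, rfl⟩ := k0.surj w
      obtain ⟨n, hn⟩ : Cong a (y - sgnAut d hd • y) := k0.φ_eq_iff.1 (by
        rw [← hw, sub_eq_add_neg, map_add, k0.φ_neg, k0.act_φ, add_comm])
      have e3 : ∀ i ∈ dᶜ, a.1 i = 2 * n.1 i := fun i hi => by
        have : a.1 i - (y.1 i - (sgnAut d hd • y).1 i) = 2 * n.1 i := congrArg (fun v : leechLattice => v.1 i) hn
        rwa [sgnAut_smul_apply, if_neg (mem_compl.1 hi), sub_self, sub_zero] at this
      have e4 : ∑ i ∈ dᶜ, n.1 i ^ 2 = 8 := by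
        rw [sqNorm, ← sum_subset (subset_univ dᶜ) fun i _ hi => by rw [pos e1 i hi]; rfl,
          sum_congr rfl fun i hi => by rw [e3 i hi, mul_pow], ← mul_sum] at ha
        omega
      have c16 : dᶜ.card = 16 := by rw [card_compl, card_pt, h]
      rcases even_or_odd n.2 with ev | od
      · have e5 : ∑ i ∈ cw n.1 \ d, (4 : ℤ) ≤ 8 := e4 ▸ (sum_le_sum fun i hi => by
          have := ev i
          have := mem_cw.1 (mem_sdiff.1 hi).1
          rcases (by omega : n.1 i ≤ -2 ∨ 2 ≤ n.1 i) with k | k <;> nlinarith).trans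
            (sum_le_sum_of_subset_of_nonneg (fun i hi => mem_compl.2 (mem_sdiff.1 hi).2) fun i _ _ => sq_nonneg _)
        rw [sum_const, nsmul_eq_mul] at e5
        have e6 : cw n.1 \ d = ∅ := by
          have c1 := (isCW_cw n.2).card_eq
          have c2 := ((isCW_cw n.2).symmDiff hd).card_eq
          rw [symmDiff_def, sup_eq_union, card_union_of_disjoint disjoint_sdiff_sdiff] at c2
          have := card_sdiff_add_card_inter (cw n.1) d
          have := card_sdiff_add_card_inter d (cw n.1)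
          rw [inter_comm] at this
          exact card_eq_zero.1 (by omega)
        have e7 : (16 : ℤ) ∣ ∑ i ∈ dᶜ, n.1 i ^ 2 := dvd_sum fun i hi => by
          have := ev i
          have : ¬ 2 ≤ n.1 i % 4 := fun k => notMem_empty i (e6 ▸ mem_sdiff.2 ⟨mem_cw.2 k, mem_compl.1 hi⟩)
          exact pow_dvd_pow_of_dvd (show (4 : ℤ) ∣ _ by omega) 2
        omega
      · have : ∑ i ∈ dᶜ, (1 : ℤ) ≤ 8 := e4 ▸ sum_le_sum fun i _ => by
          have := od i
          rcases (by omega : n.1 i ≤ -1 ∨ 1 ≤ n.1 i) with k | k <;> nlinarith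
        rw [sum_const, c16] at this
        exact absurd this (by decide)
    · have := dot16 hd.compl (by rw [card_compl, card_pt, h]) (x := x + l) (fun i hi => by
        rw [AddSubgroup.coe_add, Pi.add_apply, e, if_pos (not_not.1 (mt mem_compl.2 hi)), add_neg_cancel]) (pos e2)
      rwa [AddSubgroup.coe_add, Leech.dotInt_add_left, show dotInt l.1 b.1 = 0 from sum_eq_zero fun i _ => by
        rw [e]; split_ifs with k
        exacts [by rw [pos e2 i fun j => mem_compl.1 j k, mul_zero], zero_mul _], add_zero] at this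
  · have := dot16 hd (by omega) (x := -l) (fun i hi => by
      rw [AddSubgroup.coe_neg, Pi.neg_apply, e, if_neg hi, neg_zero]) (neg e2)
    rwa [show dotInt (-l).1 b.1 = dotInt x.1 b.1 from sum_congr rfl fun i _ => by
      rw [AddSubgroup.coe_neg, Pi.neg_apply, e]; split_ifs with k
      exacts [by rw [neg_neg], by rw [neg e2 i k, mul_zero, mul_zero]]] at this

end SqP

open SqP in
theorem sq0 {c : C k0} (hc : c ∈ DK) : c * c ≠ tK := fun h => by
  obtain ⟨x, rfl⟩ := mk_surjective c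
  have hp := (mem_img_pair (κ := k0) (sqNorm_dlL (p := none) (r := some 0) (by decide))
    (sqNorm_dlL (p := none) (r := some 1) (by decide)) (dot_dlL (by decide) (by decide) (by decide)) (g := x.g)).1
    ⟨x, by rw [← C1_eq, ← C1_eq]; exact hc, rfl⟩
  have e : ∀ u, cε (mk k0 x) u + cε (mk k0 x) (k0.act x.g u) = om v0 u := fun u => by
    rw [← cact_mk, ← cε_mul, h, tK_eq, cε_q]
  have h1 : ∀ w, k0.act x.g w = w → om w v0 = 0 := fun w hw => by rw [om_comm, ← e, hw, z2_add_self]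
  obtain ⟨hg, hP⟩ : x.g * x.g = 1 ∧ PP x.g := by
    obtain ⟨d, hd, h8⟩ := exists_oct
    rcases Co1Rec.inv3 (t := (x.g : Spor.Co1)) (by
      rw [← toCo1_mk, ← map_mul, h, toCo1_eq_one]; exact tK_mem_Q) (fun k => by
        obtain ⟨e, w, k⟩ := toCo1_eq_one.1 ((toCo1_mk x).trans k)
        rw [k, q_mul_self, tK_eq] at h
        exact XP.v0_ne (q_inj h).2.symm) with k | k | k
    · exact ⟨(Co1Rec.conj_zz k).2, (pp_sgn hd (Or.inl h8)).transport ((Co1Rec.conj_oct hd (Or.inl h8)).symm.trans k)⟩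
    · have hd : IsCW (Golay.ofMask 340831) := isCW_ofMask (by decide +kernel)
      have h12 : (Golay.ofMask 340831).card = 12 := by decide +kernel
      exact ⟨(Co1Rec.conj_cc k).2, (pp_sgn hd (Or.inr h12)).transport ((Co1Rec.conj_dod hd h12).symm.trans k)⟩
    · have := congrArg (· • dlL none (some 0)) (Co1Rec.conj_uu k)
      simp only [mul_smul, negAut_smul] at this
      refine absurd ?_ (ne_neg_self (u := dlL none (some 0)) (by decide))
      rcases hp with p | p
      exacts [by rwa [p.1, p.1] at this, by rwa [p.1, smul_neg, p.1, neg_neg] at this]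
  have h2 := hP _ _ (sqNorm_dlL (by decide)) hp h1
  obtain ⟨w, w1, w2⟩ := exists_odd hg (sqNorm_dlL (by decide)) (sqNorm_dlL (by decide))
    (Or.inl (dot_dlL (by decide) (by decide) (by decide))) h1 h2
  obtain ⟨u, hu⟩ := exists_eq_add_of_perp hg h2
  have e1 := cε_add (mk k0 x) (k0.act x.g u) u
  have e2 := qf_add (k0.act x.g u) u
  rw [hu, qf_of_short short_s1, k0.qf_act, z2_add_self, zero_add, om] at e2
  rw [hu, (mem_DK_iff.1 hc).2.1, add_comm (cε _ _), e, cact_mk, cact_mk, act_act hg] at e1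
  rw [← hu, om_add_right, ← k0.om_act x.g w, act_act hg, ← om_add_left, w1] at w2
  rw [w2] at e1
  revert e1 e2
  generalize bet (k0.act x.g u) u = a, bet u (k0.act x.g u) = b
  revert a b
  decide

end CfsgLib.StdB
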