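import Mathlib
import Cfsg.Agent.Lib.StdB.Sq
import Cfsg.Agent.Lib.MonS.Four

/-! STDB, package CLS (plans/STDB.md §CLS). -/

set_option autoImplicit false

namespace CfsgLib.StdB

open Cfsg CfsgLib.Leech CfsgLib.Mon CfsgLib.DCX CfsgLib.StdM Subgroup

variable {M : Type*} [Group M] {π : C k0 →* M} {τ : M}

namespace FusP

theorem a_mul_self : tK1 * tK1 = 1 := by rw [a_eq, q_mul_self_eq_one, qf_of_short short_s1]

theorem ta_eq : tK * tK1 = q k0 (0 + 0 + bet v0 s1) (v0 + s1) := by rw [tK_eq, a_eq, q_mul]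

theorem s1_ne : s1 ≠ 0 := MonRec.Sv.ne short_s1

theorem tt (π : C k0 →* M) (x : M) : π tK * (π tK * x) = x := by rw [← mul_assoc, MS.t_mul_self, one_mul]

/-- `n` normalizes `⟨t, a⟩` and centralizes `t` -/
def Nm (π : C k0 →* M) (n : M) : Prop :=
  n * π tK = π tK * n ∧ (n * π tK1 * n⁻¹ = π tK1 ∨ n * π tK1 * n⁻¹ = π tK * π tK1)

theorem Nm.t {n : M} (h : Nm π n) : n * π tK * n⁻¹ = π tK := by rw [h.1, mul_inv_cancel_right]

theorem Nm.mem {n l : M} (h : Nm π n) (hl : l ∈ LM π) : n * l * n⁻¹ ∈ LM π := by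
  obtain ⟨h1, h2⟩ := mem_cen2.1 hl
  have k : ∀ x, Commute l x → Commute (n * l * n⁻¹) (n * x * n⁻¹) := fun x hx => hx.map (MulAut.conj n)
  have k1 := h.t ▸ k _ h1
  refine mem_cen2.2 ⟨k1, h.2.elim (fun e => e ▸ k _ h2) fun e => ?_⟩
  have := k _ ((show Commute _ _ from h1).mul_right h2)
  rwa [← conj_mul, h.t, e, tt] at this

theorem mem_of {n : M} (h1 : n * π tK = π tK * n) (h2 : n * π tK1 * n⁻¹ = π tK1) : n ∈ LM π :=
  mem_cen2.2 ⟨h1, mul_inv_eq_iff_eq_mul.1 h2⟩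

theorem swap_mul {n n' : M} (h1 : n * π tK = π tK * n) (h2 : n * π tK1 * n⁻¹ = π tK * π tK1)
    (h3 : n' * π tK1 * n'⁻¹ = π tK * π tK1) : n * n' * π tK1 * (n * n')⁻¹ = π tK1 := by
  rw [show n * n' * π tK1 * (n * n')⁻¹ = n * (n' * π tK1 * n'⁻¹) * n⁻¹ by group, h3, ← conj_mul, h2, h1,
    mul_inv_cancel_right, tt]

end FusP

open FusP

theorem MB.index_ι (h : MB π τ) : (ιL π).range.index = 3968055 := by
  have h1 := (ιL π).range.card_mul_index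
  rw [h.cardL, ← Nat.card_congr (MonoidHom.ofInjective (f := ιL π) fun a b e =>
    Subtype.ext (h.inj (congrArg Subtype.val e))).toEquiv, card_DD (by decide) (by decide) (by decide)] at h1
  omega

theorem MB.conj_D (h : MB π τ) {l : LM π} {n : ℕ} (hl : l ^ 2 ^ n = 1) : ∃ k c, k * l * k⁻¹ = ιL π c := by
  have := h.finite
  have h1 : IsPGroup 2 (zpowers l) := IsPGroup.of_card_dvd_pow (n := n) (by
    rw [Nat.card_zpowers]; exact orderOf_dvd_of_pow_eq_one hl)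
  obtain ⟨x, hx⟩ := h1.nonempty_fixed_point_of_prime_not_dvd_card (LM π ⧸ (ιL π).range) (by
    rw [← Subgroup.index, h.index_ι]; decide)
  obtain ⟨g, rfl⟩ := QuotientGroup.mk_surjective x
  obtain ⟨c, hc⟩ := QuotientGroup.eq.1 (hx ⟨l, mem_zpowers l⟩).symm
  exact ⟨g⁻¹, c, by rw [hc, inv_inv, mul_assoc]; rfl⟩

theorem conj_t (k : LM π) : k.1 * π tK * k.1⁻¹ = π tK := by rw [(mem_cen2.1 k.2).1, mul_inv_cancel_right]

theorem conj_a (k : LM π) : k.1 * π tK1 * k.1⁻¹ = π tK1 := by rw [(mem_cen2.1 k.2).2, mul_inv_cancel_right]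

theorem exists_swap' (π : C k0 →* M) : ∃ k ∈ CK, π k * π tK = π tK * π k ∧ π k * π tK1 * (π k)⁻¹ = π tK * π tK1 := by
  obtain ⟨k, h1, h2⟩ := Mon.exists_swap
  exact ⟨k, h1, by rw [← map_mul, mem_CK.1 h1, map_mul], by
    rw [← map_inv, ← map_mul, ← map_mul, h2, mem_CK.1 tK1_mem_CK, map_mul]⟩

theorem MB.sq_ne (h : MB π τ) (l : LM π) :
    l.1 * l.1 ≠ π tK ∧ l.1 * l.1 ≠ π tK1 ∧ l.1 * l.1 ≠ π tK * π tK1 := by
  have k1 : ∀ l : LM π, l.1 * l.1 ≠ π tK := fun l e => by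
    obtain ⟨k, c, hc⟩ := h.conj_D (l := l) (n := 2) (Subtype.ext (by
      rw [coe_pow, show 2 ^ 2 = 2 * 2 from rfl, pow_mul, pow_two, pow_two, e, MS.t_mul_self]; rfl))
    refine sq0 c.2 (h.inj ?_)
    rw [map_mul, ← coe_ιL, ← hc, coe_mul, coe_mul, coe_inv, conj_mul, e, conj_t]
  have k2 : ∀ l : LM π, l.1 * l.1 ≠ π tK1 := fun l e => by
    obtain ⟨c, hc⟩ := MonS.conj_w3 (Equiv.swap 1 2)
    have c1 : π c * π tK1 * (π c)⁻¹ = π tK := by rw [← map_inv, ← map_mul, ← map_mul]; exact congrArg π (hc 1)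
    have c2 : π c * π tK * (π c)⁻¹ = π tK1 := by rw [← map_inv, ← map_mul, ← map_mul]; exact congrArg π (hc 2)
    obtain ⟨a, b⟩ := mem_cen2.1 l.2
    refine k1 ⟨π c * l.1 * (π c)⁻¹, mem_cen2.2 ⟨?_, ?_⟩⟩ (by rw [conj_mul, e, c1])
    · rw [← c1, conj_mul, conj_mul, b]
    · rw [← c2, conj_mul, conj_mul, a]
  refine ⟨k1 l, k2 l, fun e => ?_⟩
  obtain ⟨k, -, a, b⟩ := exists_swap' π
  exact k2 ⟨_, Nm.mem ⟨a, Or.inr b⟩ l.2⟩ (by rw [conj_mul, e, ← conj_mul, b, a, mul_inv_cancel_right, tt])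

theorem MB.mem_D (h : MB π τ) {l : LM π}
    (k : l.1 * π (z k0) * l.1⁻¹ = π (z k0) ∨ l.1 * π (z k0) * l.1⁻¹ = π tK * π (z k0)) : ∃ c, ιL π c = l := by
  obtain ⟨c, hc⟩ := h.cent_z.ge (mem_centralizer_singleton_iff.2 (mul_inv_eq_iff_eq_mul.1 (k.resolve_right fun e =>
    h.not_isConj ((isConj_iff.2 ⟨_, e⟩).trans (MS.isConj_t_mul π).symm))))
  have := mem_cen2.1 (hc ▸ l.2)
  exact ⟨⟨c, mem_DK.2 ⟨h.comm_iff.1 this.1, h.comm_iff.1 this.2⟩⟩, Subtype.ext hc⟩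

theorem isConj_ta (π : C k0 →* M) : IsConj (π tK) (π tK * π tK1) := by
  rw [← map_mul, ta_eq]; exact (add_comm s1 v0 ▸ Om_s1.2).isConj π _

theorem MB.clsz (h : MB π τ) {b : LM π} (h1 : IsConj (π (z k0)) b.1) (h2 : ¬ IsConj (π (z k0)) (π tK1 * b.1))
    (h3 : ¬ IsConj (π (z k0)) (π tK * (π tK1 * b.1))) : IsConj (zL π) b := by
  obtain ⟨m, hm⟩ := isConj_iff.1 h1
  have cj : ∀ {x}, IsConj (π tK) x → IsConj (π tK) (m⁻¹ * x * m) := fun k =>
    k.trans (isConj_iff.2 ⟨m⁻¹, by rw [inv_inv]⟩)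
  have key : ∀ x, IsConj (π tK) x → Commute b.1 x → ¬ IsConj (π (z k0)) (x * b.1) →
      ∃ e w, IsShort k0 w ∧ m⁻¹ * x * m = π (q k0 e w) := fun x a1 a2 a3 => by
    obtain ⟨c, hc⟩ := h.exists_eq_of_not_isConj (cj a1) (by
      calc _ = m⁻¹ * (x * b.1) * m := by rw [← hm]; group
        _ = _ := by rw [← a2.eq, ← hm]; group) fun e => a3 (e.trans (isConj_iff.2 ⟨m, by rw [← hm]; group⟩))
    have := cj a1
    rw [← map_inv, ← map_mul, ← map_mul, tK_eq, conj_q] at hc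
    exact ⟨_, _, h.short_q (hc ▸ this), hc⟩
  obtain ⟨c1, c2⟩ := mem_cen2.1 b.2
  obtain ⟨e, _, ⟨u, hu, rfl⟩, k1⟩ := key _ (MS.isConj_tK1 π) c2 h2
  obtain ⟨e', w, hw, k2⟩ := key _ (isConj_ta π) ((show Commute _ _ from c1).mul_right c2) (mul_assoc (π tK) _ _ ▸ h3)
  have k3 : m⁻¹ * π tK * m = π (q k0 (e' + e + bet w (k0.φ u)) (w + k0.φ u)) := by
    rw [← q_mul, map_mul, ← k1, ← k2]
    calc _ = m⁻¹ * (π tK * (π tK1 * π tK1)) * m := by rw [← map_mul π tK1, a_mul_self, map_one, mul_one]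
      _ = _ := by group
  obtain ⟨v, v1, v2, v3⟩ := MonRec.exists_dot hu (h.short_q (k3 ▸ cj (IsConj.refl _))) (by
    rw [add_comm w, XP.add_add']; exact hw)
  rw [← v2] at k3
  obtain ⟨c, d1, d2⟩ := conj_pair (κ := k0) (v := dlL none (some 1)) sqNorm_tK (sqNorm_dlL (by decide)) v1 hu
    ((dot_dlL (by decide) (by decide) (by decide)).trans (dotInt_comm _ _ ▸ v3).symm)
    (φ_add_ne_zero v1 hu (dotInt_comm _ _ ▸ v3)) 0 0 (e' + e + bet w (k0.φ u)) e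
  rw [← tK_eq] at d1
  rw [← a_eq] at d2
  have f : ∀ x y : C k0, c * x * c⁻¹ = y → m⁻¹ * π x * m = π y → m * π c * π x = π x * (m * π c) := fun x y a b => by
    calc _ = m * π (c * x * c⁻¹) * π c := by rw [map_mul, map_mul, map_inv]; group
      _ = _ := by rw [a, ← b]; group
  refine isConj_iff.2 ⟨⟨m * π c, mem_cen2.2 ⟨f _ _ d1 k3, f _ _ d2 k1⟩⟩, Subtype.ext ?_⟩
  change m * π c * π (z k0) * (m * π c)⁻¹ = _
  rw [mul_assoc m, h.comm_iff.2 (z_comm c), ← hm]; group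

theorem MB.cls_az (h : MB π τ) {x : LM π} (h1 : IsConj (π tK) x.1) (h2 : IsConj (π tK) (π tK * x.1)) :
    x.1 = π tK1 ∨ x.1 = π tK * π tK1 ∨ ∃ y, IsConj (aL π * zL π) y ∧ (x.1 = y.1 ∨ x.1 = π tK * y.1) := by
  by_contra! n
  obtain ⟨n1, n2, n3⟩ := n
  have aa : ∀ y, π tK1 * (π tK1 * y) = y := fun y => by rw [← mul_assoc, ← map_mul, a_mul_self, map_one, one_mul]
  have ta : ∀ y, π tK1 * (π tK * y) = π tK * (π tK1 * y) := fun y => by
    rw [← mul_assoc, ← mul_assoc, show π tK1 * π tK = _ from (mem_cen2.1 (aL π).2).1]; rfl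
  have nz : ∀ {y}, IsConj (π tK) y → ¬ IsConj (π (z k0)) y := fun k e => h.not_isConj (e.trans k.symm)
  have key : ∀ y : LM π, IsConj (π tK) y.1 → IsConj (π tK) (π tK * y.1) → y.1 ≠ π tK1 →
      ¬ IsConj (aL π * zL π) y → IsConj (π tK) (π tK1 * y.1) := fun y a1 a2 a3 a4 => by
    have y2 := MS.mul_self_of_isConj a1
    refine (h.inv_cases (orderOf_eq_prime ?_ fun e => a3 (by rw [← aa y.1, e, mul_one]))).resolve_left fun e => a4 ?_
    · rw [pow_two, mul_assoc, ← mul_assoc y.1, (mem_cen2.1 y.2).2, mul_assoc, aa, y2]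
    · obtain ⟨k, hk⟩ := isConj_iff.1 (h.clsz (b := aL π * y) e (by rw [coe_mul, coe_aL, aa]; exact nz a1)
        (by rw [coe_mul, coe_aL, aa]; exact nz a2))
      refine isConj_iff.2 ⟨k, ?_⟩
      rw [← conj_mul, hk, aL_comm π k, mul_inv_cancel_right]
      exact Subtype.ext (aa _)
  have tm : π tK ∈ LM π := mem_cen2.2 ⟨rfl, (mem_cen2.1 (aL π).2).1.symm⟩
  have h3 := key x h1 h2 n1 fun e => (n3 x e).1 rfl
  have h4 := key (⟨_, tm⟩ * x) h2 (by rw [coe_mul, tt]; exact h1) (fun e => n2 (by rw [← e]; exact (tt π _).symm))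
    fun e => (n3 _ e).2 (tt π _).symm
  obtain ⟨k, c, hc⟩ := h.conj_D (l := x) (n := 1) (Subtype.ext (by
    rw [pow_one, pow_two]; exact MS.mul_self_of_isConj h1))
  have hc' : k.1 * x.1 * k.1⁻¹ = π c := congrArg Subtype.val hc
  have c1 := (mem_DK.1 c.2).1
  have c2 := (mem_DK.1 c.2).2
  refine h.not_pure_C (a := tK) (b := tK1) (c := c) tK_mem_Q (a_eq ▸ q_mem_Q _ _) (h1.trans (isConj_iff.2 ⟨_, hc'⟩))
    (IsConj.refl _) (MS.isConj_tK1 π) (map_mul π _ _ ▸ isConj_ta π) (h2.trans (isConj_iff.2 ⟨k.1, ?_⟩))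
    (h3.trans (isConj_iff.2 ⟨k.1, ?_⟩)) (h4.trans (isConj_iff.2 ⟨k.1, ?_⟩))
  · rw [← conj_mul, conj_t, hc', c1, map_mul]
  · rw [← conj_mul, conj_a, hc', c2, map_mul]
  · rw [coe_mul, ← conj_mul, ← conj_mul, conj_a, conj_t, hc', c1, mul_assoc, c2, map_mul, map_mul, ta]

theorem MB.conj_CK (h : MB π τ) {n : M} (h1 : n * π tK = π tK * n) (h2 : n * π tK1 * n⁻¹ = π tK * π tK1)
    (h3 : ∀ l : LM π, n * n * l.1 = l.1 * (n * n)) : ∃ k : LM π, ∃ c ∈ CK, π c = k.1⁻¹ * n * k.1 := by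
  classical
  have := h.finite
  have hn : Nm π n := ⟨h1, Or.inr h2⟩
  obtain ⟨s, -, s1, s2⟩ := exists_swap' π
  have m : n * π s ∈ LM π := mem_of ((show Commute _ _ from h1).mul_left s1) (swap_mul h1 h2 s2)
  let Z := {y : LM π | IsConj (zL π) y}
  let f : Z → Z := fun y => ⟨⟨_, hn.mem y.1.2⟩, by
    obtain ⟨k, hk⟩ := isConj_iff.1 y.2
    refine isConj_iff.2 ⟨⟨_, hn.mem k.2⟩ * ⟨_, m⟩, Subtype.ext ?_⟩
    change n * k.1 * n⁻¹ * (n * π s) * π (z k0) * (n * k.1 * n⁻¹ * (n * π s))⁻¹ = n * y.1.1 * n⁻¹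
    rw [← hk, mul_assoc _ _ (π _), mul_assoc n (π s), h.comm_iff.2 (z_comm s), coe_mul, coe_mul, coe_inv, coe_zL]; group⟩
  have hf : Function.Involutive f := fun y => Subtype.ext (Subtype.ext (by
    change n * (n * y.1.1 * n⁻¹) * n⁻¹ = _
    rw [show n * (n * y.1.1 * n⁻¹) * n⁻¹ = n * n * y.1.1 * (n * n)⁻¹ by group, h3, mul_inv_cancel_right]))
  have hZ : Nat.card Z = 3968055 := by
    have e1 := ncard_isConj_mul (zL π)
    have e2 := (ιL π).range.index_mul_card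
    rw [show centralizer {zL π} = (ιL π).range from le_antisymm (fun l hl => h.mem_D (Or.inl (mul_inv_eq_iff_eq_mul.2
      (congrArg Subtype.val (mem_centralizer_singleton_iff.1 hl))))) (by
        rintro _ ⟨c, rfl⟩
        exact mem_centralizer_singleton_iff.2 (Subtype.ext (h.comm_iff.2 (z_comm _)))), ← e2, h.index_ι] at e1
    exact Nat.eq_of_mul_eq_mul_right Nat.card_pos e1
  have := Fintype.ofFinite Z
  obtain ⟨y, hy⟩ := Equiv.Perm.exists_fixed_point_of_prime (p := 2) (n := 1) (σ := hf.toPerm)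
    (by rw [← Nat.card_eq_fintype_card, hZ]; decide) (by rw [pow_one, pow_two]; exact Equiv.ext hf)
  obtain ⟨k, hk⟩ := isConj_iff.1 y.2
  have e : n * (k.1 * π (z k0) * k.1⁻¹) * n⁻¹ = k.1 * π (z k0) * k.1⁻¹ := by
    have := congrArg (fun y : Z => y.1.1) hy
    change n * y.1.1 * n⁻¹ = y.1.1 at this
    rwa [← hk] at this
  obtain ⟨c, hc⟩ := h.cent_z.ge (mem_centralizer_singleton_iff.2 (show k.1⁻¹ * n * k.1 * π (z k0) = _ by
    calc _ = k.1⁻¹ * (n * (k.1 * π (z k0) * k.1⁻¹) * n⁻¹) * n * k.1 := by group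
      _ = _ := by rw [e]; group))
  refine ⟨k, c, mem_CK.2 (h.comm_iff.1 ?_), hc⟩
  have kt : Commute k.1 (π tK) := (mem_cen2.1 k.2).1
  exact hc ▸ ((kt.inv_left.mul_left h1).mul_left kt).eq

end CfsgLib.StdB
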