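import Mathlib
import Cfsg.Agent.Lib.StdB.Cls
import Cfsg.Agent.Lib.StdInt.Amb

/-! Standard subgroups of type `²E₆(2)` with centre of even order (plans/STDB.md §STD): interfaces. -/

set_option autoImplicit false

namespace CfsgLib.StdB

open Cfsg CfsgLib.Leech CfsgLib.Mon CfsgLib.DCX CfsgLib.StdM Subgroup FusP
open CfsgLib.StdInt (Two cj mem_cj two_conj two_of_sq eq_one_of_odd_two odd_of_pow)

variable {M G : Type*} [Group M] [Group G] {π : C k0 →* M} {τ : M}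

/-- the four-group `⟨t, a⟩` -/
def InE (π : C k0 →* M) (x : M) : Prop := x = 1 ∨ x = π tK ∨ x = π tK1 ∨ x = π tK * π tK1

/-- `h` acts like `n` -/
def Ac (R : Subgroup (LM π × G)) (n : M) (h : G) : Prop :=
  ∀ (l l' : LM π) (x : G), l'.1 = n * l.1 * n⁻¹ → (l, x) ∈ R → (l', h * x * h⁻¹) ∈ R

/-- `h` acts like an element centralizing `t` -/
def Ft (R : Subgroup (LM π × G)) (h : G) : Prop := ∃ n, Nm π n ∧ Ac R n h

/-- `R` is a common cover of `LM` and `A` -/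
structure Cov (τ : M) (A : Subgroup G) (R : Subgroup (LM π × G)) : Prop extends MB π τ where
  mem : ∀ {l x}, (l, x) ∈ R → x ∈ A
  ex1 : ∀ l, ∃ x, (l, x) ∈ R
  ex2 : ∀ x ∈ A, ∃ l, (l, x) ∈ R
  odd : ∀ {x}, (1, x) ∈ R → x ^ 3 = 1
  cen : ∀ {l x}, (l, x) ∈ R → (x ∈ centralizer (A : Set G) ↔ InE π l.1)
  ker : ∀ {l}, (l, 1) ∈ R → l.1 = 1 ∨ l.1 = π tK
  perf : ∀ g ∈ normalizer (A : Set G), (∀ x ∈ A, g * x * g⁻¹ * x⁻¹ ∈ centralizer (A : Set G)) →
    g ∈ centralizer (A : Set G)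
  act : ∀ h ∈ normalizer (A : Set G), ∃ n, (∀ x, InE π x → InE π (n * x * n⁻¹)) ∧ Ac R n h
  cls : ∀ l : LM π, l.1 * l.1 = 1 → InE π l.1 ∨ ∃ (k : LM π) (e : ZMod 2), ∃ w ∈ WW,
    k.1 * l.1 * k.1⁻¹ = π (q k0 e w) ∧ (InE π (π (q k0 e w) * π (z k0)) ∨ Commute τ (π (q k0 e w)))

/-- the elements of `Q ⊓ DK` in `LM` -/
noncomputable def ql (π : C k0 →* M) (e : ZMod 2) (w : V24) : LM π := qL (MonoidHom.id _) e w

open _root_.Classical in
/-- the 2-element of `G` over `ql π e w` -/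
noncomputable def xq (R : Subgroup (LM π × G)) (e : ZMod 2) (w : V24) : G :=
  if h : ∃ x, (ql π e w, x) ∈ R ∧ Two x then h.choose else 1

/-- `s` is conjugate in `A` to the 2-element over `z` -/
def Zc (A : Subgroup G) (R : Subgroup (LM π × G)) (s : G) : Prop := ∃ x ∈ A, s = x * xq R 1 0 * x⁻¹

variable {A : Subgroup G} {R : Subgroup (LM π × G)} {e e' : ZMod 2} {v w : V24}

theorem coe_ql (e : ZMod 2) (hw : w ∈ WW) : (ql π e w).1 = π (q k0 e w) := by rw [ql, qL_def e hw]; rfl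

theorem two_mul' {x y : G} (c : Commute x y) (hx : Two x) (hy : Two y) : Two (x * y) :=
  let ⟨k, a⟩ := hx; let ⟨l, b⟩ := hy
  ⟨k + l, by rw [c.mul_pow, pow_add, pow_mul, a, one_pow, one_mul, mul_comm (2 ^ k), pow_mul, b, one_pow]⟩

theorem two_inv {x : G} (hx : Two x) : Two x⁻¹ := hx.imp fun k a => by rw [inv_pow, a, inv_one]

theorem two_of_mul_self {x : G} (hx : Two (x * x)) : Two x :=
  let ⟨k, a⟩ := hx; ⟨k + 1, by rw [pow_succ', pow_mul, pow_two, a]⟩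

theorem Ac.mul {n n' : M} {h h' : G} (hn : ∀ l ∈ LM π, n' * l * n'⁻¹ ∈ LM π) (k : Ac R n h) (k' : Ac R n' h') :
    Ac R (n * n') (h * h') := fun l l' x e m => by
  have := k ⟨_, hn _ l.2⟩ l' _ (by rw [e]; group) (k' l ⟨_, hn _ l.2⟩ x rfl m)
  rwa [show h * (h' * x * h'⁻¹) * h⁻¹ = h * h' * x * (h * h')⁻¹ by group] at this

theorem ac_of_mem {k : LM π} {y : G} (m : (k, y) ∈ R) : Ac R k.1 y := fun l l' x e m' => by
  rw [show l' = k * l * k⁻¹ from Subtype.ext e]; exact mul_mem (mul_mem m m') (inv_mem m)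

namespace Cov

variable (h : Cov τ A R)
include h

theorem cen_one {x : G} (m : (1, x) ∈ R) : x ∈ centralizer (A : Set G) := (h.cen m).2 (Or.inl rfl)

theorem uniq {l : LM π} {x y : G} (m : (l, x) ∈ R) (m' : (l, y) ∈ R) (hx : Two x) (hy : Two y) : x = y := by
  have k : ((1 : LM π), x⁻¹ * y) ∈ R := by simpa using mul_mem (inv_mem m) m'
  have c : Commute x⁻¹ y := by
    have : Commute x (x⁻¹ * y) := h.cen_one k x (h.mem m)
    simpa using ((Commute.refl x).mul_right this).inv_left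
  exact inv_mul_eq_one.1 (eq_one_of_odd_two (odd_of_pow (by decide) (h.odd k)) (two_mul' c (two_inv hx) hy))

theorem exists_two {l : LM π} (hl : l ^ 4 = 1) : ∃ x, (l, x) ∈ R ∧ Two x := by
  obtain ⟨x, m⟩ := h.ex1 l
  have k : ((1 : LM π), x ^ 4) ∈ R := by simpa [hl] using pow_mem m 4
  refine ⟨x ^ 9, ?_, 2, by rw [← pow_mul, show 9 * 2 ^ 2 = 4 * 3 * 3 from rfl, pow_mul, pow_mul, h.odd k, one_pow]⟩
  have := pow_mem m 9
  rwa [Prod.pow_mk, show 9 = 4 * 2 + 1 from rfl, pow_succ l, pow_mul l, hl, one_pow, one_mul] at this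

theorem xq_spec (e : ZMod 2) (hw : w ∈ WW) : (ql π e w, xq R e w) ∈ R ∧ Two (xq R e w) := by
  have : ∃ x, (ql π e w, x) ∈ R ∧ Two x := h.exists_two (by
    rw [show 4 = 2 * 2 from rfl, pow_mul, pow_two, pow_two, ql, qL_mul_self e hw, qL_mul_self _ (zero_mem _)]
    simpa [qf] using qL_zero)
  rw [xq, dif_pos this]; exact this.choose_spec

theorem xq_mem (e : ZMod 2) (hw : w ∈ WW) : xq R e w ∈ A := h.mem (h.xq_spec e hw).1

theorem eq_xq {l : LM π} {x : G} (hw : w ∈ WW) (k : l.1 = π (q k0 e w)) (m : (l, x) ∈ R) (hx : Two x) :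
    x = xq R e w :=
  h.uniq m ((show l = ql π e w from Subtype.ext (k.trans (coe_ql e hw).symm)) ▸ (h.xq_spec e hw).1) hx
    (h.xq_spec e hw).2

theorem xq_zero : xq R 0 0 = 1 :=
  (h.eq_xq (l := 1) (zero_mem _) (by rw [q_zero, map_one]; rfl) (one_mem R) ⟨0, one_pow _⟩).symm

theorem act_xq {c : C k0} {y : G} (hn : Nm π (π c)) (k : Ac R (π c) y) (e : ZMod 2) (hw : w ∈ WW) :
    cact c w ∈ WW ∧ y * xq R e w * y⁻¹ = xq R (e + cε c w) (cact c w) := by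
  have e1 : π c * (ql π e w).1 * (π c)⁻¹ = π (q k0 (e + cε c w) (cact c w)) := by
    rw [coe_ql e hw, ← map_inv, ← map_mul, ← map_mul, conj_q]
  have m := mem_cen2.1 (e1 ▸ hn.mem (ql π e w).2)
  have hw' := q_mem_DK.1 (mem_DK.2 ⟨h.comm_iff.1 m.1, h.comm_iff.1 m.2⟩)
  exact ⟨hw', h.eq_xq hw' (l := ⟨_, hn.mem (ql π e w).2⟩) e1 (k _ _ _ rfl (h.xq_spec e hw).1)
    (two_conj y (h.xq_spec e hw).2)⟩

theorem xq_conj (e e' : ZMod 2) (hv : v ∈ WW) (hw : w ∈ WW) :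
    xq R e v * xq R e' w * (xq R e v)⁻¹ = xq R (e' + om v w) w := by
  have k := ac_of_mem (h.xq_spec e hv).1
  have m := mem_cen2.1 (ql π e v).2
  rw [coe_ql e hv] at k m
  simpa only [cε_q, cact_q] using (h.act_xq ⟨m.1, Or.inl (mul_inv_eq_iff_eq_mul.2 m.2)⟩ k e' hw).2

theorem xq_comm_z (e : ZMod 2) (hv : v ∈ WW) : Commute (xq R e v) (xq R 1 0) := by
  have := h.xq_conj e 1 hv (zero_mem _)
  rw [om_comm, om_zero_left, add_zero] at this
  exact mul_inv_eq_iff_eq_mul.1 this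

omit h in
theorem mul {l l' : LM π} {x y : G} (m : (l, x) ∈ R) (m' : (l', y) ∈ R) : (l * l', x * y) ∈ R := mul_mem m m'

omit h in
theorem inv {l : LM π} {x : G} (m : (l, x) ∈ R) : (l⁻¹, x⁻¹) ∈ R := inv_mem m

theorem xq_mul_self (e : ZMod 2) (hw : w ∈ WW) : xq R e w * xq R e w = xq R (qf w) 0 :=
  h.eq_xq (zero_mem _) (by rw [coe_mul, coe_ql e hw, ← map_mul, q_mul_self])
    (mul (h.xq_spec e hw).1 (h.xq_spec e hw).1) (two_mul' (Commute.refl _) (h.xq_spec e hw).2 (h.xq_spec e hw).2)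

theorem z_sq : xq R 1 0 * xq R 1 0 = 1 := by
  rw [h.xq_mul_self 1 (zero_mem _), ← h.xq_zero]; simp [qf]

theorem xq_mul (e e' : ZMod 2) (hv : v ∈ WW) (hw : w ∈ WW) :
    xq R e v * xq R e' w = xq R (e + e' + bet v w) (v + w) := by
  have k : ∀ {e e' v w}, v ∈ WW → w ∈ WW → Two (xq R e v * xq R e' w) →
      xq R e v * xq R e' w = xq R (e + e' + bet v w) (v + w) := fun {e e' v w} hv hw t =>
    h.eq_xq (add_mem hv hw) (by rw [coe_mul, coe_ql e hv, coe_ql e' hw, ← map_mul, q_mul])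
      (mul (h.xq_spec e hv).1 (h.xq_spec e' hw).1) t
  have k0' : ∀ {e e' w}, w ∈ WW → xq R e 0 * xq R e' w = xq R (e + e') w := fun {e e' w} hw => by
    have c := h.xq_conj e e' (zero_mem _) hw
    rw [om_zero_left, add_zero] at c
    simpa using k (zero_mem _) hw (two_mul' (mul_inv_eq_iff_eq_mul.1 c) (h.xq_spec e (zero_mem _)).2 (h.xq_spec e' hw).2)
  refine k hv hw (two_of_mul_self ?_)
  have : xq R e v * xq R e' w * (xq R e v * xq R e' w) =
      xq R e v * xq R e' w * (xq R e v)⁻¹ * (xq R e v * xq R e v * xq R e' w) := by group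
  rw [this, h.xq_conj e e' hv hw, h.xq_mul_self e hv, k0' hw]
  have c := h.xq_conj (e' + om v w) (qf v + e') hw hw
  rw [om_self, add_zero] at c
  exact two_mul' (mul_inv_eq_iff_eq_mul.1 c) (h.xq_spec _ hw).2 (h.xq_spec _ hw).2

theorem xq_mul_z (e : ZMod 2) (hw : w ∈ WW) : xq R e w * xq R 1 0 = xq R (e + 1) w := by
  simp [h.xq_mul e 1 hw (zero_mem _)]

theorem eq_or {l l' : LM π} {x : G} (m : (l, x) ∈ R) (m' : (l', x) ∈ R) : l.1 = l'.1 ∨ l.1 = π tK * l'.1 := by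
  have := h.ker (l := l * l'⁻¹) (by simpa using mul_mem m (inv_mem m'))
  rwa [coe_mul, coe_inv, mul_inv_eq_one, mul_inv_eq_iff_eq_mul] at this

theorem xq_inj (hv : v ∈ WW) (hw : w ∈ WW) (k : xq R e v = xq R e' w) : e = e' ∧ v = w ∨ v = w + v0 := by
  have := h.eq_or (h.xq_spec e hv).1 (k ▸ (h.xq_spec e' hw).1)
  rw [coe_ql e hv, coe_ql e' hw, ← map_mul, h.inj.eq_iff, h.inj.eq_iff, tK_eq, q_mul] at this
  exact this.imp q_inj fun k => (q_inj k).2.trans (add_comm _ _)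

theorem xq_ev (hv : v ∈ WW) (hw : w ∈ WW) (k : xq R e v = xq R e' w) : Ev v w :=
  (h.xq_inj hv hw k).imp_left And.right

theorem sign_inj (hw : w ∈ WW) (k : xq R e w = xq R e' w) : e = e' :=
  (h.xq_inj hw hw k).elim And.left fun k => absurd (left_eq_add.1 k) XP.v0_ne

theorem z_ne : xq R 1 0 ≠ 1 := fun k => one_ne_zero (h.sign_inj (zero_mem _) (k.trans h.xq_zero.symm))

/-- an element acting like an element of `LM` -/
theorem inn {n : LM π} {y x : G} (hy : y ∈ normalizer (A : Set G)) (k : Ac R n.1 y) (m : (n, x) ∈ R) :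
    x⁻¹ * y ∈ centralizer (A : Set G) := by
  refine h.perf _ (mul_mem (inv_mem (le_normalizer (h.mem m))) hy) fun u hu => h.cen_one ?_
  obtain ⟨l, ml⟩ := h.ex2 u hu
  have := mul_mem (mul_mem (mul_mem (inv_mem m) (k l (n * l * n⁻¹) u rfl ml)) m) (inv_mem ml)
  simpa [mul_assoc] using this

/-- an element centralizing the 2-element over `z` acts like an element of `CK` -/
theorem act_z {y : G} (k : Ft R y) (hz : Commute y (xq R 1 0)) : ∃ c ∈ CK, Nm π (π c) ∧ Ac R (π c) y := by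
  obtain ⟨n, hn, k⟩ := k
  have k1 := k (ql π 1 0) ⟨_, hn.mem (ql π 1 0).2⟩ _ rfl (h.xq_spec 1 (zero_mem _)).1
  rw [hz.eq, mul_inv_cancel_right] at k1
  have k2 : n * _ * n⁻¹ = _ ∨ n * _ * n⁻¹ = _ := h.eq_or k1 (h.xq_spec 1 (zero_mem _)).1
  rw [coe_ql 1 (zero_mem _)] at k2
  obtain ⟨c, rfl⟩ := h.cent_z.ge (mem_centralizer_singleton_iff.2 (mul_inv_eq_iff_eq_mul.1 (k2.resolve_right fun e =>
    h.not_isConj ((isConj_iff.2 ⟨n, e⟩).trans (MS.isConj_t_mul π).symm))))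
  exact ⟨c, mem_CK.2 (h.comm_iff.1 hn.1), hn, k⟩

end Cov

end CfsgLib.StdB
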