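import Mathlib
import Cfsg.Agent.Lib.StdB.Defs
import Cfsg.Agent.Lib.StdM.PW

/-! STDB, package SLIN (plans/STDB-STD.md). -/

set_option autoImplicit false

namespace CfsgLib.StdB

open Cfsg CfsgLib.Leech CfsgLib.Mon CfsgLib.DCX CfsgLib.StdM Subgroup

/-- the classes of `WW` orthogonal to `σ` -/
noncomputable def U3' (σ : V24) : AddSubgroup V24 := WW ⊓ StdM.perp σ σ

theorem mem_U3' {σ u : V24} : u ∈ U3' σ ↔ u ∈ WW ∧ om u σ = 0 :=
  ⟨fun h => ⟨h.1, h.2.1⟩, fun h => ⟨h.1, h.2, h.2⟩⟩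

theorem perp_U3' {σ m : V24} (h : ∀ u ∈ U3' σ, om u m = 0) :
    Ev m 0 ∨ Ev m s1 ∨ Ev m σ ∨ Ev m (s1 + σ) := by
  have key : ∀ m, (∀ u ∈ WW, om u m = 0) → Ev m 0 ∨ Ev m s1 := fun m h => by
    rcases StdM.perp_perp (u := v0) (w := s1) (x := m) h with k | k | k | k
    exacts [Or.inl (Or.inl k), Or.inl (Or.inr (k.trans (zero_add _).symm)), Or.inr (Or.inl k),
      Or.inr (Or.inr (k.trans (add_comm _ _)))]
  by_cases a : ∀ u ∈ WW, om u m = 0
  · exact (key m a).imp_right Or.inl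
  push Not at a
  obtain ⟨u, u1, u2⟩ := a
  have hσ : om u σ = 1 := (z2_cases _).resolve_left fun k => u2 (h u (mem_U3'.2 ⟨u1, k⟩))
  refine Or.inr (Or.inr ((key (m + σ) fun y hy => ?_).imp (fun k => ?_) fun k => ?_))
  · rcases z2_cases (om y σ) with k | k
    · rw [om_add_right, h y (mem_U3'.2 ⟨hy, k⟩), k, add_zero]
    · have := h (y + u) (mem_U3'.2 ⟨add_mem hy u1, by rw [om_add_left, k, hσ, z2_add_self]⟩)
      rwa [om_add_left, (z2_cases _).resolve_left u2, ← k, ← om_add_right] at this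
  · simpa [XP.add_add] using k.add (Ev.refl σ)
  · simpa [XP.add_add] using k.add (Ev.refl σ)

theorem index_le_two_mul {U W : AddSubgroup V24} (h : ∀ x ∈ W, ∀ y ∈ W, x ∉ U → y ∉ U → x + y ∈ U) :
    (U ⊓ W).index ≤ 2 * W.index := by
  rw [← AddSubgroup.relIndex_mul_index (inf_le_right : U ⊓ W ≤ W), AddSubgroup.inf_relIndex_right]
  refine Nat.mul_le_mul_right _ ?_
  by_cases k : W ≤ U
  · rw [AddSubgroup.relIndex_eq_one.2 k]; omega
  obtain ⟨a, ha, na⟩ := SetLike.not_le_iff_exists.1 k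
  refine (AddSubgroup.relIndex_eq_two_iff.2 ⟨a, ha, fun b hb => ?_⟩).le
  by_cases e : b ∈ U
  · exact Or.inr ⟨e, fun k => na ((add_mem_cancel_left e).1 k)⟩
  · exact Or.inl ⟨h b hb a ha e na, e⟩

namespace SLin

theorem index_om (W : AddSubgroup V24) (σ : V24) : (W ⊓ StdM.perp σ σ).index ≤ 2 * W.index := by
  rw [inf_comm]
  refine index_le_two_mul fun x _ y _ a b => ?_
  have a' : om x σ = 1 := (z2_cases _).resolve_left fun k => a ⟨k, k⟩
  have b' : om y σ = 1 := (z2_cases _).resolve_left fun k => b ⟨k, k⟩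
  have : om (x + y) σ = 0 := by rw [om_add_left, a', b', z2_add_self]
  exact ⟨this, this⟩

theorem index_U3' (σ : V24) : (U3' σ).index ≤ 8 :=
  (index_om WW σ).trans (Nat.mul_le_mul_left 2 (index_perp _ _))

theorem not_iso {W : AddSubgroup V24} (hW : W.index ≤ 64) (h : ∀ x ∈ W, ∀ y ∈ W, om x y = 0) : False := by
  have h1 := card_perp W
  have h2 : Nat.card W ≤ Nat.card (Mon.perp W) := AddSubgroup.card_le_of_le fun x hx => h x hx
  have h3 := W.index_mul_card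
  rw [card_V24] at h3
  have h4 : Nat.card (Mon.perp W) = W.index := Nat.eq_of_mul_eq_mul_right Nat.card_pos (h1.trans h3.symm)
  have h5 := Nat.mul_le_mul hW (h2.trans (h4.le.trans hW))
  omega

theorem mem_of_ev {σ m : V24} (hσ : σ ∈ WW) (h : Ev m 0 ∨ Ev m s1 ∨ Ev m σ ∨ Ev m (s1 + σ)) : m ∈ U3' σ := by
  have a0 : v0 ∈ U3' σ := mem_U3'.2 ⟨v0_mem, (om_comm _ _).trans hσ.1⟩
  have a1 : s1 ∈ U3' σ := mem_U3'.2 ⟨s1_mem, (om_comm _ _).trans hσ.2⟩
  have a2 : σ ∈ U3' σ := mem_U3'.2 ⟨hσ, om_self _⟩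
  have k : ∀ {x}, x ∈ U3' σ → Ev m x → m ∈ U3' σ := fun hx e => e.elim (· ▸ hx) (· ▸ add_mem hx a0)
  rcases h with e | e | e | e
  exacts [k (zero_mem _) e, k a1 e, k a2 e, k (add_mem a1 a2) e]

end SLin

open SLin

theorem exists_hyp {U : AddSubgroup V24} (hU : U.index ≤ 32) :
    ∃ u ∈ U, ∃ v ∈ U, qf u = 0 ∧ qf v = 0 ∧ om u v = 1 := by
  by_contra! k
  have k0' : ∀ u ∈ U, ∀ v ∈ U, qf u = 0 → qf v = 0 → om u v = 0 := fun u hu v hv a b =>
    (z2_cases _).resolve_right (k u hu v hv a b)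
  by_cases a : ∀ u ∈ U, qf u = 0
  · exact not_iso (W := U) (by omega) fun x hx y hy => k0' x hx y hy (a x hx) (a y hy)
  push Not at a
  obtain ⟨x, hx, h1⟩ := a
  have h1 := (z2_cases _).resolve_left h1
  have key : ∀ y ∈ U ⊓ StdM.perp x x, ∃ y' ∈ U, qf y' = 0 ∧ ∀ u, om u x = 0 → om u y = om u y' := fun y hy => by
    rcases z2_cases (qf y) with e | e
    · exact ⟨y, hy.1, e, fun _ _ => rfl⟩
    · exact ⟨y + x, add_mem hy.1 hx, by rw [qf_add, e, h1, hy.2.1, z2_add_self, add_zero],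
        fun u hu => by rw [om_add_right, hu, add_zero]⟩
  refine not_iso (W := U ⊓ StdM.perp x x) ((index_om U x).trans (by omega)) fun y hy y' hy' => ?_
  obtain ⟨u, u1, u2, u3⟩ := key y hy
  obtain ⟨v, v1, v2, v3⟩ := key y' hy'
  have e : om v x = 0 := by
    have := v3 x (om_self x)
    rw [om_comm, ← this, om_comm]; exact hy'.2.1
  rw [v3 y hy.2.1, om_comm, u3 v e]
  exact k0' v v1 u u1 v2 u2

theorem exists_nonsing {σ : V24} (hσ : σ ∈ WW) : ∃ u ∈ U3' σ, qf u = 1 := by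
  have _ := hσ
  obtain ⟨u, hu, v, hv, a, b, c⟩ := exists_hyp ((index_U3' σ).trans (by omega))
  exact ⟨u + v, add_mem hu hv, by rw [qf_add, a, b, c, zero_add, zero_add]⟩

theorem mem_Q_of_U3' {c : C k0} (hc : c ∈ CK) {σ σ' : V24} (hσ : σ ∈ WW)
    (h1 : ∀ u ∈ U3' σ, Ev (cact c u) u ∨ Ev (cact c u) (u + σ'))
    (h2 : ∀ u ∈ U3' σ, Ev (cact c (cact c u)) u) : c ∈ Q k0 := by
  have h4 : ∀ w ∈ U3' σ, cact (c ^ 4) w = w := fun w hw => by
    rw [show c ^ 4 = c * c * (c * c) by simp only [pow_succ, pow_zero, one_mul, mul_assoc], cact_mul, cact_mul,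
      cact_mul]
    rcases h2 w hw with e | e
    · rw [e, e]
    · rw [e, map_add, map_add, e, (mem_CK_iff.1 hc).2, (mem_CK_iff.1 hc).2, XP.add_add]
  have h8 : c ^ 2 ^ 3 ∈ Q k0 := mem_Q_iff_cact.2 fun x => by
    have e := h4 _ (mem_of_ev hσ (perp_U3' (m := cact (c ^ 4) x + x) fun y hy => by
      rw [om_add_right]
      conv_lhs => rw [← h4 y hy, om_cact, h4 y hy]
      exact z2_add_self _))
    rw [map_add, ← cact_mul, add_comm _ x, ← pow_add] at e
    exact add_right_cancel e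
  set N := cact c + AddMonoidHom.id V24
  refine mem_Q_of_two h8 (U := N.ker ⊓ U3' σ) ?_ fun u hu => mem_ker_N.1 hu.1
  have k1 : N.ker.relIndex (U3' σ) ≤ 4 := by
    rw [AddSubgroup.relIndex_ker]
    have : (((U3' σ).map N : AddSubgroup V24) : Set V24) ⊆ {0, v0, σ', σ' + v0} := by
      rintro _ ⟨x, hx, rfl⟩
      show cact c x + x ∈ ({0, v0, σ', σ' + v0} : Set V24)
      rw [add_comm (cact c x)]
      rcases h1 x hx with (e | e) | e | e <;> rw [e]
      · exact Or.inl (ww_add_self x)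
      · exact Or.inr (Or.inl (XP.add_add' _ _))
      · exact Or.inr (Or.inr (Or.inl (XP.add_add' _ _)))
      · exact Or.inr (Or.inr (Or.inr (by rw [add_assoc x, XP.add_add']; rfl)))
    refine (Set.ncard_le_ncard this).trans ((Set.ncard_insert_le _ _).trans (Nat.succ_le_succ
      ((Set.ncard_insert_le _ _).trans (Nat.succ_le_succ ((Set.ncard_insert_le _ _).trans ?_)))))
    simp
  rw [← AddSubgroup.relIndex_mul_index (inf_le_right : N.ker ⊓ U3' σ ≤ _), AddSubgroup.inf_relIndex_right]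
  exact Nat.mul_le_mul k1 (index_U3' σ)

theorem perp_of_fix {w : V24} (hw : w ∈ WW) (h : ∀ d ∈ DK, Ev (cact d w) w) : ∀ u ∈ WW, om u w = 0 := by
  intro u hu
  have hq := q_mem_DK (e := 0).2 hu
  have key : OddGen t1K ≤ (centralizer {q k0 0 w}).subgroupOf CK := by
    refine (closure_le _).2 fun c hc => ?_
    have cD : c.1 ∈ DK := mem_DK.2 ⟨mem_CK.1 c.2, (congrArg Subtype.val hc.2.eq).symm⟩
    have c2 : c * c ∈ (centralizer {q k0 0 w}).subgroupOf CK := by
      refine mem_centralizer_singleton_iff.2 (comm_q_iff.2 ?_)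
      obtain ⟨a, b⟩ := mem_CK_iff.1 c.2
      show cε (c.1 * c.1) w = 0 ∧ cact (c.1 * c.1) w = w
      rw [cε_mul, cact_mul]
      rcases h c cD with e | e
      · rw [e, e]; exact ⟨z2_add_self _, rfl⟩
      · have := cε_add c.1 w v0
        rw [e, a, b, bet_add_left, show bet v0 v0 = 0 from XP.qf_v0, add_zero, add_zero] at this
        rw [e, map_add, e, b, XP.add_add, add_right_cancel this]
        exact ⟨z2_add_self _, rfl⟩
    obtain ⟨n, hn⟩ := hc.1
    have : c = (c * c) ^ (n + 1) := by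
      rw [← pow_two, ← pow_mul, show 2 * (n + 1) = orderOf c + 1 by omega, pow_succ, pow_orderOf_eq_one, one_mul]
    exact this ▸ pow_mem c2 _
  have := key (pw_t1 (x := ⟨_, DK_le_CK hq⟩) (q_mem_Q _ _) (Subtype.ext (mem_DK.1 hq).2.symm))
  have _ := hw
  exact q_comm_iff.1 (mem_centralizer_singleton_iff.1 this)

end CfsgLib.StdB
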