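import Mathlib
import Cfsg.Agent.Lib.StdB.SDefs
import Cfsg.Agent.Lib.StdB.SLin

/-! STDB, package SFIX (plans/STDB-STD.md). -/

set_option autoImplicit false

namespace CfsgLib.StdB

open Cfsg CfsgLib.Leech CfsgLib.Mon CfsgLib.DCX CfsgLib.StdM Subgroup FusP
open CfsgLib.StdInt (Two cj mem_cj two_conj two_of_sq eq_one_of_odd_two odd_of_pow)

variable {M G : Type*} [Group M] [Group G] {π : C k0 →* M} {τ : M} {A : Subgroup G} {R : Subgroup (LM π × G)}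

namespace SF

theorem sq_one (h : Cov τ A R) {l : LM π} (k : InE π (l * l).1) : l * l = 1 := by
  obtain ⟨a, b, c⟩ := h.sq_ne l
  exact Subtype.ext (((k.resolve_right fun k => k.elim a fun k => k.elim b c)) :)

theorem ft_conj (h : Cov τ A R) {g y : G} (hg : g ∈ A) (k : Ft R y) : Ft R (g * y * g⁻¹) := by
  obtain ⟨n, hn, k⟩ := k
  obtain ⟨l, m⟩ := h.ex2 g hg
  have cm : ∀ (k : LM π), ∀ v ∈ LM π, k.1 * v * k.1⁻¹ ∈ LM π := fun k v hv => mul_mem (mul_mem k.2 hv) (inv_mem k.2)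
  have c : Commute l.1 (π tK) := (mem_cen2.1 l.2).1
  have e : l.1 * n * l.1⁻¹ * π tK1 * (l.1 * n * l.1⁻¹)⁻¹ = l.1 * (n * π tK1 * n⁻¹) * l.1⁻¹ := by
    nth_rw 1 [← conj_a l]
    group
  exact ⟨l.1 * n * l.1⁻¹, ⟨(c.mul_left hn.1).mul_left c.inv_left, hn.2.imp (fun a => by rw [e, a, conj_a])
    fun a => by rw [e, a, ← conj_mul, conj_t, conj_a]⟩,
    ((ac_of_mem m).mul (fun _ => hn.mem) k).mul (cm l⁻¹) (ac_of_mem (Cov.inv m))⟩

theorem red (h : Cov τ A R) {l : G} (hl : l ∈ A) (l2 : l * l = 1) (lK : l ∉ centralizer (A : Set G)) :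
    ∃ g ∈ A, ∃ e, ∃ σ ∈ WW, g * l * g⁻¹ = xq R e σ ∧ qf σ = 0 ∧
      (InE π (π (q k0 e σ) * π (z k0)) ∨ Commute τ (π (q k0 e σ))) := by
  obtain ⟨u, m⟩ := h.ex2 l hl
  obtain ⟨k, e, σ, hσ, a, b⟩ := (h.cls u (congrArg Subtype.val (sq_one h ((h.cen (Cov.mul m m)).1
    (l2 ▸ one_mem _))))).resolve_left (mt (h.cen m).2 lK)
  obtain ⟨g, m'⟩ := h.ex1 k
  have e1 := h.eq_xq hσ (l := k * u * k⁻¹) a (Cov.mul (Cov.mul m' m) (Cov.inv m')) (two_conj g (two_of_sq l2))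
  refine ⟨g, h.mem m', e, σ, hσ, e1, h.sign_inj (zero_mem _) ?_, b⟩
  rw [← h.xq_mul_self e hσ, ← e1, conj_mul, l2, mul_one, mul_inv_cancel, h.xq_zero]

/-- the 2-elements over the classes in `U3' σ` -/
def PP (h : Cov τ A R) (σ : V24) : Subgroup G where
  carrier := {x | ∃ e, ∃ u ∈ U3' σ, x = xq R e u}
  one_mem' := ⟨0, 0, zero_mem _, h.xq_zero.symm⟩
  mul_mem' := by rintro _ _ ⟨e, u, a, rfl⟩ ⟨f, v, b, rfl⟩; exact ⟨_, _, add_mem a b, h.xq_mul _ _ a.1 b.1⟩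
  inv_mem' := by
    rintro _ ⟨e, u, a, rfl⟩
    exact ⟨e + qf u, u, a, inv_eq_of_mul_eq_one_right (by
      rw [h.xq_mul _ _ a.1 a.1, ww_add_self, ← add_assoc, z2_add_self, zero_add, qf, z2_add_self, h.xq_zero])⟩

variable {σ : V24} {e : ZMod 2} {y s : G}

theorem PP_le (h : Cov τ A R) : PP h σ ≤ A := by rintro _ ⟨e, u, a, rfl⟩; exact h.xq_mem e a.1

theorem comm_iff (h : Cov τ A R) {u v : V24} {f : ZMod 2} (hu : u ∈ WW) (hv : v ∈ WW) :
    Commute (xq R e u) (xq R f v) ↔ om u v = 0 := by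
  rw [Commute, SemiconjBy, ← mul_inv_eq_iff_eq_mul, h.xq_conj e f hu hv]
  exact ⟨fun k => add_eq_left.1 (h.sign_inj hv k), fun k => by rw [k, add_zero]⟩

theorem PP_comm (h : Cov τ A R) (hσ : σ ∈ WW) : ∀ p ∈ PP h σ, Commute p (xq R e σ) := by
  rintro _ ⟨f, u, a, rfl⟩; exact (comm_iff h a.1 hσ).2 (mem_U3'.1 a).2

theorem comm_z (h : Cov τ A R) (hσ : σ ∈ WW) (k : ∀ p ∈ PP h σ, Commute y (p * p)) : Commute y (xq R 1 0) := by
  obtain ⟨u, a, b⟩ := exists_nonsing hσ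
  have := k _ ⟨0, u, a, rfl⟩
  rwa [h.xq_mul_self 0 a.1, b] at this

theorem core (h : Cov τ A R) (hσ : σ ∈ WW) (hy : y ∈ normalizer (A : Set G)) (k : Ft R y) (s2 : s * s = 1)
    (c1 : ∀ p ∈ PP h σ, Commute p s) (c2 : ∀ p ∈ PP h σ, y * p * y⁻¹ = p ∨ y * p * y⁻¹ = p * s) :
    ∃ f, ∃ w ∈ WW, (xq R f w)⁻¹ * y ∈ centralizer (A : Set G) ∧ Ac R (π (q k0 f w)) y ∧
      ((∀ u ∈ U3' σ, om u w = 0) ∨ s = xq R 1 0) := by
  obtain ⟨c, hc, hn, k⟩ := h.act_z k (comm_z h hσ fun p hp => mul_inv_eq_iff_eq_mul.1 (by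
    rw [← conj_mul]
    rcases c2 p hp with e | e <;> rw [e]
    rw [(c1 p hp).symm.mul_mul_mul_comm, s2, mul_one]))
  have k2 := fun e w => h.act_xq (w := w) hn k e
  obtain ⟨f, σ', a1, a2, a3⟩ : ∃ f, ∃ σ' ∈ WW, y * xq R f σ' * y⁻¹ = xq R f σ' ∧ xq R f σ' * xq R f σ' = 1 ∧
      ∀ p ∈ PP h σ, y * p * y⁻¹ = p ∨ y * p * y⁻¹ = p * xq R f σ' := by
    by_cases n : ∀ p ∈ PP h σ, y * p * y⁻¹ = p
    · exact ⟨0, 0, zero_mem _, by simp [h.xq_zero], by simp [h.xq_zero], fun p hp => Or.inl (n p hp)⟩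
    push Not at n
    obtain ⟨p, hp, n⟩ := n
    obtain ⟨e, u, a, e1⟩ := inv_mem hp
    obtain ⟨e', u', a', e2⟩ := hp
    have e3 : s = xq R _ _ := (eq_inv_mul_iff_mul_eq.2 ((c2 p ⟨e', u', a', e2⟩).resolve_left n).symm).trans (by
      rw [e1, e2, (k2 e' u' a'.1).2, h.xq_mul _ _ a.1 (k2 e' u' a'.1).1])
    have m := add_mem a.1 (k2 e' u' a'.1).1
    have m' : s ∈ PP h σ := ⟨_, _, mem_U3'.2 ⟨m, om_comm σ _ ▸ (comm_iff h hσ m).1
      (e3 ▸ c1 _ ⟨0, σ, mem_U3'.2 ⟨hσ, om_self _⟩, rfl⟩)⟩, e3⟩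
    refine ⟨_, _, m, ?_, e3 ▸ s2, e3 ▸ c2⟩
    rw [← e3]
    refine (c2 s m').elim id fun e => ?_
    rw [s2, mul_inv_eq_one, mul_eq_left] at e
    simp [e]
  obtain ⟨f, w, rfl⟩ := mem_Q_of_U3' hc hσ (σ' := σ') (fun u hu => (a3.2 _ ⟨0, u, hu, rfl⟩).imp
    (fun e => h.xq_ev (k2 0 u hu.1).1 hu.1 ((k2 0 u hu.1).2.symm.trans e)) fun e =>
      h.xq_ev (k2 0 u hu.1).1 (add_mem hu.1 a1) ((k2 0 u hu.1).2.symm.trans (e.trans (h.xq_mul _ _ hu.1 a1))))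
    fun u hu => h.xq_ev (e' := 0) (k2 0 _ (k2 0 u hu.1).1).1 hu.1 (by
      rw [← (k2 (0 + cε c u) _ (k2 0 u hu.1).1).2, ← (k2 0 u hu.1).2]
      rcases a3.2 _ ⟨0, u, hu, rfl⟩ with e | e
      · rw [e, e]
      · rw [e, ← conj_mul, e, a2, mul_assoc, a3.1, mul_one])
  have hw : w ∈ WW := ⟨q_mem_CK_iff.1 hc, by
    have := hn.2
    rw [← map_inv, ← map_mul, ← map_mul, ← map_mul, h.inj.eq_iff, h.inj.eq_iff, ta_eq, a_eq, conj_q, cact_q, cε_q] at this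
    exact this.elim (fun e => by simpa using (q_inj e).1) fun e => absurd (right_eq_add.1 (q_inj e).2) XP.v0_ne⟩
  refine ⟨f, w, hw, h.inn hy (coe_ql (π := π) f hw ▸ k) (h.xq_spec f hw).1, k, or_iff_not_imp_left.2 fun n => ?_⟩
  push Not at n
  obtain ⟨u, hu, n⟩ := n
  have e := (k2 0 u hu.1).2
  rw [cε_q, cact_q, om_comm, (z2_cases _).resolve_left n, ← h.xq_mul_z 0 hu.1] at e
  exact (c2 _ ⟨0, u, hu, rfl⟩).elim (fun a => absurd (mul_eq_left.1 (e.symm.trans a)) h.z_ne)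
    fun a => mul_left_cancel (a.symm.trans e)

theorem two0 (h : Cov τ A R) (hσ : σ ∈ WW) (h0 : qf σ = 0) (hy : y ∈ normalizer (A : Set G)) (k : Ft R y)
    (s2 : s * s = 1) (c1 : ∀ p ∈ PP h σ, Commute p s) (c2 : ∀ p ∈ PP h σ, y * p * y⁻¹ = p ∨ y * p * y⁻¹ = p * s) :
    y ∈ A ⊔ centralizer (A : Set G) ∧ (y * y ∈ centralizer (A : Set G) ∨ s = xq R 1 0) := by
  obtain ⟨f, w, hw, a, -, b⟩ := core h hσ hy k s2 c1 c2
  refine ⟨mul_inv_cancel_left _ y ▸ mul_mem (mem_sup_left (h.xq_mem f hw)) (mem_sup_right a), b.imp_left fun b => ?_⟩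
  have e : qf w = 0 := by
    rcases perp_U3' b with e | e | e | e
    exacts [(e.qf (om_zero_left _)).trans (by simp [qf]), (e.qf om_s1_v0).trans (qf_of_short short_s1),
      (e.qf hσ.1).trans h0, (e.qf (add_mem s1_mem hσ).1).trans (by
        rw [qf_add, qf_of_short short_s1, h0, om_comm, hσ.2]; rfl)]
  have c : Commute (xq R f w) ((xq R f w)⁻¹ * y) := a _ (h.xq_mem f hw)
  rw [← mul_inv_cancel_left (xq R f w) y, c.symm.mul_mul_mul_comm, h.xq_mul_self f hw, e, h.xq_zero, one_mul]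
  exact mul_mem a a

theorem norm0 (h : Cov τ A R) (hσ : σ ∈ WW) (k : Ft R y) (c1 : Commute y (xq R e σ))
    (c2 : ∀ p ∈ PP h σ, Commute y (p * p)) : ∀ p ∈ PP h σ, y * p * y⁻¹ ∈ PP h σ := by
  obtain ⟨c, hc, hn, k⟩ := h.act_z k (comm_z h hσ c2)
  rintro _ ⟨f, u, a, rfl⟩
  obtain ⟨b1, b2⟩ := h.act_xq hn k f a.1
  obtain ⟨d1, d2⟩ := h.act_xq hn k e hσ
  rw [c1.eq, mul_inv_cancel_right] at d2
  refine ⟨_, _, mem_U3'.2 ⟨b1, ?_⟩, b2⟩
  rw [om_comm, (h.xq_ev hσ d1 d2).om b1.1, om_cact, om_comm, (mem_U3'.1 a).2]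

theorem mem_K (h : Cov τ A R) {w : V24} (k : Ev w 0 ∨ Ev w s1) (f : ZMod 2) :
    xq R f w ∈ centralizer (A : Set G) ∨ xq R (f + 1) w ∈ centralizer (A : Set G) := by
  obtain ⟨f', hw, k⟩ : ∃ f', w ∈ WW ∧ InE π (π (q k0 f' w)) := by
    rcases k with (rfl | rfl) | rfl | rfl
    exacts [⟨0, zero_mem _, Or.inl (by rw [q_zero, map_one])⟩,
      ⟨0, add_mem (zero_mem _) v0_mem, Or.inr (Or.inl (by rw [zero_add, tK_eq]))⟩,
      ⟨0, s1_mem, Or.inr (Or.inr (Or.inl (by rw [a_eq])))⟩,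
      ⟨_, add_mem s1_mem v0_mem, Or.inr (Or.inr (Or.inr (by rw [← map_mul, ta_eq, add_comm v0])))⟩]
  have := (h.cen (h.xq_spec f' hw).1).2 (coe_ql (π := π) f' hw ▸ k)
  rcases (by decide : ∀ e f : ZMod 2, e = f ∨ e = f + 1) f' f with rfl | rfl
  exacts [Or.inl this, Or.inr this]

theorem fix0 (h : Cov τ A R) (hσ : σ ∈ WW) (hl : InE π (π (q k0 e σ) * π (z k0)) ∨ Commute τ (π (q k0 e σ)))
    (ls : xq R e σ * s ∈ centralizer (A : Set G)) (s2 : s * s = 1) (hy : y ∈ normalizer (A : Set G)) (k : Ft R y)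
    (c : ∀ p ∈ A, Commute p (xq R e σ) → y * p * y⁻¹ = p ∨ y * p * y⁻¹ = p * s) :
    y ∈ centralizer (A : Set G) ∨ y * xq R e σ ∈ centralizer (A : Set G) := by
  have cs : ∀ p ∈ A, Commute p (xq R e σ) ↔ Commute p s := fun p hp =>
    have : Commute p (xq R e σ * s) := ls p hp
    ⟨fun a => by simpa using a.inv_right.mul_right this, fun a => by simpa using this.mul_right a.inv_right⟩
  obtain ⟨f, w, hw, a, b, d⟩ := core h hσ hy k s2 (fun p hp => (cs p (PP_le h hp)).1 (PP_comm h hσ p hp))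
    fun p hp => c p (PP_le h hp) (PP_comm h hσ p hp)
  have zs := (h.xq_spec 1 (zero_mem _)).1
  have zz : ∀ {l : LM π} {x}, (l, x) ∈ R → Commute l.1 (π (z k0)) → Commute x (xq R 1 0) := fun {l x} m a =>
    mul_inv_eq_iff_eq_mul.1 (h.eq_xq (zero_mem _) (l := l * ql π 1 0 * l⁻¹) (by
      rw [coe_mul, coe_mul, coe_inv, coe_ql 1 (zero_mem _)]; exact mul_inv_eq_iff_eq_mul.2 a)
      (Cov.mul (Cov.mul m zs) (Cov.inv m)) (two_conj x (h.xq_spec 1 (zero_mem _)).2))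
  replace d : ∀ u ∈ U3' σ, om u w = 0 := d.elim id fun d u hu => perp_of_fix hw (fun g hg => by
    obtain ⟨x, m⟩ := h.ex1 (ιL π ⟨g, hg⟩)
    have m' := b _ (ql π f w * ιL π ⟨g, hg⟩ * (ql π f w)⁻¹) x (by rw [← coe_ql f hw]; rfl) m
    have cz := zz m (h.comm_iff.2 (z_comm g))
    obtain ⟨ε, m''⟩ : ∃ ε, (ql π ε 0 * ιL π ⟨g, hg⟩, y * x * y⁻¹) ∈ R := by
      rcases c x (h.mem m) ((cs x (h.mem m)).2 (d ▸ cz)) with e | e <;> rw [e]
      exacts [⟨0, by simpa only [h.xq_zero, one_mul] using Cov.mul (h.xq_spec 0 (zero_mem _)).1 m⟩,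
        ⟨1, d ▸ cz.eq ▸ Cov.mul zs m⟩]
    have := h.eq_or m' m''
    simp only [coe_mul, coe_inv, coe_ql _ hw, coe_ql _ (zero_mem _), coe_ιL, ← map_mul, ← map_inv, h.inj.eq_iff,
      mul_inv_eq_iff_eq_mul, tK_eq, ← mul_assoc, q_mul] at this
    have k : ∀ {ε v}, q k0 f w * g = q k0 ε v * g * q k0 f w → w = cact g w + v := fun e => by
      rw [← eq_mul_inv_iff_mul_eq, mul_assoc _ g, mul_assoc, conj_q, q_mul] at e
      exact (q_inj e).2.trans (add_comm _ _)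
    exact Ev.symm (this.imp (fun e => (k e).trans (add_zero _)) fun e => (k e).trans (by rw [add_zero]))) u hu.1
  have mk : ∀ j ∈ A, xq R f w * j ∈ centralizer (A : Set G) → y * j ∈ centralizer (A : Set G) := fun j hj k => by
    have := mul_mem k a
    rwa [mul_assoc, a j hj, ← mul_assoc, mul_inv_cancel_left] at this
  have lA := h.xq_mem e hσ
  have cz := h.xq_comm_z e hσ
  obtain ⟨j, j1, j2⟩ : ∃ j, (j = 1 ∨ j = xq R e σ) ∧ (xq R f w * j ∈ centralizer (A : Set G) ∨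
      xq R f w * j * xq R 1 0 ∈ centralizer (A : Set G)) := by
    have k : ∀ {v}, Ev w (v + σ) → Ev (w + σ) v := fun {v} k => XP.add_add v σ ▸ k.add (Ev.refl σ)
    rcases or_assoc.2 (perp_U3' d) with p | p
    · exact ⟨1, Or.inl rfl, by rw [mul_one, h.xq_mul_z f hw]; exact mem_K h p f⟩
    · exact ⟨_, Or.inr rfl, by
        rw [h.xq_mul f e hw hσ, h.xq_mul_z _ (add_mem hw hσ)]
        exact mem_K h (p.imp (fun p => k ((zero_add σ).symm ▸ p)) k) _⟩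
  rcases j2 with j2 | j2
  · rcases j1 with rfl | rfl
    exacts [Or.inl (mul_one y ▸ mk 1 (one_mem _) j2), Or.inr (mk _ lA j2)]
  rcases hl with hl | hl
  · have lz : xq R e σ * xq R 1 0 ∈ centralizer (A : Set G) := (h.cen (Cov.mul (h.xq_spec e hσ).1 zs)).2 (by
      rwa [coe_mul, coe_ql e hσ, coe_ql 1 (zero_mem _)])
    rcases j1 with rfl | rfl
    · refine Or.inr (mk _ lA ?_)
      have := mul_mem j2 lz
      rwa [mul_one, mul_assoc, ← mul_assoc (xq R 1 0), ← cz.eq, mul_assoc, h.z_sq, mul_one] at this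
    · simpa using Or.inl (mk 1 (one_mem _) (by simpa [mul_assoc] using mul_mem j2 (inv_mem lz)))
  obtain ⟨T, m⟩ := h.ex1 ⟨τ, tau_mem h.am⟩
  have TA := h.mem m
  have zA := h.xq_mem 1 (zero_mem _)
  have c1 : Commute T (xq R e σ) := mul_inv_eq_iff_eq_mul.1 (h.eq_xq hσ (l := ⟨τ, tau_mem h.am⟩ * ql π e σ * ⟨τ, _⟩⁻¹) (by
      rw [coe_mul, coe_mul, coe_inv, coe_ql e hσ]; exact mul_inv_eq_iff_eq_mul.2 hl)
      (Cov.mul (Cov.mul m (h.xq_spec e hσ).1) (Cov.inv m)) (two_conj T (h.xq_spec e hσ).2))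
  have c2 : Commute T j := j1.elim (· ▸ Commute.one_right T) (· ▸ c1)
  have e1 : y * T * y⁻¹ = (xq R 1 0)⁻¹ * T * xq R 1 0 := by
    have k := mk _ (mul_mem (j1.elim (· ▸ one_mem A) (· ▸ lA)) zA) (mul_assoc _ j _ ▸ j2)
    calc _ = y * (j * xq R 1 0) * ((xq R 1 0)⁻¹ * (j⁻¹ * T * j) * xq R 1 0) * (y * (j * xq R 1 0))⁻¹ := by group
      _ = _ := by
        rw [← c2.inv_right.eq, inv_mul_cancel_right, ← k _ (mul_mem (mul_mem (inv_mem zA) TA) zA), mul_inv_cancel_right]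
  have e2 : (T ^ 3) ^ 3 = 1 := h.odd (by
    have := pow_mem m 3
    rwa [Prod.pow_mk, show (⟨τ, tau_mem h.am⟩ : LM π) ^ 3 = 1 from Subtype.ext h.am.cube] at this)
  have e3 : y * T * y⁻¹ = T := (c T TA c1).elim id fun e => by
    have := congrArg (· ^ 9) e
    simp only [conj_pow, ((cs T TA).1 c1).mul_pow, show 9 = 3 * 3 from rfl, pow_mul T, e2] at this
    rw [show 3 * 3 = 2 * 4 + 1 from rfl, pow_succ s, pow_mul, pow_two, s2] at this
    rw [e, show s = 1 by simpa using this.symm, mul_one]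
  have := h.eq_or (e1.symm.trans e3 ▸ Cov.mul (Cov.mul (Cov.inv zs) m) zs) m
  rw [coe_mul, coe_mul, coe_inv, coe_ql _ (zero_mem _), q_one_zero, ← mul_inv_eq_one, ← mul_inv_eq_iff_eq_mul,
    mul_assoc _ τ, mul_assoc, h.am.conj_z, ← map_inv, ← map_mul, ← map_one π, h.inj.eq_iff, h.inj.eq_iff, z_inv,
    z_mul_q, ← q_zero, tK_eq] at this
  exact absurd (this.imp (fun e => (q_inj e).2) fun e => (q_inj e).2) (not_or.2 ⟨w0_ne_zero, fun e =>
    Four.not_short (w := w0 k0) ⟨_, sqNorm_e8 none, rfl⟩ (e ▸ short_v0)⟩)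

end SF

open SF

theorem Cov.dec (h : Cov τ A R) {u : G} (hu : u ∈ A ⊔ centralizer (A : Set G))
    (h2 : u * u ∈ centralizer (A : Set G)) : ∃ l ∈ A, l * l = 1 ∧ l * u ∈ centralizer (A : Set G) := by
  obtain ⟨x, hx, k, hk, rfl⟩ := (coe_mul_of_right_le_normalizer_left A _ (centralizer_le_normalizer _)).le hu
  have c : Commute x k := hk x hx
  rw [c.symm.mul_mul_mul_comm, mul_mem_cancel_right (mul_mem hk hk)] at h2
  obtain ⟨l, m⟩ := h.ex2 x hx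
  have e := h.odd (sq_one h ((h.cen (mul m m)).1 h2) ▸ mul m m)
  exact ⟨x ^ 3, pow_mem hx 3, by rw [← e, ← pow_two, ← pow_two, pow_right_comm],
    (show x * x * (x * x) * k = x ^ 3 * (x * k) by simp only [pow_succ, pow_zero, one_mul, mul_assoc]) ▸
      mul_mem (mul_mem h2 h2) hk⟩

theorem Cov.two (h : Cov τ A R) {l : G} (hl : l ∈ A) (l2 : l * l = 1) (lK : l ∉ centralizer (A : Set G)) :
    ∃ P ≤ A, IsPGroup 2 P ∧ (∀ p ∈ P, Commute p l) ∧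
      (∀ y ∈ normalizer (A : Set G), ∀ s, Ft R y → s * s = 1 → (∀ p ∈ P, Commute p s) →
        (∀ p ∈ P, y * p * y⁻¹ = p ∨ y * p * y⁻¹ = p * s) →
        y ∈ A ⊔ centralizer (A : Set G) ∧ (y * y ∈ centralizer (A : Set G) ∨ Zc A R s)) ∧
      ∀ y, Ft R y → Commute y l → (∀ p ∈ P, Commute y (p * p)) → ∀ p ∈ P, y * p * y⁻¹ ∈ P := by
  obtain ⟨g, hg, e, σ, hσ, e1, h0, -⟩ := red h hl l2 lK
  let φ := MulAut.conj g
  have inj := φ.injective
  have k : ∀ {X : G → Prop}, (∀ p ∈ (PP h σ).comap φ.toMonoidHom, X (φ p)) → ∀ p ∈ PP h σ, X p := fun a p hp =>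
    φ.apply_symm_apply p ▸ a _ (show φ _ ∈ _ from (φ.apply_symm_apply p).symm ▸ hp)
  refine ⟨(PP h σ).comap φ.toMonoidHom, fun p hp => (mul_mem_cancel_left hg).1 ((mul_mem_cancel_right (inv_mem hg)).1
    (PP_le h hp)), IsPGroup.comap_of_injective (by rintro ⟨_, f, u, a, rfl⟩; exact (h.xq_spec f a.1).2.imp fun _ => Subtype.ext)
    _ inj, fun p hp => inj (by rw [map_mul, map_mul, show φ l = _ from e1]; exact PP_comm h hσ _ hp),
    fun y hy s a s2 c1 c2 => ?_, fun y a c1 c2 p hp => ?_⟩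
  · obtain ⟨b1, b2⟩ := two0 h hσ h0 (y := φ y) (s := φ s) (mul_mem (mul_mem (le_normalizer hg) hy)
      (inv_mem (le_normalizer hg))) (ft_conj h hg a) (by rw [← map_mul, s2, map_one]) (k fun p hp => (c1 p hp).map φ)
      (k fun p hp => by simpa only [← map_mul, ← map_inv, inj.eq_iff] using c2 p hp)
    have gm : g ∈ A ⊔ centralizer (A : Set G) := mem_sup_left hg
    refine ⟨(mul_mem_cancel_left gm).1 ((mul_mem_cancel_right (inv_mem gm)).1 b1), b2.imp (fun b => ?_) fun b =>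
      ⟨g⁻¹, inv_mem hg, by rw [← b]; simp [φ, mul_assoc]⟩⟩
    rwa [← inj (show φ (φ y * φ y) = φ (y * y) by rw [MulAut.conj_apply, b g hg, mul_inv_cancel_right, map_mul])]
  · change φ _ ∈ PP h σ
    rw [map_mul, map_mul, map_inv]
    exact norm0 h hσ (ft_conj h hg a) ((show φ l = _ from e1) ▸ c1.map φ) (k fun p hp => map_mul φ p p ▸ (c2 p hp).map φ) _ hp

theorem Cov.fix (h : Cov τ A R) {l s y : G} (hl : l ∈ A) (l2 : l * l = 1) (lK : l ∉ centralizer (A : Set G))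
    (ls : l * s ∈ centralizer (A : Set G)) (s2 : s * s = 1) (hy : y ∈ normalizer (A : Set G)) (k : Ft R y)
    (c : ∀ p ∈ A, Commute p l → y * p * y⁻¹ = p ∨ y * p * y⁻¹ = p * s) :
    y ∈ centralizer (A : Set G) ∨ y * l ∈ centralizer (A : Set G) := by
  obtain ⟨g, hg, e, σ, hσ, e1, -, a⟩ := red h hl l2 lK
  let φ := MulAut.conj g
  have inj := φ.injective
  have kK : ∀ {x}, φ x ∈ centralizer (A : Set G) ↔ x ∈ centralizer (A : Set G) := fun {x} =>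
    ⟨fun b => by rwa [← inj (show φ (φ x) = φ x by rw [MulAut.conj_apply, b g hg, mul_inv_cancel_right])],
      fun b => by rwa [MulAut.conj_apply, b g hg, mul_inv_cancel_right]⟩
  rw [← kK, ← kK (x := y * l), map_mul, show φ l = _ from e1]
  refine fix0 h hσ a (s := φ s) (by rwa [← show φ l = _ from e1, ← map_mul, kK]) (by rw [← map_mul, s2, map_one])
    (mul_mem (mul_mem (le_normalizer hg) hy) (inv_mem (le_normalizer hg))) (ft_conj h hg k) fun p hp b => ?_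
  obtain ⟨p, rfl⟩ := φ.surjective p
  simp only [← map_mul, ← map_inv, inj.eq_iff]
  exact c p ((mul_mem_cancel_left hg).1 ((mul_mem_cancel_right (inv_mem hg)).1 hp))
    (inj (by rw [map_mul, map_mul, show φ l = _ from e1]; exact b))

end CfsgLib.StdB
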