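import Mathlib
import Cfsg.Agent.S2901
import Cfsg.Agent.Lib.Core.Fitting
import Cfsg.Agent.Lib.Fgs.SymSolv
import Cfsg.Agent.Lib.StdInt.Main

/-! STDB, package SHOLT (plans/STDB-STD.md). -/

set_option autoImplicit false

namespace CfsgLib.StdB

open Cfsg Subgroup

variable {G : Type*} [Group G] [Finite G]

theorem two_central {P : Subgroup G} {r : P} (hr : IsTwoCentralInvolution r)
    (h : ∀ g : G, g * r * g⁻¹ ∈ P → g ∈ P) : IsTwoCentralInvolution (r : G) := by
  obtain ⟨h2, T, rT, hT⟩ := hr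
  obtain ⟨S, hS⟩ := (T.isPGroup'.map P.subtype).exists_le_sylow
  have rm := mem_map_of_mem P.subtype rT
  refine ⟨by rwa [orderOf_coe], S, hS rm, hS.eq_or_lt.elim (fun e x hx => ?_) fun hlt => ?_⟩
  · obtain ⟨y, hy, rfl⟩ := e.ge hx
    exact congrArg Subtype.val (hT y hy)
  have := S.isPGroup'.isNilpotent
  obtain ⟨x, ⟨x1, x2⟩, x3⟩ := SetLike.exists_of_lt (Core.lt_inf_normalizer_of_isNilpotent hlt)
  have xP := h x (map_subtype_le _ ((mem_normalizer_iff.1 x2 _).1 rm))
  have := T.is_maximal' (S.isPGroup'.comap_subtype (K := P)) (map_le_iff_le_comap.1 hS)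
  exact absurd (mem_map_of_mem P.subtype (this.le (show (⟨x, xP⟩ : P) ∈ _ from x1))) x3

theorem solvable_normalizer (S : Sylow 2 G) : Group.IsSolvable (normalizer ((S : Subgroup G) : Set G)) := by
  let N := normalizer ((S : Subgroup G) : Set G)
  let R := (S : Subgroup G).subgroupOf N
  have s1 : Group.IsSolvable (N ⧸ R) := FT.odd_order_solvable (Nat.not_even_iff_odd.1 fun e =>
    S.not_dvd_index ((even_iff_two_dvd.1 e).trans (relIndex_dvd_index_of_le le_normalizer)))
  have s2 : Group.IsNilpotent R := (S.isPGroup'.comap_subtype : IsPGroup 2 R).isNilpotent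
  exact Group.isSolvable_of_ker_le_range R.subtype (QuotientGroup.mk' R) (by simp)

theorem holt0 [IsSimpleGroup G] (hG : ¬ IsMulCommutative G) {P U : Subgroup G} (hP : P ≠ ⊤) {r : G}
    (hr : IsTwoCentralInvolution r) (rP : r ∈ P) (h : ∀ g : G, g * r * g⁻¹ ∈ P → g ∈ P) (hs : ¬ Group.IsSolvable P)
    (h1 : U ≤ P) (h2 : P ≤ normalizer (U : Set G)) (h3 : U ≠ ⊥) (h4 : Group.IsSolvable U) : False := by
  rcases Cfsg.Agent.S2901.result hG P hP r rP hr
    (fun x hx => h x (by rwa [mem_centralizer_singleton_iff.1 hx, mul_inv_cancel_right]))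
    (fun g hg => ⟨g, h g hg, rfl⟩) with ⟨-, S, e⟩ | ⟨n, hn, -, ⟨e⟩⟩
  · exact hs (e ▸ solvable_normalizer S)
  obtain rfl | h5 := hn.eq_or_lt
  · have := Fgs.isSolvable_alt_four
    exact hs (Group.isSolvable_of_isSolvable_injective (f := e.toMonoidHom) e.injective)
  have := alternatingGroup.isSimpleGroup (α := Fin (n - 1)) (by simp; omega)
  have := e.isSimpleGroup
  rcases ((normal_subgroupOf_iff_le_normalizer h1).2 h2).eq_bot_or_eq_top with k | k
  · exact h3 (eq_bot_iff.2 fun x hx => congrArg Subtype.val (mem_bot.1 (k.le (show (⟨x, h1 hx⟩ : P) ∈ _ from hx))))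
  · exact hs (le_antisymm h1 (subgroupOf_eq_top.1 k) ▸ h4)

end CfsgLib.StdB
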