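import Mathlib
import Cfsg.Agent.Lib.StdInt.Main

/-! STDB, package SPAIR (plans/STDB-STD.md): two commuting conjugates of the central involution. -/

set_option autoImplicit false

namespace CfsgLib.StdB

open Cfsg Subgroup CfsgLib.StdInt

variable {G : Type*} [Group G]

theorem mem_sup_comm {A K : Subgroup G} (h : ∀ l ∈ A, ∀ k ∈ K, Commute l k) {x : G} :
    x ∈ A ⊔ K ↔ ∃ l ∈ A, ∃ k ∈ K, x = l * k := by
  refine ⟨fun hx => ?_, by rintro ⟨l, hl, k, hk, rfl⟩; exact mul_mem (mem_sup_left hl) (mem_sup_right hk)⟩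
  let S : Subgroup G :=
    { carrier := {x | ∃ l ∈ A, ∃ k ∈ K, x = l * k}
      one_mem' := ⟨1, one_mem _, 1, one_mem _, (mul_one 1).symm⟩
      mul_mem' := by
        rintro _ _ ⟨l, hl, k, hk, rfl⟩ ⟨l', hl', k', hk', rfl⟩
        exact ⟨_, mul_mem hl hl', _, mul_mem hk hk', ((h l' hl' k hk).symm.mul_mul_mul_comm _ _)⟩
      inv_mem' := by
        rintro _ ⟨l, hl, k, hk, rfl⟩
        exact ⟨_, inv_mem hl, _, inv_mem hk, by rw [(h l hl k hk).eq, mul_inv_rev]⟩ }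
  exact (sup_le (fun l hl => ⟨l, hl, 1, one_mem _, (mul_one l).symm⟩)
    fun k hk => ⟨1, one_mem _, k, hk, (one_mul k).symm⟩ : A ⊔ K ≤ S) hx

theorem mem_cj_sup {A K : Subgroup G} {g x : G} : x ∈ cj g A ⊔ cj g K ↔ g⁻¹ * x * g ∈ A ⊔ K := by
  rw [← Subgroup.map_sup, mem_cj]

/-- a 2-group normalizing a subgroup of even order centralizes one of its involutions -/
theorem exists_fixed [Finite G] {N P : Subgroup G} [N.Normal] (hP : IsPGroup 2 P) {x : G} (hx : x ∈ N) (h1 : x ≠ 1)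
    (h2 : Two x) : ∃ f ∈ N, f ≠ 1 ∧ f * f = 1 ∧ ∀ p ∈ P, Commute p f := by
  obtain ⟨S, hS⟩ := hP.exists_le_sylow
  have hn : ¬ Odd (Nat.card N) := fun o => h1 (eq_one_of_odd_two (odd_of_mem o hx) h2)
  obtain ⟨r, hr, r1, r2⟩ := exists_invol hn
  obtain ⟨T, hT⟩ := (IsPGroup.of_card (p := 2) (G := zpowers r) (n := 1) (by
    rw [Nat.card_zpowers, pow_one]; exact orderOf_eq_prime (by rw [pow_two, r1]) r2)).exists_le_sylow
  obtain ⟨y, hy⟩ := MulAction.exists_smul_eq G T S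
  have h4 : y * r * y⁻¹ ∈ S := hy ▸ Subgroup.smul_mem_pointwise_smul _ (MulAut.conj y) _ (hT (mem_zpowers _))
  have nt : Nontrivial (N.subgroupOf (S : Subgroup G)) := ⟨⟨⟨_, h4⟩, ‹N.Normal›.conj_mem r hr y⟩, 1, fun e =>
    r2 (by simpa using congrArg (fun x => x.1.1) e)⟩
  have := S.isPGroup'.isNilpotent
  obtain ⟨f, f1, f2, f3⟩ := exists_invol (H := N.subgroupOf (S : Subgroup G) ⊓ center S) fun o => by
    obtain ⟨n, hn⟩ := (S.isPGroup'.to_subgroup (N.subgroupOf (S : Subgroup G) ⊓ center S)).exists_card_eq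
    rcases n with _ | n
    · exact Core.inf_center_ne_bot_of_isNilpotent (N := N.subgroupOf (S : Subgroup G))
        ((nontrivial_iff_ne_bot _).1 nt) (card_eq_one.1 hn)
    · rw [hn, pow_succ] at o
      exact absurd (Nat.odd_mul.1 o).2 (by decide)
  exact ⟨f, f1.1, fun e => f3 (Subtype.ext e), congrArg Subtype.val f2, fun p hp =>
    congrArg Subtype.val (mem_center_iff.1 f1.2 ⟨p, hS hp⟩)⟩

/-- `A` with its centralizer `K` inside the centralizer of `a` -/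
structure Hf (A K : Subgroup G) (a : G) : Prop where
  aA : a ∈ A
  aK : a ∈ K
  ne : a ≠ 1
  sq : a * a = 1
  comm : ∀ l ∈ A, ∀ k ∈ K, Commute l k
  inter : ∀ x ∈ A, x ∈ K → x ^ 3 = 1 ∨ x ^ 3 = a
  nK : ∀ h, Commute h a → ∀ k ∈ K, h * k * h⁻¹ ∈ K
  invC : ∀ r ∈ K, r * r = 1 → r ≠ 1 → ∀ c, Commute c r → Commute c a
  par : ∀ x y, Commute x a → Commute y a → x ∉ A ⊔ K → y ∉ A ⊔ K → x * y ∈ A ⊔ K
  dec : ∀ u ∈ A ⊔ K, u * u ∈ K → ∃ l ∈ A, l * l = 1 ∧ l * u ∈ K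

variable {A K A' K' : Subgroup G} {a s g : G} {Z : G → Prop}

namespace Hf

variable (h : Hf A K a)
include h

theorem cL {l : G} (hl : l ∈ A) : Commute l a := h.comm l hl a h.aK

theorem cK {k : G} (hk : k ∈ K) : Commute k a := (h.comm a h.aA k hk).symm

theorem cS {x : G} (hx : x ∈ A ⊔ K) : Commute x a := by
  obtain ⟨l, hl, k, hk, rfl⟩ := (mem_sup_comm h.comm).1 hx
  exact (h.cL hl).mul_left (h.cK hk)

theorem cI {x y : G} (hx : x ∈ A ⊔ K) (h1 : y ∈ A) (h2 : y ∈ K) : Commute x y := by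
  obtain ⟨l, hl, k, hk, rfl⟩ := (mem_sup_comm h.comm).1 hx
  exact (h.comm l hl y h2).mul_left (h.comm y h1 k hk).symm

theorem sq_mem {x : G} (hx : Commute x a) : x * x ∈ A ⊔ K :=
  (em _).elim (fun k => mul_mem k k) fun k => h.par x x hx hx k k

theorem comm_of {l u : G} (hl : l ∈ A) (k : l * u ∈ K) : Commute l u := by
  simpa using (Commute.refl l).inv_right.mul_right (h.comm l hl _ k)

theorem sq_of {l u : G} (hl : l ∈ A) (l2 : l * l = 1) (k : l * u ∈ K) : l * u * (l * u) = u * u := by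
  rw [(h.comm_of hl k).symm.mul_mul_mul_comm, l2, one_mul]

theorem sq_ne {x : G} (hx : x ∈ A) : x * x ≠ a := fun e => by
  obtain ⟨l, hl, l2, k⟩ := h.dec x (mem_sup_left hx) (e ▸ h.aK)
  have h1 := h.sq_of hl l2 k
  have h2 : (l * x) ^ 3 * (l * x) ^ 3 = 1 := by
    rcases h.inter _ (mul_mem hl hx) k with e | e <;> rw [e]
    exacts [mul_one 1, h.sq]
  rw [← (Commute.refl _).mul_pow, h1, e, pow_succ, pow_two, h.sq, one_mul] at h2
  exact h.ne h2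

theorem conj (g : G) : Hf (cj g A) (cj g K) (g * a * g⁻¹) where
  aA := ⟨a, h.aA, rfl⟩
  aK := ⟨a, h.aK, rfl⟩
  ne := by simpa using h.ne
  sq := by rw [conj_mul, h.sq, mul_one, mul_inv_cancel]
  comm := by
    rintro _ ⟨l, hl, rfl⟩ _ ⟨k, hk, rfl⟩
    exact (h.comm l hl k hk).map _
  inter := by
    rintro _ ⟨x, h1, rfl⟩ h2
    refine (h.inter x h1 (by simpa [mul_assoc] using mem_cj.1 h2)).imp (fun e => ?_) fun e => ?_ <;>
      rw [← map_pow, e]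
    exacts [map_one _, rfl]
  nK x hx l hl := mem_cj.2 (by simpa [mul_assoc] using h.nK _ (comm_conj.1 hx) _ (mem_cj.1 hl))
  invC := by
    rintro _ ⟨r, hr, rfl⟩ h1 h2 c hc
    exact comm_conj.2 (h.invC r hr ((sq_map (MulAut.conj g)).1 h1) (fun e => h2 (by rw [e, map_one])) _ (comm_conj.1 hc))
  par x y hx hy h1 h2 := by
    rw [mem_cj_sup] at h1 h2 ⊢
    simpa [mul_assoc] using h.par _ _ (comm_conj.1 hx) (comm_conj.1 hy) h1 h2
  dec u hu h2 := by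
    obtain ⟨l, hl, l2, k⟩ := h.dec _ (mem_cj_sup.1 hu) (by simpa [mul_assoc] using mem_cj.1 h2)
    exact ⟨g * l * g⁻¹, ⟨l, hl, rfl⟩, by rw [conj_mul, l2, mul_one, mul_inv_cancel],
      mem_cj.2 (by simpa [mul_assoc] using k)⟩

theorem exists_th [Finite G] (k : ∀ k ∈ K, Two k → k = 1 ∨ k = a) : ∃ θ, Th K θ a := by
  have c : ∀ x : K, Commute x ⟨a, h.aK⟩ := fun x => Subtype.ext (h.cK x.2)
  have k' : ∀ x : K, Two x → x = 1 ∨ x = ⟨a, h.aK⟩ := fun x hx =>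
    (k x x.2 (two_coe.2 hx)).imp Subtype.ext Subtype.ext
  obtain ⟨θ, t⟩ := Half.exists_th (L := zpowers (⟨a, h.aK⟩ : K)) (K := ⊤) (t := ⟨a, h.aK⟩)
    ⟨mem_zpowers _, mem_top _, fun e => h.ne (congrArg Subtype.val e), Subtype.ext h.sq,
      by rintro _ ⟨n, rfl⟩ x -; exact (c x).symm.zpow_left n, by
        rintro _ ⟨n, rfl⟩ -
        exact k' _ (two_of_sq (by
          simp only [← (Commute.refl _).mul_zpow, show (⟨a, h.aK⟩ : K) * ⟨a, h.aK⟩ = 1 from Subtype.ext h.sq, one_zpow])),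
      by rintro x - _ ⟨n, rfl⟩; simp only [((c x).zpow_right n).eq, mul_inv_cancel_right]; exact ⟨n, rfl⟩,
      fun _ _ _ _ => mem_top _, fun x _ _ => ⟨1, one_mem _, x, mem_top _, (one_mul x).symm⟩, fun _ _ _ _ x _ => c x⟩
    fun x _ => k' x
  refine ⟨θ.map K.subtype, by rw [card_map_of_injective K.subtype_injective]; exact t.odd, fun x => ⟨?_, fun hx =>
    mem_map_of_mem K.subtype (x := ⟨x, hx.1⟩) ((t.mem _).2 ⟨mem_top _, by rw [← orderOf_coe]; exact hx.2⟩)⟩,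
    fun x hx => (t.dec ⟨x, hx⟩ (mem_top _)).imp (mem_map_of_mem K.subtype) (mem_map_of_mem K.subtype)⟩
  rintro ⟨y, hy, rfl⟩
  exact ⟨y.2, by rw [coe_subtype, orderOf_coe]; exact ((t.mem y).1 hy).2⟩

end Hf

/-- the facts about `A` -/
structure Sd (A K : Subgroup G) (a : G) (Z : G → Prop) : Prop extends Hf A K a where
  tight : ∀ g, ¬ Commute g a → ∀ x ∈ K, x ∈ cj g K → Odd (orderOf x)
  fix : ∀ l ∈ A, l * l = 1 → l ∉ K → ∀ y, Commute y a → (∀ p ∈ A, Commute p l → Commute y p) → y ∈ K ∨ y * l ∈ K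
  two : ∀ l ∈ A, l * l = 1 → l ∉ K → ∃ P ≤ A, IsPGroup 2 P ∧ (∀ p ∈ P, Commute p l) ∧
    (∀ y s, Commute y a → s * s = 1 → (∀ p ∈ P, Commute p s) → (∀ p ∈ P, y * p * y⁻¹ = p ∨ y * p * y⁻¹ = p * s) →
      y ∈ A ⊔ K ∧ (y * y ∈ K ∨ Z s)) ∧
    ∀ y, Commute y a → Commute y l → (∀ p ∈ P, Commute y (p * p)) → ∀ p ∈ P, y * p * y⁻¹ ∈ P
  zA : ∀ s, Z s → s ∈ A ∧ s ≠ 1
  iso : ∀ s, Z s → ∀ J1 J2 J3 : Subgroup G, s ∈ J3 → J3 ≤ J2 → J2 ≤ J1 →
    (∀ x ∈ A, ∀ y ∈ A, Commute x s → Commute y s → x ∉ J1 → y ∉ J1 → x * y ∈ J1) →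
    (∀ x ∈ A, ∀ y ∈ A, x ∈ J1 → y ∈ J1 → x ∉ J2 → y ∉ J2 → x * y ∈ J2) →
    (∀ x ∈ J2, ∀ y ∈ J2, x ∉ J3 → y ∉ J3 → x * y ∈ J3) →
    ∃ u ∈ J3, ∃ v ∈ J3, u * u = 1 ∧ v * v = 1 ∧ u * v * (u * v) = s
  out : ∀ s, Commute s a → s * s = 1 → s ∉ A ⊔ K → ∀ J : Subgroup G,
    (∀ x y, Commute x s → Commute y s → x ∉ J → y ∉ J → x * y ∈ J) →
    ∃ r ∈ A, Commute (r * r) s ∧ Commute (r * s * r⁻¹) s ∧ r * s * r⁻¹ * s⁻¹ ∈ J ∧ r * s * r⁻¹ ≠ s

/-- two commuting involutions, each inducing an inner automorphism on the group of the other -/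
structure Pr (A K A' K' : Subgroup G) (a s : G) (Z : G → Prop) : Prop where
  x : Sd A K a Z
  y : Hf A' K' s
  od : ∀ x ∈ K, x ∈ K' → Odd (orderOf x)
  s_mem : s ∈ A ⊔ K
  a_mem : a ∈ A' ⊔ K'

namespace Pr

variable (p : Pr A K A' K' a s Z)
include p

theorem one {x : G} (h1 : x ∈ K) (h2 : x ∈ K') (h3 : x * x = 1) : x = 1 := eq_one_of_odd_sq (p.od x h1 h2) h3

theorem sK : s ∉ K := fun h => p.y.ne (p.one h p.y.aK p.y.sq)

theorem c : Commute s a := p.x.cS p.s_mem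

theorem alpha {r : G} (h1 : r ∈ K') (h2 : r ∈ A ⊔ K) (h3 : r * r = 1) : r = 1 ∨ r = s := by
  refine or_iff_not_imp_left.2 fun h4 => ?_
  obtain ⟨l, hl, l2, k⟩ := p.x.dec r h2 (h3 ▸ one_mem K)
  have li : l⁻¹ = l := inv_eq_of_mul_eq_one_right l2
  refine (p.x.fix l hl l2 (fun e => h4 (p.one ((mul_mem_cancel_left e).1 k) h1 h3)) s p.c fun q hq c =>
    (p.y.invC r h1 h3 h4 q (by simpa using c.inv_right.mul_right (p.x.comm q hq _ k))).symm).elim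
    (fun e => absurd e p.sK) fun e => ?_
  have := mul_mem e k
  rw [mul_assoc, ← mul_assoc l, l2, one_mul] at this
  have := p.one this (mul_mem p.y.aK h1) (by rw [(p.y.cK h1).mul_mul_mul_comm, p.y.sq, h3, one_mul])
  rwa [← p.y.sq, mul_right_inj] at this

/-- the elements whose component in `K'` lies in `X` -/
def Cp (X : Subgroup G) : Subgroup G where
  carrier := {x | ∃ u ∈ A', ∃ k ∈ K' ⊓ X, x = u * k}
  one_mem' := ⟨1, one_mem _, 1, one_mem _, (mul_one 1).symm⟩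
  mul_mem' := by
    rintro _ _ ⟨l, hl, k, hk, rfl⟩ ⟨l', hl', k', hk', rfl⟩
    exact ⟨_, mul_mem hl hl', _, mul_mem hk hk', ((p.y.comm l' hl' k hk.1).symm.mul_mul_mul_comm _ _)⟩
  inv_mem' := by
    rintro _ ⟨l, hl, k, hk, rfl⟩
    exact ⟨_, inv_mem hl, _, inv_mem hk, by rw [(p.y.comm l hl k hk.1).eq, mul_inv_rev]⟩

theorem twist {u k : G} (hu : u ∈ A') (hk : k ∈ K') (h : Commute (u * k) a) (n : ¬ Commute k a) :
    a * k * a⁻¹ = s * k := by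
  obtain ⟨l, hl, m, hm, e⟩ := (mem_sup_comm p.y.comm).1 p.a_mem
  have h1 : a * k * a⁻¹ * k⁻¹ ∈ K' := mul_mem (p.y.nK a p.c.symm k hk) (inv_mem hk)
  have h2 : a * k * a⁻¹ * k⁻¹ ∈ A' := by
    have : a * k * a⁻¹ * k⁻¹ = l * (m * u * m⁻¹)⁻¹ * l⁻¹ * u := by
      calc _ = a * u⁻¹ * a⁻¹ * (a * (u * k) * a⁻¹) * k⁻¹ := by group
        _ = _ := by rw [← h.eq, e]; group
    rw [this, ← (p.y.comm u hu m hm).eq, mul_inv_cancel_right]
    exact mul_mem (mul_mem (mul_mem hl (inv_mem hu)) (inv_mem hl)) hu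
  have h3 := p.y.cI p.a_mem h2 h1
  have ai : a⁻¹ = a := inv_eq_of_mul_eq_one_right p.x.sq
  generalize hζ : a * k * a⁻¹ * k⁻¹ = ζ at *
  have h4 : a * k * a⁻¹ = ζ * k := by rw [← hζ]; group
  have h5 : ζ * ζ = 1 := by
    have : a * (a * k * a⁻¹) * a⁻¹ = k := by
      rw [show a * (a * k * a⁻¹) * a⁻¹ = a * a * k * (a * a)⁻¹ by group, p.x.sq]; group
    rw [h4, ← conj_mul, h4, h3.eq, mul_inv_cancel_right, ← mul_assoc, mul_eq_right] at this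
    exact this
  have h6 := p.y.inter ζ h2 h1
  rw [pow_succ, pow_two, h5, one_mul] at h6
  rw [h4, h6.resolve_left fun e => n (by
    rw [e, one_mul] at h4; exact (show Commute a k from mul_inv_eq_iff_eq_mul.1 h4).symm)]

theorem not_Z : ¬ Z s := fun hz => by
  have sA := (p.x.zA s hz).1
  have key : ∀ u ∈ p.Cp (centralizer {a} ⊓ (A ⊔ K)), u * u = 1 → u ∈ A' := by
    rintro _ ⟨v, hv, m, hm, rfl⟩ h2
    obtain ⟨l, hl, l2, k⟩ := p.y.dec (v * m) (mul_mem (mem_sup_left hv) (mem_sup_right hm.1)) (h2 ▸ one_mem _)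
    have h3 : l * v ∈ K' := (K'.mul_mem_cancel_right hm.1).1 (mul_assoc l v m ▸ k)
    have h4 := p.x.sq_mem (p.y.cI p.a_mem (mul_mem hl hv) h3).symm
    have h5 : l * v ∈ A ⊔ K := by
      have : (l * v) ^ 3 ∈ A ⊔ K := (p.y.inter _ (mul_mem hl hv) h3).elim (fun e => e ▸ one_mem _)
        fun e => e ▸ mem_sup_left sA
      rwa [pow_succ, pow_two, mul_mem_cancel_left h4] at this
    have h6 := p.alpha k (by rw [← mul_assoc]; exact (A ⊔ K).mul_mem h5 hm.2.2) (by rw [p.y.sq_of hl l2 k, h2])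
    exact (mul_mem_cancel_left hl).1 (h6.elim (fun e => e ▸ one_mem _) fun e => e ▸ p.y.aA)
  obtain ⟨u, hu, v, hv, u2, v2, e⟩ := p.x.iso s hz (A' ⊔ K') (p.Cp (centralizer {a}))
    (p.Cp (centralizer {a} ⊓ (A ⊔ K))) ⟨s, p.y.aA, 1, one_mem _, (mul_one s).symm⟩
    (by rintro _ ⟨u, hu, k, hk, rfl⟩; exact ⟨u, hu, k, ⟨hk.1, hk.2.1⟩, rfl⟩)
    (by rintro _ ⟨u, hu, k, hk, rfl⟩; exact mul_mem (mem_sup_left hu) (mem_sup_right hk.1))
    (fun x _ y _ => p.y.par x y) (fun x hx y hy x1 y1 x2 y2 => by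
      obtain ⟨u, hu, k, hk, rfl⟩ := (mem_sup_comm p.y.comm).1 x1
      obtain ⟨u', hu', k', hk', rfl⟩ := (mem_sup_comm p.y.comm).1 y1
      have e1 := p.twist hu hk (p.x.cL hx) fun c => x2 ⟨u, hu, k, ⟨hk, mem_centralizer_singleton_iff.2 c⟩, rfl⟩
      have e2 := p.twist hu' hk' (p.x.cL hy) fun c => y2 ⟨u', hu', k', ⟨hk', mem_centralizer_singleton_iff.2 c⟩, rfl⟩
      refine ⟨_, mul_mem hu hu', k * k', ⟨mul_mem hk hk', mem_centralizer_singleton_iff.2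
        (mul_inv_eq_iff_eq_mul.1 ?_).symm⟩, ((p.y.comm u' hu' k hk).symm.mul_mul_mul_comm _ _)⟩
      rw [← conj_mul, e1, e2, (p.y.cK hk).mul_mul_mul_comm, p.y.sq, one_mul]) (by
      rintro _ ⟨u, hu, k, hk, rfl⟩ _ ⟨u', hu', k', hk', rfl⟩ x2 y2
      exact ⟨_, mul_mem hu hu', k * k', ⟨mul_mem hk.1 hk'.1, mul_mem hk.2 hk'.2, p.x.par k k'
        (mem_centralizer_singleton_iff.1 hk.2) (mem_centralizer_singleton_iff.1 hk'.2)
        (fun c => x2 ⟨u, hu, k, ⟨hk.1, hk.2, c⟩, rfl⟩) fun c => y2 ⟨u', hu', k', ⟨hk'.1, hk'.2, c⟩, rfl⟩⟩,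
        ((p.y.comm u' hu' k hk.1).symm.mul_mul_mul_comm _ _)⟩)
  exact p.y.sq_ne (mul_mem (key u hu u2) (key v hv v2)) e

variable [Finite G]

theorem sylow {x : G} (h1 : x ∈ K') (h2 : Commute x a) (h3 : Two x) : x = 1 ∨ x = s := by
  by_contra! n
  obtain ⟨l, hl, l2, k⟩ := p.x.dec s p.s_mem (p.y.sq ▸ one_mem K)
  obtain ⟨P, hP, P2, P3, P4, -⟩ := p.x.two l hl l2 fun e => p.sK ((mul_mem_cancel_left e).1 k)
  have P5 : ∀ q ∈ P, Commute q s := fun q hq => by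
    simpa using (P3 q hq).inv_right.mul_right (p.x.comm q (hP hq) _ k)
  let D := centralizer ({a} : Set G) ⊓ centralizer {s}
  have mD : ∀ {y}, y ∈ D ↔ Commute y a ∧ Commute y s :=
    and_congr mem_centralizer_singleton_iff mem_centralizer_singleton_iff
  let s' : D := ⟨s, mD.2 ⟨p.c, rfl⟩⟩
  have cs : ∀ y : D, Commute y s' := fun y => Subtype.ext (mD.1 y.2).2
  have : (zpowers s').Normal := ⟨by
    rintro _ ⟨n, rfl⟩ y
    simp only [((cs y).zpow_right n).eq, mul_inv_cancel_right]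
    exact ⟨n, rfl⟩⟩
  have ms : ∀ y : D, (y : D ⧸ zpowers s') = 1 ↔ y.1 = 1 ∨ y.1 = s := fun y => by
    rw [QuotientGroup.eq_one_iff]
    refine ⟨?_, fun e => e.elim (fun e => (Subtype.ext e : y = 1) ▸ one_mem _) fun e => (Subtype.ext e : y = s') ▸ mem_zpowers _⟩
    rintro ⟨n, rfl⟩
    have e : s ^ (2 : ℤ) = 1 := by rw [zpow_two, p.y.sq]
    change s ^ n = 1 ∨ s ^ n = s
    rcases Int.even_or_odd' n with ⟨m, rfl | rfl⟩
    · exact Or.inl (by rw [zpow_mul, e, one_zpow])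
    · exact Or.inr (by rw [zpow_add_one, zpow_mul, e, one_zpow, one_mul])
  have : (K'.subgroupOf D).Normal := ⟨fun y hy g => p.y.nK g (mD.1 g.2).2 y hy⟩
  have : ((K'.subgroupOf D).map (QuotientGroup.mk' (zpowers s'))).Normal :=
    Normal.map inferInstance _ (QuotientGroup.mk'_surjective _)
  obtain ⟨_, ⟨f, f1, rfl⟩, f2, f3, f4⟩ := exists_fixed (N := (K'.subgroupOf D).map (QuotientGroup.mk' (zpowers s')))
    ((P2.comap_subtype (K := D)).map (QuotientGroup.mk' (zpowers s')))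
    (mem_map_of_mem _ (show (⟨x, mD.2 ⟨h2, p.y.cK h1⟩⟩ : D) ∈ K'.subgroupOf D from h1))
    (fun e => ((ms _).1 e).elim n.1 n.2) (h3.imp fun k hk => by
      rw [← map_pow, show (⟨x, _⟩ : D) ^ 2 ^ k = 1 from Subtype.ext hk, map_one])
  obtain ⟨h4, h5⟩ := P4 f s (mD.1 f.2).1 p.y.sq P5 fun q hq => by
    have := (f4 _ (mem_map_of_mem _ (show (⟨q, mD.2 ⟨p.x.cL (hP hq), P5 q hq⟩⟩ : D) ∈ P.comap D.subtype from hq))).symm
    rw [← commutatorElement_eq_one_iff_commute, ← map_commutatorElement] at this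
    refine ((ms _).1 this).imp (fun e => mul_inv_eq_one.1 e) fun e => ?_
    rw [(P5 q hq).eq]
    exact mul_inv_eq_iff_eq_mul.1 e
  have h6 := h5.resolve_right p.not_Z
  exact f2 ((ms f).2 (p.alpha f1 h4 (((ms (f * f)).1 f3).resolve_right fun e => p.sK (e ▸ h6))))

theorem aA : a ∈ A' := by
  obtain ⟨l, hl, l2, k⟩ := p.y.dec a p.a_mem (p.x.sq ▸ one_mem K')
  have := p.sylow k ((p.y.comm_of hl k).mul_left rfl) (two_of_sq (by rw [p.y.sq_of hl l2 k, p.x.sq]))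
  exact (mul_mem_cancel_left hl).1 (this.elim (fun e => e ▸ one_mem _) fun e => e ▸ p.y.aA)

theorem two_K {x : G} (h1 : x ∈ K') (h3 : Two x) : x = 1 ∨ x = s := p.sylow h1 (p.y.comm a p.aA x h1).symm h3

theorem odd_mem (sA : s ∈ A) {x : G} (h1 : x ∈ K') (h2 : Odd (orderOf x)) : x ∈ K := by
  obtain ⟨θ, t⟩ := p.y.exists_th fun k => p.two_K
  obtain ⟨P, hP, P2, P3, P4, P5⟩ := p.x.two s sA p.y.sq p.sK
  have tw : ∀ q ∈ P, Two q := fun q hq => two_coe.2 (P2 ⟨q, hq⟩)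
  have k1 : ∀ q ∈ P, q ∈ A' ⊔ K' → Commute x q := fun q hq h => by
    obtain ⟨u, hu, k, hk, rfl⟩ := (mem_sup_comm p.y.comm).1 h
    refine (p.y.comm _ (mem_of_pow_odd (tw _ hq) t.odd ?_) x h1).symm
    rw [(p.y.comm u hu k hk).mul_pow]
    refine mul_mem (pow_mem hu _) ((t.dec k hk).elim (fun e => ?_) fun e => ?_)
    · rw [show k ^ Nat.card θ = 1 from congrArg Subtype.val (pow_card_eq_one' (x := (⟨k, e⟩ : θ)))]; exact one_mem _
    · have : (k * s) ^ Nat.card θ = 1 := congrArg Subtype.val (pow_card_eq_one' (x := (⟨_, e⟩ : θ)))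
      rw [(p.y.cK hk).mul_pow] at this
      exact eq_inv_of_mul_eq_one_left this ▸ inv_mem (pow_mem p.y.aA _)
  have xa := (p.y.comm a p.aA x h1).symm
  have k2 := P5 x xa (p.y.cK h1) fun q hq => k1 _ (mul_mem hq hq) (p.y.sq_mem (P3 q hq))
  have k3 : ∀ q ∈ P, x * q * x⁻¹ = q := fun q hq => by
    by_cases e : q ∈ A' ⊔ K'
    · rw [(k1 q hq e).eq, mul_inv_cancel_right]
    have m := mul_mem (k2 q hq) (inv_mem hq)
    have c := k1 _ m (p.y.par _ _ (P3 _ (k2 q hq)) (P3 q hq).inv_left (fun e' => e (by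
      simpa [mul_assoc] using mul_mem (mul_mem (inv_mem (mem_sup_right h1)) e') (mem_sup_right h1)))
      fun e' => e (inv_mem_iff.1 e'))
    have h3 : ∀ n : ℕ, x ^ n * q * (x ^ n)⁻¹ = (x * q * x⁻¹ * q⁻¹) ^ n * q := fun n => by
      induction n with
      | zero => simp
      | succ n ih =>
        rw [show x ^ (n + 1) * q * (x ^ (n + 1))⁻¹ = x * (x ^ n * q * (x ^ n)⁻¹) * x⁻¹ by rw [pow_succ']; group, ih,
          ← conj_mul, (c.pow_right n).eq, mul_inv_cancel_right, pow_succ]; group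
    have h4 := h3 (orderOf x)
    rw [pow_orderOf_eq_one, one_mul, inv_one, mul_one, right_eq_mul] at h4
    exact mul_inv_eq_one.1 (eq_one_of_odd_two (odd_of_pow h2 h4) (tw _ m))
  obtain ⟨n, hn⟩ := h2
  have := ((P4 x 1 xa (mul_one 1) (fun q _ => Commute.one_right q) fun q hq => Or.inl (k3 q hq)).2.resolve_right
    fun e => (p.x.zA 1 e).2 rfl)
  have h5 := pow_mem this (n + 1)
  rwa [← pow_two, ← pow_mul, show 2 * (n + 1) = 2 * n + 1 + 1 by ring, ← hn, pow_succ, pow_orderOf_eq_one,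
    one_mul] at h5

end Pr

theorem Sd.exists_inner (h : Sd A K a Z) (h1 : Commute (g * a * g⁻¹) a) (h2 : g * a * g⁻¹ ≠ a) :
    ∃ g, g * a * g⁻¹ ≠ a ∧ g * a * g⁻¹ ∈ A ⊔ K ∧ g⁻¹ * a * g ∈ A ⊔ K := by
  have key : ∀ g, Commute (g * a * g⁻¹) a → g * a * g⁻¹ ∉ A ⊔ K →
      ∃ g, g * a * g⁻¹ ≠ a ∧ g * a * g⁻¹ ∈ A ⊔ K ∧ g⁻¹ * a * g ∈ A ⊔ K := fun g h1 h2 => by
    have b := h.toHf.conj g
    obtain ⟨r, -, r1, -, r2, r3⟩ := h.out _ h1 b.sq h2 _ b.par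
    have r4 := mem_cj_sup.1 (mul_mem r2 (mem_sup_left b.aA))
    rw [inv_mul_cancel_right] at r4
    refine ⟨g⁻¹ * r * g, fun e => r3 (by nth_rw 2 [← e]; group), by convert r4 using 1; group, ?_⟩
    convert r4 using 1
    calc _ = g⁻¹ * (r⁻¹ * ((r * r) * (g * a * g⁻¹) * (r * r)⁻¹) * r) * g := by
          rw [r1.eq, mul_inv_cancel_right]; group
      _ = _ := by group
  by_cases e1 : g * a * g⁻¹ ∈ A ⊔ K
  · by_cases e2 : g⁻¹ * a * g⁻¹⁻¹ ∈ A ⊔ K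
    · exact ⟨g, h2, e1, by rwa [inv_inv] at e2⟩
    · exact key _ (inv_comm h1) e2
  · exact key g h1 e1

theorem Sd.pr (h : Sd A K a Z) (h1 : g * a * g⁻¹ ≠ a) (h2 : g * a * g⁻¹ ∈ A ⊔ K) (h3 : g⁻¹ * a * g ∈ A ⊔ K) :
    Pr A K (cj g A) (cj g K) a (g * a * g⁻¹) Z :=
  ⟨h, h.toHf.conj g, h.tight g fun e => h1 (mul_inv_eq_iff_eq_mul.2 e), h2, mem_cj_sup.2 h3⟩

/-- the centralizer of `A` is `θ × ⟨a⟩`, and `θ` is normalized by an element which moves `a` -/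
theorem Sd.main [Finite G] (h : Sd A K a Z) (h1 : Commute (g * a * g⁻¹) a) (h2 : g * a * g⁻¹ ≠ a) :
    ∃ θ, Th K θ a ∧ ∃ g ∈ normalizer (θ : Set G), Commute (g * a * g⁻¹) a ∧ g * a * g⁻¹ ≠ a := by
  obtain ⟨g, g1, g2, g3⟩ := h.exists_inner h1 h2
  have p := h.pr g1 g2 g3
  have p' := h.pr (g := g⁻¹) (inv_ne g1) (by rwa [inv_inv]) (by rwa [inv_inv])
  obtain ⟨θ, t⟩ := h.exists_th fun k hk h2 => (p.two_K ⟨k, hk, rfl⟩ (two_conj g h2)).imp
    (fun e => by simpa using e) fun e => by simpa using e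
  exact ⟨θ, t, g, mem_normalizer_fintype fun x hx => (t.mem _).2 ⟨p.odd_mem (by simpa using mem_cj.1 p'.aA)
    ⟨x, ((t.mem x).1 hx).1, rfl⟩ (odd_conj g ((t.mem x).1 hx).2), odd_conj g ((t.mem x).1 hx).2⟩, p.c, g1⟩

end CfsgLib.StdB
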