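import Mathlib
import Cfsg.Agent.Lib.StdB.SPair
import Cfsg.Agent.Lib.StdB.SHolt

/-! STDB, package SFOUR (plans/STDB-STD.md): the centre of `A` contains no four-group. -/

set_option autoImplicit false

namespace CfsgLib.StdB

open Cfsg Subgroup CfsgLib.StdInt

variable {G : Type*} [Group G]

/-- the facts about `A` when its centre contains the four-group `V` -/
structure Sf (A K H V : Subgroup G) : Prop where
  vA : V ≤ A
  vK : V ≤ K
  sq : ∀ v ∈ V, v * v = 1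
  four : ∀ v ∈ V, v ≠ 1 → ∃ u ∈ V, u ≠ 1 ∧ u ≠ v ∧ ∀ x ∈ V, x = 1 ∨ x = v ∨ x = u ∨ x = u * v
  comm : ∀ l ∈ A, ∀ k ∈ K, Commute l k
  nA : ∀ h ∈ H, ∀ x ∈ A, h * x * h⁻¹ ∈ A
  nV : ∀ h ∈ H, ∀ x ∈ V, h * x * h⁻¹ ∈ V
  invC : ∀ r ∈ V, r ≠ 1 → ∀ c, Commute c r → c ∈ H
  tight : ∀ g ∉ H, ∀ x ∈ K, x ∈ cj g K → Odd (orderOf x)
  inn : ∀ h ∈ H, (∀ v ∈ V, Commute h v) → h ∈ A ⊔ K
  dec : ∀ u ∈ A ⊔ K, u * u ∈ K → ∃ l ∈ A, l * l = 1 ∧ l * u ∈ K
  fix : ∀ l ∈ A, l * l = 1 → l ∉ K → ∀ s, l * s ∈ K → s * s = 1 → ∀ y ∈ A ⊔ K,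
    (∀ p ∈ A, Commute p l → y * p * y⁻¹ = p ∨ y * p * y⁻¹ = p * s) → y ∈ K ∨ y * l ∈ K
  out : ∀ s ∈ H, s * s = 1 → s ∉ A ⊔ K → ∀ J : Subgroup G,
    (∀ x y, Commute x s → Commute y s → x ∉ J → y ∉ J → x * y ∈ J) →
    ∃ r ∈ A, Commute (r * r) s ∧ Commute (r * s * r⁻¹) s ∧ r * s * r⁻¹ * s⁻¹ ∈ J ∧ r * s * r⁻¹ ≠ s

namespace Sf

variable {A K H V : Subgroup G} (h : Sf A K H V) {g v : G}
include h

theorem cS {x : G} (hx : x ∈ A ⊔ K) (hv : v ∈ V) : Commute x v := by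
  obtain ⟨l, hl, k, hk, rfl⟩ := (mem_sup_comm h.comm).1 hx
  exact (h.comm l hl v (h.vK hv)).mul_left (h.comm v (h.vA hv) k hk).symm

theorem four' (hv : v ∈ V) (h1 : v ≠ 1) : ∃ u ∈ V, u ≠ 1 ∧ u ≠ v ∧
    (∀ x, Commute x v → x * u * x⁻¹ = u ∨ x * u * x⁻¹ = u * v) ∧
    ∀ x, Commute x v → Commute x u → ∀ w ∈ V, Commute x w := by
  obtain ⟨u, hu, u1, u2, u3⟩ := h.four v hv h1
  refine ⟨u, hu, u1, u2, fun x hx => ?_, fun x c1 c2 w hw => ?_⟩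
  · rcases u3 _ (h.nV x (h.invC v hv h1 x hx) u hu) with e | e | e
    · exact absurd (by simpa using e) u1
    · exact absurd (conj_injective (e.trans (show v = x * v * x⁻¹ by rw [hx.eq, mul_inv_cancel_right]))) u2
    · exact e
  · rcases u3 w hw with rfl | rfl | rfl | rfl
    exacts [Commute.one_right x, c1, c2, c2.mul_right c1]

theorem swap {x y u : G} (hv : v ∈ V) (hx : Commute x v) (e1 : x * u * x⁻¹ = u * v) (e2 : y * u * y⁻¹ = u * v) :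
    Commute (x * y) u := mul_inv_eq_iff_eq_mul.1 (by
  rw [show x * y * u * (x * y)⁻¹ = x * (y * u * y⁻¹) * x⁻¹ by group, e2, ← conj_mul, e1, hx.eq, mul_inv_cancel_right,
    mul_assoc, h.sq v hv, mul_one])

theorem par (hv : v ∈ V) (h1 : v ≠ 1) {x y : G} (hx : Commute x v) (hy : Commute y v) (n1 : x ∉ A ⊔ K)
    (n2 : y ∉ A ⊔ K) : x * y ∈ A ⊔ K := by
  obtain ⟨u, -, -, -, u3, u4⟩ := h.four' hv h1
  have k : ∀ x, Commute x v → Commute x u → x ∈ A ⊔ K := fun x c1 c2 =>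
    h.inn x (h.invC v hv h1 x c1) (u4 x c1 c2)
  exact k _ (hx.mul_left hy) (h.swap hv hx ((u3 x hx).resolve_left fun e => n1 (k x hx (mul_inv_eq_iff_eq_mul.1 e)))
    ((u3 y hy).resolve_left fun e => n2 (k y hy (mul_inv_eq_iff_eq_mul.1 e))))

theorem core (hg : g ∉ H) (hv : v ∈ V) (h1 : v ≠ 1) : ¬ ∀ w ∈ V, Commute (g * v * g⁻¹) w := fun c => by
  obtain ⟨u, hu, u1, u2, u3, -⟩ := h.four' hv h1
  have one : ∀ w ∈ V, g * w * g⁻¹ ∈ K → w = 1 := fun w hw k => by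
    simpa using eq_one_of_odd_sq (h.tight g hg _ k ⟨w, h.vK hw, rfl⟩)
      (by rw [conj_mul, h.sq w hw, mul_one, mul_inv_cancel])
  have u5 : ∀ x, Commute x (g * v * g⁻¹) → x * (g * u * g⁻¹) * x⁻¹ = g * u * g⁻¹ ∨
      x * (g * u * g⁻¹) * x⁻¹ = g * u * g⁻¹ * (g * v * g⁻¹) := fun x hx =>
    (u3 _ (comm_conj.1 hx)).imp (fun e => by nth_rw 2 [← e]; group) fun e => by rw [conj_mul, ← e]; group
  have uv : Commute (g * u * g⁻¹) (g * v * g⁻¹) := (h.cS (mem_sup_left (h.vA hu)) hv).map (MulAut.conj g)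
  have s2 : g * v * g⁻¹ * (g * v * g⁻¹) = 1 := by rw [conj_mul, h.sq v hv, mul_one, mul_inv_cancel]
  have n1 : g * v * g⁻¹ ∉ K := fun k => h1 (one v hv k)
  have n2 : g * u * g⁻¹ ∉ K := fun k => u1 (one u hu k)
  have n3 : g * u * g⁻¹ * (g * v * g⁻¹) ∉ K := fun k => u2 (by
    have := one _ (mul_mem hu hv) (by rwa [conj_mul] at k)
    rwa [← h.sq v hv, mul_left_inj] at this)
  generalize g * v * g⁻¹ = s at *
  generalize g * u * g⁻¹ = s' at *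
  have u6 : ∀ x, Commute x s → s' * x * s'⁻¹ = x ∨ s' * x * s'⁻¹ = x * s := fun x hx =>
    have e0 : s' * x * s'⁻¹ = x * (x⁻¹ * s' * x⁻¹⁻¹) * s'⁻¹ := by group
    (u5 _ hx.inv_left).imp (fun e => by rw [e0, e, mul_inv_cancel_right]) fun e => by
      rw [e0, e, mul_assoc, uv.eq, mul_inv_cancel_right]
  have m : s' ∈ H := by
    by_contra n
    have k : ∀ w ∈ V, w ≠ 1 → s' * w * s'⁻¹ = w * s := fun w hw w1 => (u6 w (c w hw).symm).resolve_left fun e =>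
      n (h.invC w hw w1 s' (mul_inv_eq_iff_eq_mul.1 e))
    have := k _ (mul_mem hu hv) fun e => u2 (by rwa [← h.sq v hv, mul_left_inj] at e)
    rw [← conj_mul, k u hu u1, k v hv h1, (c v hv).mul_mul_mul_comm, s2, mul_one, left_eq_mul] at this
    exact n1 (this ▸ one_mem K)
  have m' := h.inn s' m fun w hw => mul_inv_eq_iff_eq_mul.1 ((u6 w (c w hw).symm).resolve_right fun e =>
    n1 ((K.mul_mem_cancel_left (h.vK hw)).1 (e ▸ h.vK (h.nV s' m w hw))))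
  obtain ⟨l, hl, l2, k⟩ := h.dec s (h.inn s (h.invC v hv h1 s (c v hv)) c) (s2 ▸ one_mem K)
  refine (h.fix l hl l2 (fun e => n1 ((K.mul_mem_cancel_left e).1 k)) s k s2 s' m' fun p hp cp => u6 p (by
    simpa using cp.inv_right.mul_right (h.comm p hp _ k))).elim n2 fun e => n3 ?_
  have := mul_mem e k
  rwa [mul_assoc, ← mul_assoc l, l2, one_mul] at this

theorem closed (hv : v ∈ V) (h1 : v ≠ 1) (k : g * v * g⁻¹ ∈ H) : g ∈ H := by
  by_contra hg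
  refine h.core hg hv h1 fun w hw => h.cS (by_contra fun n => ?_) hw
  obtain ⟨r, hr, -, -, r2, r3⟩ := h.out _ k (by rw [conj_mul, h.sq v hv, mul_one, mul_inv_cancel]) n
    (cj g A ⊔ cj g K) fun x y hx hy n1 n2 => by
      rw [mem_cj_sup] at n1 n2 ⊢
      simpa [mul_assoc] using h.par hv h1 (comm_conj.1 hx) (comm_conj.1 hy) n1 n2
  have e : g⁻¹ * (r * (g * v * g⁻¹) * r⁻¹ * (g * v * g⁻¹)⁻¹) * g = g⁻¹ * r * g * v * (g⁻¹ * r * g)⁻¹ * v⁻¹ := by group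
  rw [mem_cj_sup, e, (A ⊔ K).mul_mem_cancel_right (inv_mem (mem_sup_left (h.vA hv)))] at r2
  have m : g⁻¹ * r * g ∈ H := by_contra fun n => h.core n hv h1 fun w hw => h.cS r2 hw
  refine h.core hg (mul_mem (h.nV _ m v hv) (inv_mem hv)) (fun e' => r3 ?_) fun w hw => h.cS (mem_sup_left ?_) hw
  · rw [← e] at e'
    exact mul_inv_eq_one.1 (by simpa [mul_assoc] using congrArg (fun x => g * x * g⁻¹) e')
  · convert mul_mem hr (h.nA _ k _ (inv_mem hr)) using 1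
    group

theorem elim [Finite G] [IsSimpleGroup G] (hG : ¬ IsMulCommutative G) (hV : V ≠ ⊥) (hA : A ≤ H)
    (hs : ¬ Group.IsSolvable A) : False := by
  have VH := h.vA.trans hA
  have hN : H ≤ normalizer (V : Set G) := fun x hx => mem_normalizer_fintype (h.nV x hx)
  have c : IsMulCommutative V := ⟨⟨fun a b => Subtype.ext (h.comm a (h.vA a.2) b (h.vK b.2))⟩⟩
  have : (V.subgroupOf H).Normal := ⟨fun x hx y => h.nV y y.2 x hx⟩
  obtain ⟨S⟩ : Nonempty (Sylow 2 H) := inferInstance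
  obtain ⟨⟨v, hv⟩, h1⟩ := ne_bot_iff_exists_ne_one.1 hV
  obtain ⟨r, r1, r2, r3, r4⟩ := exists_fixed (N := V.subgroupOf H) S.isPGroup' (x := ⟨v, VH hv⟩) hv
    (fun e => h1 (Subtype.ext (congrArg H.subtype e))) (two_of_sq (Subtype.ext (h.sq v hv)))
  have p2 : IsPGroup 2 (V.subgroupOf H) := fun x => ⟨1, Subtype.ext (Subtype.ext (by simpa [pow_two] using h.sq _ x.2))⟩
  have k : ∀ g : G, g * r * g⁻¹ ∈ H → g ∈ H := fun g => h.closed r1 fun e => r2 (Subtype.ext e)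
  refine holt0 hG (fun e => ?_) (two_central ⟨orderOf_eq_prime (by rw [pow_two, r3]) r2, S, ?_, r4⟩ k) r.2 k
    (fun s => hs (Group.isSolvable_of_isSolvable_injective (inclusion_injective hA))) VH hN hV
    (Group.isSolvable_of_comm fun a b => c.1.1 a b)
  · rcases (normalizer_eq_top_iff.1 (top_le_iff.1 (e ▸ hN))).eq_bot_or_eq_top with e | e
    · exact hV e
    · exact hG ⟨⟨fun a b => congrArg Subtype.val (c.1.1 ⟨a, e ▸ mem_top a⟩ ⟨b, e ▸ mem_top b⟩)⟩⟩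
  · exact p2.le_sylow_of_normal S r1

end Sf

end CfsgLib.StdB
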