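import Mathlib
import Cfsg.Agent.Lib.StdB.Defs
import Cfsg.Agent.Lib.Y333.Mult
import Cfsg.Agent.S2130
import Cfsg.Agent.Lib.Pat.NW

/-! STDB, package ISO (plans/STDB.md §ISO). -/

set_option autoImplicit false

namespace CfsgLib.StdB

open Cfsg CfsgLib.Leech CfsgLib.Mon CfsgLib.DCX CfsgLib.StdM Subgroup

namespace IsoP

open CfsgLib.Mon.Y CfsgLib.Mon.Cov CfsgLib.Y333 Equiv

theorem exists_aut {D T : Type*} [Group D] [Group T] {σ : D →* T} (hs : Function.Surjective σ) (γ : MulAut D)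
    (h : ∀ x, σ (γ x) = 1 ↔ σ x = 1) : ∃ β : MulAut T, ∀ x, β (σ x) = σ (γ x) := by
  let f := σ.liftOfSurjective hs ⟨σ.comp γ.toMonoidHom, fun x hx => (h x).2 hx⟩
  have hf : ∀ x, f (σ x) = σ (γ x) := fun x => σ.liftOfRightInverse_comp_apply _ _ _ x
  refine ⟨MulEquiv.ofBijective f ⟨(injective_iff_map_eq_one f).2 fun y hy => ?_, fun y => ?_⟩, hf⟩
  · obtain ⟨x, rfl⟩ := hs y
    exact (h x).1 ((hf x).symm.trans hy)
  · obtain ⟨x, rfl⟩ := hs y
    exact ⟨σ (γ.symm x), by rw [hf, MulEquiv.apply_symm_apply]⟩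

theorem mb : MB πM τM := ⟨MonK.ms_MU, (Ym.ym mam_MU).card_cen2 MonK.ms_MU y333Card⟩

theorem nodes : ∃ y : Nd → LM πM, YS 3 3 3 y ∧ f1 y = aL πM ∧ (f2 y).1 = πM tK ∧ f3 y = 1 ∧ gen 3 3 3 y = ⊤ := by
  obtain ⟨m, Y⟩ : ∃ m, YM πM m := ⟨_, Ym.ym mam_MU⟩
  have k := Y.gen333 MonK.ms_MU y333Card
  obtain ⟨y, e⟩ := exists_res (H := LM πM) k.le
  have hi := (LM πM).subtype_injective
  refine ⟨y, ys_of_inj hi (Y.ys.mono (by norm_num) (by norm_num) le_rfl) e, hi (((map_f1 _ y).trans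
    (f1_congr fun u hu => e u (Nd.ok_mono le_rfl (by norm_num) (by norm_num) hu))).trans Y.e1),
    ((map_f2 (LM πM).subtype y).trans
    (f2_congr fun u hu => e u (Nd.ok_mono (by norm_num) le_rfl (by norm_num) hu))).trans Y.e2,
    hi (((map_f3 _ y).trans (f3_congr fun u hu => e u (Nd.ok_mono (by norm_num) (by norm_num) le_rfl hu))).trans Y.e3),
    map_injective hi ?_⟩
  rw [map_gen_of e le_rfl le_rfl le_rfl, k, ← MonoidHom.range_eq_map, range_subtype]

theorem perfect : Group.IsPerfect (LM πM) :=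
  let ⟨_, a, _, _, b, c⟩ := nodes; ⟨MonS.perfect333 a.toYC b c⟩

variable {K : Type*} [Field K] [Fintype K]

theorem exists_cover (hK : Fintype.card K = 4) {L : Type*} [Group L] {σ : L →* Lie.twistedE6 K 2}
    (hσ : IsStemExtension σ) (h2 : Nat.card σ.ker = 2) : ∃ φ : LM πM →* L, Function.Surjective φ ∧
      (∀ l, φ l = 1 ↔ l.1 = 1 ∨ l.1 = πM tK) ∧ σ (φ (aL πM)) = 1 := by
  obtain ⟨n, U⟩ := exists_un hK
  obtain ⟨y, n', U', m, h, h1, h3, h4, hg⟩ := U.double hσ h2
  obtain ⟨x, k, k1, k2, k3, kg⟩ := nodes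
  obtain ⟨H, _, ρ, r1, r2, -, -, r3⟩ := exists_quot (k.f2_sq le_rfl) fun g =>
    comm_f2 k le_rfl le_rfl le_rfl (kg.ge (mem_top g))
  let ρ' : LM πM →* ULift H := MulEquiv.ulift.symm.toMonoidHom.comp ρ
  have s1 : Function.Surjective ρ' := MulEquiv.ulift.symm.surjective.comp r1
  have s2 : ∀ l, ρ' l = 1 ↔ l = 1 ∨ l = f2 x := fun l => MulEquiv.ulift.symm.map_eq_one_iff.trans (r2 l)
  obtain ⟨ψ, hψ⟩ := U'.univ2 m h h1 h3 h4 hg (k.map ρ') ((map_f2 ρ' x).symm.trans ((s2 _).2 (Or.inr rfl)))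
    (by rw [← map_f3, k3, map_one])
  have c1 := σ.ker.card_mul_index
  rw [index_ker, MonoidHom.range_eq_top.2 hσ.1, card_top, cardT hK, h2] at c1
  have c2 := r3 fun e => tK_facts.1 (mb.inj ((k2.symm.trans (congrArg Subtype.val e)).trans (map_one πM).symm))
  rw [mb.cardL] at c2
  have : Finite L := Nat.finite_of_card_ne_zero (by rw [← c1]; norm_num)
  have hb : Function.Bijective ψ := Function.Surjective.bijective_of_nat_card_le (MonoidHom.range_eq_top.1 (by
    rw [MonoidHom.range_eq_map, ← hg, map_gen_of hψ le_rfl le_rfl le_rfl, gen_map_top s1 kg])) (by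
    rw [Nat.card_ulift, ← c1]; norm_num; omega)
  let E := MulEquiv.ofBijective ψ hb
  refine ⟨E.symm.toMonoidHom.comp ρ', E.symm.surjective.comp s1, fun l => (E.symm.map_eq_one_iff.trans (s2 l)).trans
    (or_congr Subtype.ext_iff (k2 ▸ Subtype.ext_iff)), ?_⟩
  have : E.symm (ρ' (f1 x)) = f1 y := E.symm_apply_eq.2 ((map_f1 ρ' x).trans ((map_f1 ψ y).trans
    (f1_congr fun u hu => hψ u (Nd.ok_mono le_rfl (by norm_num) (by norm_num) hu))).symm)
  rw [← k1]
  exact (congrArg σ this).trans ((map_f1 σ y).trans ((congrArg f1 (funext m)).trans U'.f1))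

theorem card_out (hK : Fintype.card K = 4) : Nat.card (Out (Lie.twistedE6 K 2)) = 6 := by
  obtain ⟨_, -⟩ := exists_units hK
  simpa using Cfsg.Agent.S2130.result (K := K) 2 1 (by rw [hK]; rfl) le_rfl

theorem mem_LM {x : MU} : x ∈ LM πM ↔ ∀ i, x * πM (MonS.w3 i) = πM (MonS.w3 i) * x := by
  rw [mem_cen2]
  refine ⟨fun h i => ?_, fun h => ⟨h 2, h 1⟩⟩
  fin_cases i
  exacts [(map_mul πM tK t1M ▸ (show Commute x _ from h.1).mul_right h.2 :), h.2, h.1]

theorem w3_mem (i : Fin 3) : πM (MonS.w3 i) ∈ LM πM := by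
  fin_cases i
  exacts [(ιL πM ⟨_, mul_mem (mem_DK.2 ⟨rfl, (mem_CK.1 tK1_mem_CK).symm⟩) (mem_DK.2 ⟨mem_CK.1 tK1_mem_CK, rfl⟩)⟩).2,
    (aL πM).2, (ιL πM ⟨_, mem_DK.2 ⟨rfl, (mem_CK.1 tK1_mem_CK).symm⟩⟩).2]

theorem w3_inj : Function.Injective fun i => πM (MonS.w3 i) := mb.inj.comp fun i j e => by
  have := tK_facts
  fin_cases i <;> fin_cases j <;> simp_all [MonS.w3]

/-- every automorphism of the quotient of `LM` by its centre is induced by the normalizer -/
theorem exists_n {T : Type*} [Group T] (hT : Nat.card (Out T) = 6) {σ : LM πM →* T} (hs : Function.Surjective σ)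
    (hk : ∀ l, σ l = 1 ↔ l.1 = 1 ∨ ∃ i, l.1 = πM (MonS.w3 i)) (β : MulAut T) :
    ∃ (n : MU) (γ : MulAut (LM πM)), (∀ l, (γ l).1 = n * l.1 * n⁻¹) ∧ ∀ l, σ (γ l) = β (σ l) := by
  have := perfect
  have : Finite (Out T) := Nat.finite_of_card_ne_zero (by omega)
  choose c hc using MonS.conj_w3
  have hc' : ∀ s i, πM (c s) * πM (MonS.w3 i) * (πM (c s))⁻¹ = πM (MonS.w3 (s i)) := fun s i => by
    rw [← map_inv, ← map_mul, ← map_mul, hc]
  have hn : ∀ s, πM (c s) ∈ normalizer (LM πM : Set MU) := fun s => mem_normalizer_iff.2 fun x => by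
    rw [mem_LM, mem_LM]
    conv_rhs => rw [← s.forall_congr_right]
    simp only [← hc', conj_mul, mul_left_inj, mul_right_inj]
  let γ : Perm (Fin 3) → MulAut (LM πM) := fun s => (LM πM).normalizerMonoidHom ⟨_, hn s⟩
  have hγ : ∀ s l, (γ s l).1 = πM (c s) * l.1 * (πM (c s))⁻¹ := fun _ _ => rfl
  choose b hb using fun s => exists_aut hs (γ s) fun x => by
    rw [hk, hk, hγ, ← s.exists_congr_right]
    simp only [← hc', conj_eq_one_iff, mul_left_inj, mul_right_inj]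
  have key : ∀ s (β : MulAut T), (b s : Out T) = β → ∃ d : LM πM, ∀ l, σ (γ s (d * l * d⁻¹)) = β (σ l) := fun s β e => by
    obtain ⟨g, hg⟩ := QuotientGroup.eq.1 e
    obtain ⟨d, rfl⟩ := hs g
    exact ⟨d, fun l => by rw [← hb, ← eq_inv_mul_iff_mul_eq.1 hg]; simp⟩
  have hi : Function.Injective fun s => (b s : Out T) := fun s s' e => by
    obtain ⟨d, hd⟩ := key s _ e
    have := Schur.lift_unique_of_perfect (σ := σ) (fun x hx => mem_center_iff.2 fun g => Subtype.ext (by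
        rcases (hk x).1 hx with k | ⟨i, k⟩
        · simp [k]
        · rw [coe_mul, coe_mul, k]; exact mem_LM.1 g.2 i))
      (γ s * MulAut.conj d).toMonoidHom (γ s').toMonoidHom (MonoidHom.ext fun l => (hd l).trans (hb s' l))
    refine Equiv.ext fun i => w3_inj ?_
    have := congrArg Subtype.val (DFunLike.congr_fun this ⟨_, w3_mem i⟩)
    change πM (c s) * (d.1 * πM (MonS.w3 i) * d.1⁻¹) * (πM (c s))⁻¹ = πM (c s') * πM (MonS.w3 i) * (πM (c s'))⁻¹
      at this
    rwa [mem_LM.1 d.2, mul_inv_cancel_right, hc', hc'] at this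
  obtain ⟨s, e⟩ := (hi.bijective_of_nat_card_le (by rw [hT]; simp [Fintype.card_perm]; decide)).2 β
  obtain ⟨d, hd⟩ := key s β e
  exact ⟨πM (c s) * d, γ s * MulAut.conj d, fun l => by simp [hγ, mul_assoc], hd⟩

end IsoP

open IsoP

/-- a perfect double cover of `²E₆(2)` which is normal in the centralizer of its central involution -/
theorem exists_emb' {G L : Type*} [Group G] [Group L] {K : Type*} [Field K] [Fintype K] (hK : Fintype.card K = 4)
    {σ : L →* Lie.twistedE6 K 2} (hσ : IsStemExtension σ) (h2 : Nat.card σ.ker = 2) {ι : L →* G}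
    (hι : Function.Injective ι) {a : L} (a1 : σ a = 1) (a2 : a ≠ 1)
    (hn : ∀ h, h * ι a = ι a * h → h ∈ normalizer (ι.range : Set G))
    (hc : ∀ g, (∀ l, g * ι l = ι l * g) → g = 1 ∨ g = ι a) :
    ∃ φ : LM πM →* G, Emb τM φ ∧ φ (aL πM) = ι a ∧ φ.range = ι.range := by
  have := perfect
  obtain ⟨φ, s1, s2, s3⟩ := exists_cover hK hσ h2
  obtain ⟨⟨z, hz⟩, z1, z2⟩ := (Nat.card_eq_two_iff' 1).1 h2
  have c : ∀ x, σ x = 1 → x ≠ 1 → x = z := fun x hx e =>
    congrArg Subtype.val (z2 ⟨x, hx⟩ fun e' => e (congrArg Subtype.val e'))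
  have t1 : πM tK ≠ 1 := fun e => Cov.tK_facts.1 (mb.inj (e.trans (map_one _).symm))
  have ea : φ (aL πM) = a := (c _ s3 fun e => ((s2 _).1 e).elim
    (fun e => Cov.tK_facts.2.1 (mb.inj (e.trans (map_one _).symm))) fun e => Cov.tK_facts.2.2 (mb.inj e).symm).trans
    (c a a1 a2).symm
  have eq : ∀ l l', φ l = φ l' ↔ l.1 = l'.1 ∨ l.1 = πM tK * l'.1 := fun l l' => by
    rw [← mul_inv_eq_one, ← map_inv, ← map_mul, s2, coe_mul, coe_inv, mul_inv_eq_one, mul_inv_eq_iff_eq_mul]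
  have c' : ∀ x, σ x = 1 ↔ x = 1 ∨ x = a := fun x => ⟨fun hx => or_iff_not_imp_left.2 fun e =>
    (c x hx e).trans (c a a1 a2).symm, by rintro (rfl | rfl); exacts [map_one _, a1]⟩
  refine ⟨ι.comp φ, ⟨mb, fun l => (map_eq_one_iff ι hι).trans (s2 l), fun h hh => ?_, fun g hg => ?_⟩,
    congrArg ι ea, by rw [MonoidHom.range_comp, MonoidHom.range_eq_top.2 s1, MonoidHom.range_eq_map]⟩
  · rw [MonoidHom.comp_apply, ea] at hh
    let E := MonoidHom.ofInjective hι
    let α : MulAut L := (E.trans (ι.range.normalizerMonoidHom ⟨h, hn h hh⟩)).trans E.symm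
    have hα : ∀ x, ι (α x) = h * ι x * h⁻¹ := fun x => congrArg Subtype.val (E.apply_symm_apply _)
    have αa : α a = a := hι (by rw [hα, hh, mul_inv_cancel_right])
    obtain ⟨β, hβ⟩ := exists_aut hσ.1 α fun x => by
      rw [c', c', α.map_eq_one_iff]; conv_lhs => rw [← αa, α.apply_eq_iff_eq]
    obtain ⟨n, γ, g1, g2⟩ := exists_n (card_out hK) (σ := σ.comp φ) (hσ.1.comp s1) (fun l => by
      rw [MonoidHom.comp_apply, c', s2, ← ea, eq, Fin.exists_fin_succ, Fin.exists_fin_two]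
      simp only [MonS.w3, coe_aL]; simp; tauto) β
    have k := Schur.lift_unique_of_perfect hσ.2.1 (φ.comp γ.toMonoidHom) (α.toMonoidHom.comp φ)
      (MonoidHom.ext fun l => (g2 l).trans (hβ _))
    have k' : ∀ l, φ (γ l) = α (φ l) := DFunLike.congr_fun k
    refine ⟨n, ?_, ?_, fun l l' e => ?_⟩
    · have := (s2 _).1 ((k' ⟨_, w3_mem 2⟩).trans (by rw [(s2 _).2 (Or.inr rfl), map_one]))
      rw [g1, conj_eq_one_iff] at this
      exact mul_inv_eq_iff_eq_mul.1 (this.resolve_left t1)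
    · have := (eq _ _).1 ((k' (aL πM)).trans (by rw [ea, αa, ← ea]))
      rwa [g1] at this
    · rw [show l' = γ l from Subtype.ext (e.trans (g1 l).symm), MonoidHom.comp_apply, MonoidHom.comp_apply, k', hα]
  · rw [MonoidHom.comp_apply, ea]
    exact hc g fun l => by obtain ⟨l, rfl⟩ := s1 l; exact hg l

theorem stem_of_nonsplit {L K : Type*} [Group L] [Field K] [Fintype K] (hK : Fintype.card K = 4)
    (h : IsNonsplitDoubleCover L (Lie.twistedE6 K 2)) :
    ∃ σ : L →* Lie.twistedE6 K 2, IsStemExtension σ ∧ σ.ker = center L := by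
  have := Y333.simpleT hK
  have k := (Pat.quasisimple_of_nonsplit (fun c => by
    let _ : CommGroup (Lie.twistedE6 K 2) := { mul_comm := c.1.1 }
    have := IsSimpleGroup.prime_card (α := Lie.twistedE6 K 2)
    rw [Y333.cardT hK] at this
    exact absurd (this.eq_one_or_self_of_dvd 2 (by norm_num)) (by norm_num)) h).1.1
  obtain ⟨-, ⟨e⟩, -⟩ := h
  have hk : (e.toMonoidHom.comp (QuotientGroup.mk' _)).ker = center L := by ext x; simp
  exact ⟨_, ⟨e.surjective.comp (QuotientGroup.mk'_surjective _), hk.le, k ▸ le_top⟩, hk⟩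

theorem exists_emb {G : Type*} [Group G] [Finite G] (t : G) (ht : orderOf t = 2)
    (M : Subgroup (centralizer ({t} : Set G))) [M.Normal] (K : Type) [Field K] [Fintype K]
    (hK : Fintype.card K = 4) (hout : centralizer (M : Set (centralizer ({t} : Set G))) ≤ M)
    (hcov : IsNonsplitDoubleCover M (Lie.twistedE6 K 2)) :
    ∃ φ : LM πM →* G, Emb τM φ ∧ φ (aL πM) = t := by
  obtain ⟨σ, hσ, hk⟩ := stem_of_nonsplit hK hcov
  let T : centralizer ({t} : Set G) := ⟨t, mem_centralizer_singleton_iff.2 rfl⟩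
  have hT : ∀ x, x * T = T * x := fun x => Subtype.ext (mem_centralizer_singleton_iff.1 x.2)
  let a : M := ⟨T, hout (mem_centralizer_iff.2 fun x _ => hT x)⟩
  have a1 : a ∈ center M := mem_center_iff.2 fun x => Subtype.ext (hT x)
  have a2 : a ≠ 1 := fun e => absurd (ht.symm.trans (orderOf_eq_one_iff.2 (congrArg (fun x : M => x.1.1) e))) (by decide)
  obtain ⟨φ, h1, h2, -⟩ := exists_emb' hK hσ (hk ▸ hcov.1) (ι := (centralizer {t}).subtype.comp M.subtype)
    (Subtype.val_injective.comp Subtype.val_injective) (a := a) (hk.ge a1) a2 (fun h hh => by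
      have k : ∀ h, h * t = t * h → ∀ x ∈ ((centralizer {t}).subtype.comp M.subtype).range,
          h * x * h⁻¹ ∈ ((centralizer {t}).subtype.comp M.subtype).range := by
        rintro h hh _ ⟨x, rfl⟩
        exact ⟨⟨_, ‹M.Normal›.conj_mem _ x.2 ⟨h, mem_centralizer_singleton_iff.2 hh⟩⟩, rfl⟩
      exact mem_normalizer_iff.2 fun x => ⟨k h hh x, fun hx => by
        simpa [mul_assoc] using k h⁻¹ (show Commute h t from hh).inv_left _ hx⟩) fun g hg => by
      let g' : centralizer ({t} : Set G) := ⟨g, mem_centralizer_singleton_iff.2 (hg a)⟩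
      have k : ∀ x ∈ M, x * g' = g' * x := fun x hx => Subtype.ext (hg ⟨x, hx⟩).symm
      obtain ⟨z, -, z2⟩ := (Nat.card_eq_two_iff' 1).1 hcov.1
      refine or_iff_not_imp_left.2 fun e => congrArg (fun x : center M => x.1.1.1) ((z2
        ⟨⟨g', hout (mem_centralizer_iff.2 k)⟩, mem_center_iff.2 fun x => Subtype.ext (k _ x.2)⟩ fun e' =>
          e (congrArg (fun x : center M => x.1.1.1) e')).trans
        (z2 ⟨a, a1⟩ fun e' => a2 (congrArg Subtype.val e')).symm)
  exact ⟨φ, h1, h2⟩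

end CfsgLib.StdB
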