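import Mathlib
import Cfsg.Agent.Lib.StdB.SDefs
import Cfsg.Agent.Lib.StdB.Iso
import Cfsg.Agent.Lib.StdM.PW
import Cfsg.Agent.Lib.StdM.Lee
import Cfsg.Agent.S2182

/-! STDB, package SISO (plans/STDB-STD.md). -/

set_option autoImplicit false

namespace CfsgLib.StdB

open Cfsg CfsgLib.Leech CfsgLib.Mon CfsgLib.DCX CfsgLib.StdM Subgroup FusP
open CfsgLib.StdInt (Two cj mem_cj two_conj two_of_sq eq_one_of_odd_two odd_of_pow)

namespace SIso

section E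

variable {M : Type*} [Group M] {π : C k0 →* M} {x y : M}

theorem aa (π : C k0 →* M) (y : M) : π tK1 * (π tK1 * y) = y := by
  rw [← mul_assoc, ← map_mul, a_mul_self, map_one, one_mul]

theorem ta (π : C k0 →* M) (y : M) : π tK1 * (π tK * y) = π tK * (π tK1 * y) := by
  rw [← mul_assoc, ← mul_assoc, show π tK1 * π tK = _ from (mem_cen2.1 (aL π).2).1]; rfl

theorem E_mul (hx : InE π x) (hy : InE π y) : InE π (x * y) := by
  rw [← mul_one (x * y)]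
  rcases hx with rfl | rfl | rfl | rfl <;> rcases hy with rfl | rfl | rfl | rfl <;>
    simp only [mul_assoc, one_mul, aa, ta, tt] <;> simp [InE]

theorem E_sq (hx : InE π x) : x * x = 1 := by
  rw [← mul_one (x * x)]
  rcases hx with rfl | rfl | rfl | rfl <;> simp only [mul_assoc, one_mul, aa, ta, tt]

theorem E_comm (hx : InE π x) (l : LM π) : Commute l.1 x := by
  obtain ⟨a, b⟩ := mem_cen2.1 l.2
  rcases hx with rfl | rfl | rfl | rfl
  exacts [Commute.one_right _, a, b, (show Commute _ _ from a).mul_right b]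

theorem E_iff : InE π x ↔ x = 1 ∨ ∃ i, x = π (MonS.w3 i) := by
  rw [Fin.exists_fin_succ, Fin.exists_fin_two, InE]
  simp only [MonS.w3]; simp; tauto

theorem E_vb (h : InE π y) : y = 1 ∨ ∃ e, ∃ n ∈ [0x474000, 0x477000, 0x3000], y = π (q k0 e (vb n)) := by
  have h1 : tK = q k0 0 (vb 0x474000) := tK_eq.trans (congrArg _ v0_vb)
  have h2 : tK1 = q k0 0 (vb 0x477000) := t1K_vb
  rcases h with rfl | rfl | rfl | rfl
  · exact Or.inl rfl
  · exact Or.inr ⟨_, _, by simp, congrArg π h1⟩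
  · exact Or.inr ⟨_, _, by simp, congrArg π h2⟩
  · exact Or.inr ⟨_, 0x3000, by simp, by rw [← map_mul, h1, h2, q_mul, ← vb_xor]; rfl⟩

theorem nsh {m : ℕ} (i j k l : Fin 24) (h : sqNorm (dlL (Golay.pt i) (Golay.pt j) +
    dlL (Golay.pt k) (Golay.pt l)).1 = 64 ∧ m = lamN i ^^^ lamN j ^^^ (lamN k ^^^ lamN l)) : ¬ IsShort k0 (vb m) :=
  Four.not_short ⟨_, h.1, by rw [map_add, φ_dl i.2 j.2, φ_dl k.2 l.2, ← vb_xor, h.2]⟩

theorem notA {τ : M} (h : MS π τ) {e : ZMod 2} {m : ℕ}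
    (hm : ∀ n ∈ [0x474000, 0x477000, 0x3000], ¬ IsShort k0 (vb (m ^^^ n))) (hy : InE π y)
    (k : IsConj (π tK) (π (q k0 e (vb m)) * y)) : y = 1 := by
  refine (E_vb hy).resolve_right ?_
  rintro ⟨e', n, hn, rfl⟩
  rw [← map_mul, q_mul, ← vb_xor] at k
  exact hm n hn (h.short_q k)

/-- elements of `Q ⊓ DK` commuting with `τ` -/
def Gd (π : C k0 →* M) (τ x : M) : Prop := Commute τ x ∧ ∃ c ∈ Q k0 ⊓ DK, x = π c

theorem Gd.mul {τ : M} (hx : Gd π τ x) (hy : Gd π τ y) : Gd π τ (x * y) := by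
  obtain ⟨a, c, hc, rfl⟩ := hx
  obtain ⟨b, d, hd, rfl⟩ := hy
  exact ⟨a.mul_right b, c * d, mul_mem hc hd, (map_mul _ _ _).symm⟩

theorem gd_tI {τ : M} (h : MAm π τ) (p r : GolayPt) : Gd π τ (π (tI k0 p r)) := by
  refine ⟨mul_inv_eq_iff_eq_mul.1 (h.conj (gam_E (std_k0.isE_xI_mul p r))), _, ?_, rfl⟩
  rw [std_k0.tI_eq]
  refine ⟨q_mem_Q _ _, q_mem_DK.2 ⟨?_, ?_⟩⟩ <;>
    simp only [φ_dlL, om_add_left, om_add_right, om_lam_lam, add_zero]

theorem gd_E {τ : M} (h : MAm π τ) (hx : InE π x) : Gd π τ x := by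
  rcases hx with rfl | rfl | rfl | rfl
  exacts [⟨Commute.one_right _, 1, one_mem _, (map_one _).symm⟩, gd_tI h _ _, gd_tI h _ _,
    (gd_tI h _ _).mul (gd_tI h _ _)]

theorem Gd.mem {τ : M} (hx : Gd π τ x) : x ∈ LM π := by
  obtain ⟨-, c, hc, rfl⟩ := hx
  exact (ιL π ⟨c, hc.2⟩).2

theorem Gd.eq {τ : M} (hx : Gd π τ x) : ∃ e, ∃ w ∈ WW, x = π (q k0 e w) := by
  obtain ⟨-, _, ⟨⟨e, w, rfl⟩, hc⟩, rfl⟩ := hx
  exact ⟨e, w, q_mem_DK.1 hc, rfl⟩

end E

theorem tI_vb {i j : ℕ} (hi : i < 24) (hj : j < 24) :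
    tI k0 (Golay.pt i) (Golay.pt j) = q k0 0 (vb (lamN i ^^^ lamN j)) :=
  (std_k0.tI_eq _ _).trans (congrArg _ (φ_dl hi hj))

theorem t_ne_a : πM tK ≠ πM tK1 := fun e => Cov.tK_facts.2.2 (IsoP.mb.inj e)

theorem exists_x2 : ∃ x, Gd πM τM x ∧ x * x = 1 ∧ IsConj (πM tK) x ∧
    ∀ y, InE πM y → IsConj (πM tK) (x * y) → y = 1 := by
  have s : IsConj (πM tK) (πM (tI k0 (Golay.pt 3) (Golay.pt 5))) := by
    rw [std_k0.tI_eq]; exact MAm.isConj_short _ _ (sqNorm_dlL (by decide))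
  refine ⟨_, gd_tI IsoP.mb.am (Golay.pt 3) (Golay.pt 5), MS.mul_self_of_isConj s, s, fun y hy k => ?_⟩
  rw [tI_vb (by norm_num) (by norm_num)] at k
  refine notA IsoP.mb.toMS ?_ hy k
  simp only [List.forall_mem_cons]
  exact ⟨nsh 3 5 0 23 (by decide +kernel), nsh 3 5 1 23 (by decide +kernel), nsh 3 5 0 1 (by decide +kernel), by simp⟩

theorem exists_x3 : ∃ x, Gd πM τM x ∧ x * x = 1 ∧ ∀ y, InE πM y → ¬ IsConj (πM tK) (x * y) := by
  have e : ∃ e, πM (tI k0 (Golay.pt 23) (Golay.pt 3)) * πM (tI k0 (Golay.pt 5) (Golay.pt 4)) =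
      πM (q k0 e (vb 0x44d000)) := ⟨_, by
    rw [← map_mul, tI_vb (by norm_num) (by norm_num), tI_vb (by norm_num) (by norm_num), q_mul, ← vb_xor]; rfl⟩
  obtain ⟨e, he⟩ := e
  have g := (gd_tI IsoP.mb.am (Golay.pt 23) (Golay.pt 3)).mul (gd_tI IsoP.mb.am (Golay.pt 5) (Golay.pt 4))
  rw [he] at g
  refine ⟨_, g, ?_, fun y hy k => ?_⟩
  · rw [← map_mul, q_mul_self_eq_one.2, map_one]
    obtain ⟨v, h1, h2⟩ : Four (vb 0x44d000) := ⟨dlL (Golay.pt 23) (Golay.pt 3) + dlL (Golay.pt 5) (Golay.pt 4),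
      by decide +kernel, by
        rw [map_add, φ_dl (by norm_num) (by norm_num), φ_dl (by norm_num) (by norm_num), ← vb_xor]; rfl⟩
    rw [← h2, k0.quad, qL_eq_zero, h1]; rfl
  · have := notA IsoP.mb.toMS (by
      simp only [List.forall_mem_cons]
      exact ⟨nsh 0 3 5 4 (by decide +kernel), nsh 1 3 5 4 (by decide +kernel), nsh 2 4 14 17 (by decide +kernel),
        by simp⟩) hy k
    rw [this, mul_one] at k
    exact nsh 23 3 5 4 (by decide +kernel) (IsoP.mb.short_q k)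

end SIso

open SIso

theorem exists_sigma {K : Type*} [Field K] [Fintype K] (hK : Fintype.card K = 4) :
    ∃ σ : LM πM →* Lie.twistedE6 K 2, Function.Surjective σ ∧ ∀ l, σ l = 1 ↔ InE πM l.1 := by
  obtain ⟨y, h, k1, k2, k3, kg⟩ := IsoP.nodes
  obtain ⟨σ, s1, s2, -⟩ := Y333.lowD_four (Y333.y333Iso hK) h
    (fun e => Cov.tK_facts.2.1 (IsoP.mb.inj ((congrArg Subtype.val (k1.symm.trans e)).trans (map_one πM).symm)))
    (fun e => Cov.tK_facts.1 (IsoP.mb.inj ((k2.symm.trans (congrArg Subtype.val e)).trans (map_one πM).symm)))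
    (fun e => t_ne_a (k2.symm.trans (congrArg Subtype.val (e.symm.trans k1)))) k3 kg
  refine ⟨σ, s1.1, fun l => ?_⟩
  rw [← MonoidHom.mem_ker, s2]
  have m1 : Y.f1 y ∈ closure {Y.f1 y, Y.f2 y} := subset_closure (by simp)
  have m2 : Y.f2 y ∈ closure {Y.f1 y, Y.f2 y} := subset_closure (by simp)
  refine ⟨fun hl => ?_, fun hl => ?_⟩
  · induction hl using closure_induction with
    | mem x hx =>
      rcases hx with rfl | rfl
      exacts [Or.inr (Or.inr (Or.inl (congrArg Subtype.val k1))), Or.inr (Or.inl k2)]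
    | one => exact Or.inl rfl
    | mul x y _ _ a b => exact E_mul a b
    | inv x _ a => rwa [coe_inv, inv_eq_of_mul_eq_one_right (E_sq a)]
  · rcases hl with e | e | e | e
    · exact (Subtype.ext e : l = 1) ▸ one_mem _
    · exact (Subtype.ext (e.trans k2.symm) : l = _) ▸ m2
    · exact ((Subtype.ext e : l = aL πM).trans k1.symm) ▸ m1
    · exact (Subtype.ext (by rw [e, coe_mul, k1, k2]; rfl) : l = Y.f2 y * Y.f1 y) ▸ mul_mem m2 m1

theorem cls3 (l : LM πM) (hl : l.1 * l.1 = 1) : InE πM l.1 ∨ ∃ (k : LM πM) (e : ZMod 2), ∃ w ∈ WW,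
    k.1 * l.1 * k.1⁻¹ = πM (q k0 e w) ∧ (InE πM (πM (q k0 e w) * πM (z k0)) ∨ Commute τM (πM (q k0 e w))) := by
  obtain ⟨K, _, _, hK⟩ := Comput.exists_field_card 2 2 two_ne_zero
  obtain ⟨_, -⟩ := Y333.exists_units hK
  obtain ⟨σ, s1, s2⟩ := exists_sigma hK
  obtain ⟨x2, g2, a2, b2, c2⟩ := exists_x2
  obtain ⟨x3, g3, a3, c3⟩ := exists_x3
  have mb := IsoP.mb
  have Et : InE πM (πM tK) := Or.inr (Or.inl rfl)
  have Ea : InE πM (πM tK1) := Or.inr (Or.inr (Or.inl rfl))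
  have rel : ∀ {x y : LM πM}, IsConj (σ x) (σ y) → ∃ k : LM πM, ∃ e, InE πM e ∧ k.1 * x.1 * k.1⁻¹ = y.1 * e :=
    fun {x y} c => by
      obtain ⟨g, hg⟩ := isConj_iff.1 c
      obtain ⟨k, rfl⟩ := s1 g
      exact ⟨k, _, (s2 (y⁻¹ * (k * x * k⁻¹))).1 (by simp [hg]), (mul_inv_cancel_left _ _).symm⟩
  have tr : ∀ {x y : LM πM}, IsConj (σ x) (σ y) → ∃ e, InE πM e ∧ ∀ f, InE πM f → IsConj (πM tK) (x.1 * f) →
      IsConj (πM tK) (y.1 * (e * f)) := fun {x y} c => by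
    obtain ⟨k, e, he, hk⟩ := rel c
    refine ⟨e, he, fun f hf a => a.trans (isConj_iff.2 ⟨k.1, ?_⟩)⟩
    rw [← conj_mul, hk, (E_comm hf k).eq, mul_inv_cancel_right, mul_assoc]
  let X2 : LM πM := ⟨x2, g2.mem⟩
  let X3 : LM πM := ⟨x3, g3.mem⟩
  have n2 : ∀ x : LM πM, IsConj (πM tK) (x.1 * πM tK) → IsConj (πM tK) (x.1 * πM tK1) → ¬ IsConj (σ x) (σ X2) :=
    fun x a b c => by
      obtain ⟨e, he, k⟩ := tr c
      exact t_ne_a (mul_left_cancel ((c2 _ (E_mul he Et) (k _ Et a)).trans (c2 _ (E_mul he Ea) (k _ Ea b)).symm))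
  have n3 : ∀ (x : LM πM) f, InE πM f → IsConj (πM tK) (x.1 * f) → ¬ IsConj (σ x) (σ X3) := fun x f hf a c => by
    obtain ⟨e, he, k⟩ := tr c
    exact c3 _ (E_mul he hf) (k f hf a)
  have zt : IsConj (πM tK) ((zL πM).1 * πM tK) := by
    rw [coe_zL, ← map_mul, ← z_comm, map_mul]; exact MS.isConj_t_mul πM
  have za : IsConj (πM tK) ((zL πM).1 * πM tK1) := by
    rw [coe_zL, ← map_mul, ← z_comm, a_eq, q_mul_z]; exact short_s1.isConj πM _
  have od : ∀ x : LM πM, x.1 * x.1 = 1 → σ x ≠ 1 → ConjClasses.mk (σ x) ∈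
      ConjClasses.mk '' {g : Lie.twistedE6 K 2 | orderOf g = 2} := fun x a b =>
    ⟨_, orderOf_eq_prime (by rw [pow_two, ← map_mul, (Subtype.ext a : x * x = 1), map_one]) b, rfl⟩
  have o1 : ∀ {x}, σ x = 1 → IsConj (σ 1) (σ x) := fun e => by rw [e, map_one]
  have zz : πM (z k0) * πM (z k0) = 1 := by rw [← map_mul, z_mul_self, map_one]
  have key : ({ConjClasses.mk (σ (zL πM)), ConjClasses.mk (σ X2), ConjClasses.mk (σ X3)} : Set _) =
      ConjClasses.mk '' {g : Lie.twistedE6 K 2 | orderOf g = 2} := by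
    have c := Cfsg.Agent.S2182.result (K := K) 2 hK
    refine Set.eq_of_subset_of_ncard_le ?_ (c.le.trans (Set.ncard_eq_three.2 ⟨_, _, _, ?_, ?_, ?_, rfl⟩).ge)
      (Set.finite_of_ncard_ne_zero (by omega))
    · rintro _ (rfl | rfl | rfl)
      · refine od _ zz fun e => ?_
        rcases (s2 _).1 e with e | e | e | e
        · exact z_ne_one (mb.inj (e.trans (map_one _).symm))
        · exact mb.not_isConj (e ▸ IsConj.refl _)
        · exact mb.not_isConj (by rw [← coe_zL, e]; exact (MS.isConj_tK1 πM).symm)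
        · exact mb.not_isConj (by rw [← coe_zL, e]; exact (isConj_ta πM).symm)
      · exact od _ a2 fun e => n2 1 (by rw [coe_one, one_mul]) (by rw [coe_one, one_mul]; exact MS.isConj_tK1 πM)
          (o1 e)
      · exact od _ a3 fun e => n3 1 _ Et (by rw [coe_one, one_mul]) (o1 e)
    · exact fun e => n2 _ zt za (ConjClasses.mk_eq_mk_iff_isConj.1 e)
    · exact fun e => n3 _ _ Et zt (ConjClasses.mk_eq_mk_iff_isConj.1 e)
    · exact fun e => n3 X2 1 (Or.inl rfl) (by rwa [mul_one]) (ConjClasses.mk_eq_mk_iff_isConj.1 e)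
  refine or_iff_not_imp_left.2 fun n => ?_
  have gd : ∀ x : LM πM, Gd πM τM x.1 → IsConj (σ l) (σ x) → ∃ (k : LM πM) (e : ZMod 2), ∃ w ∈ WW,
      k.1 * l.1 * k.1⁻¹ = πM (q k0 e w) ∧ (InE πM (πM (q k0 e w) * πM (z k0)) ∨ Commute τM (πM (q k0 e w))) :=
    fun x g c => by
      obtain ⟨k, e, he, hk⟩ := rel c
      have := g.mul (gd_E mb.am he)
      obtain ⟨f, w, hw, k1⟩ := this.eq
      exact ⟨k, f, w, hw, hk.trans k1, Or.inr (k1 ▸ this.1)⟩
  rcases key.ge (od l hl fun e => n ((s2 l).1 e)) with e | e | e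
  · obtain ⟨k, e, he, hk⟩ := rel (ConjClasses.mk_eq_mk_iff_isConj.1 e)
    obtain ⟨f, w, hw, k1⟩ := (gd_E mb.am he).eq
    have k2 : (zL πM).1 * e = πM (q k0 (f + 1) w) := by rw [k1, coe_zL, ← map_mul, ← z_comm, q_mul_z]
    refine ⟨k, _, w, hw, hk.trans k2, Or.inl ?_⟩
    rwa [← map_mul, q_mul_z, add_assoc, z2_add_self, add_zero, ← k1]
  · exact gd X2 g2 (ConjClasses.mk_eq_mk_iff_isConj.1 e)
  · exact gd X3 g3 (ConjClasses.mk_eq_mk_iff_isConj.1 e)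

namespace SIso

open scoped commutatorElement

variable {L G T : Type*} [Group L] [Group G] [Group T] {A : Subgroup G}

/-- the fibre product -/
def Pb (σ : L →* T) (ρ : A →* T) : Subgroup (L × G) where
  carrier := {p | ∃ h : p.2 ∈ A, σ p.1 = ρ ⟨p.2, h⟩}
  one_mem' := ⟨one_mem _, (map_one σ).trans (map_one ρ).symm⟩
  mul_mem' := fun ⟨a, b⟩ ⟨c, d⟩ => ⟨mul_mem a c, by
    rw [Prod.fst_mul, map_mul, b, d, ← map_mul]; rfl⟩
  inv_mem' := fun ⟨a, b⟩ => ⟨inv_mem a, by rw [Prod.fst_inv, map_inv, b, ← map_inv]; rfl⟩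

/-- its derived group -/
def Rb (σ : L →* T) (ρ : A →* T) : Subgroup (L × G) := ⁅Pb σ ρ, Pb σ ρ⁆

variable {σ σ' : L →* T} {ρ : A →* T}

theorem Rb_le : Rb σ ρ ≤ Pb σ ρ := commutator_le.2 fun _ a _ b =>
  mul_mem (mul_mem (mul_mem a b) (inv_mem a)) (inv_mem b)

theorem transport (γ : L →* L) (δ : G →* G) (h : ∀ l x, (l, x) ∈ Pb σ ρ → (γ l, δ x) ∈ Pb σ' ρ) {l : L} {x : G}
    (m : (l, x) ∈ Rb σ ρ) : (γ l, δ x) ∈ Rb σ' ρ := by
  have k : (Pb σ ρ).map (γ.prodMap δ) ≤ Pb σ' ρ := by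
    rintro _ ⟨p, hp, rfl⟩; exact h _ _ hp
  have := mem_map_of_mem (γ.prodMap δ) m
  rw [Rb, map_commutator] at this
  exact commutator_mono k k this

theorem ex1 [Group.IsPerfect L] (hρ : Function.Surjective ρ) (l : L) : ∃ x, (l, x) ∈ Rb σ ρ := by
  have k : (Pb σ ρ).map (MonoidHom.fst L G) = ⊤ := eq_top_iff.2 fun l _ =>
    let ⟨x, e⟩ := hρ (σ l); ⟨(l, x.1), ⟨x.2, e.symm⟩, rfl⟩
  have : l ∈ (Rb σ ρ).map (MonoidHom.fst L G) := by
    rw [Rb, map_commutator, k]; exact Group.IsPerfect.mem_commutator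
  obtain ⟨p, hp, rfl⟩ := this
  exact ⟨p.2, hp⟩

theorem ex2 (hp : _root_.commutator A = ⊤) (hσ : Function.Surjective σ) {x : G} (hx : x ∈ A) :
    ∃ l, (l, x) ∈ Rb σ ρ := by
  have k : (Pb σ ρ).map (MonoidHom.snd L G) = A := le_antisymm (by rintro _ ⟨p, hp, rfl⟩; exact hp.1) fun x hx =>
    let ⟨l, e⟩ := hσ (ρ ⟨x, hx⟩); ⟨(l, x), ⟨hx, e⟩, rfl⟩
  have : x ∈ (Rb σ ρ).map (MonoidHom.snd L G) := by
    rw [Rb, map_commutator, k, ← map_subtype_commutator, hp]; exact ⟨⟨x, hx⟩, trivial, rfl⟩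
  obtain ⟨p, hp, rfl⟩ := this
  exact ⟨p.1, hp⟩

theorem cen_iff (hk : ρ.ker = center A) {l : L} {x : G} (m : (l, x) ∈ Pb σ ρ) :
    x ∈ centralizer (A : Set G) ↔ σ l = 1 := by
  obtain ⟨h, e⟩ := m
  rw [show σ l = _ from e, ← MonoidHom.mem_ker, hk, Subgroup.mem_center_iff, mem_centralizer_iff]
  exact ⟨fun k g => Subtype.ext (k g g.2), fun k g hg => congrArg Subtype.val (k ⟨g, hg⟩)⟩

theorem stem [Group.IsPerfect L] (hσ : Function.Surjective σ) (hc : σ.ker ≤ center L) (hρ : Function.Surjective ρ)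
    (hk : ρ.ker = center A) : IsStemExtension ((σ.comp (MonoidHom.fst L G)).comp (Rb σ ρ).subtype) := by
  have c : ∀ p ∈ Pb σ ρ, σ p.1 = 1 → ∀ p' ∈ Pb σ ρ, Commute p' p := fun p hp e p' hp' =>
    Prod.ext (mem_center_iff.1 (hc e) _) ((cen_iff hk hp).2 e _ hp'.1)
  refine ⟨fun t => ?_, fun p hp => mem_center_iff.2 fun g => Subtype.ext (c _ (Rb_le p.2) hp _ (Rb_le g.2)),
    fun p _ => ?_⟩
  · obtain ⟨l, rfl⟩ := hσ t
    obtain ⟨x, m⟩ := ex1 (σ := σ) hρ l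
    exact ⟨⟨_, m⟩, rfl⟩
  · have k : ∀ p ∈ Pb σ ρ, ∃ r ∈ Rb σ ρ, ∃ u, p = r * u ∧ ∀ p' ∈ Pb σ ρ, Commute p' u := fun p hp => by
      obtain ⟨x, m⟩ := ex1 (σ := σ) hρ p.1
      exact ⟨_, m, _, (mul_inv_cancel_left _ _).symm, c _ (mul_mem (inv_mem (Rb_le m)) hp) (by simp)⟩
    have : Rb σ ρ ≤ ⁅Rb σ ρ, Rb σ ρ⁆ := commutator_le.2 fun p hp p' hp' => by
      obtain ⟨r, hr, u, rfl, hu⟩ := k p hp
      obtain ⟨r', hr', u', rfl, hu'⟩ := k p' hp'
      have e1 := (hu _ hp').eq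
      have e2 := (hu' _ (inv_mem (Rb_le hr))).eq
      have : ⁅r * u, r' * u'⁆ = ⁅r, r'⁆ := by
        rw [commutatorElement_def, commutatorElement_def, mul_assoc r u, ← e1]
        calc _ = r * r' * (u' * r⁻¹) * u'⁻¹ * r'⁻¹ := by group
          _ = _ := by rw [← e2]; group
      exact this ▸ commutator_mem_commutator hr hr'
    have := this p.2
    rw [← map_subtype_commutator] at this
    obtain ⟨y, hy, e⟩ := this
    exact (Subtype.ext e : y = p) ▸ hy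

theorem odd3 [Group.IsPerfect L] (hρ : Function.Surjective ρ) (h4 : Nat.card σ.ker = 4)
    (h : Nat.card ((σ.comp (MonoidHom.fst L G)).comp (Rb σ ρ).subtype).ker ∣ 12) {x : G}
    (m : (1, x) ∈ Rb σ ρ) : x ^ 3 = 1 := by
  set Z := ((σ.comp (MonoidHom.fst L G)).comp (Rb σ ρ).subtype).ker
  let f : Z →* L := (MonoidHom.fst L G).comp ((Rb σ ρ).subtype.comp Z.subtype)
  have e : f.range = σ.ker := le_antisymm (by rintro _ ⟨p, rfl⟩; exact p.2) fun l hl =>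
    let ⟨x, m⟩ := ex1 (σ := σ) hρ l; ⟨⟨⟨_, m⟩, hl⟩, rfl⟩
  have k := f.ker.card_mul_index
  rw [index_ker, e, h4] at k
  rw [← k] at h
  obtain ⟨n, hn⟩ : Nat.card f.ker ∣ 3 := Nat.dvd_of_mul_dvd_mul_right (by norm_num : 0 < 4) h
  have := pow_card_eq_one' (x := (⟨⟨⟨_, m⟩, map_one σ⟩, rfl⟩ : f.ker))
  have := congrArg (fun p : f.ker => p.1.1.1.2) this
  rw [hn, pow_mul, show x ^ _ = 1 from this, one_pow]

variable {K : Type*} [Field K] [Fintype K] {σ : LM πM →* Lie.twistedE6 K 2} {ρ : A →* Lie.twistedE6 K 2}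

theorem ker_le (s2 : ∀ l, σ l = 1 ↔ InE πM l.1) : σ.ker ≤ center _ := fun l hl =>
  mem_center_iff.2 fun g => Subtype.ext (E_comm ((s2 l).1 hl) g)

theorem odd (hK : Fintype.card K = 4) (s1 : Function.Surjective σ) (s2 : ∀ l, σ l = 1 ↔ InE πM l.1)
    (hρ : Function.Surjective ρ) (hk : ρ.ker = center A) {x : G} (m : (1, x) ∈ Rb σ ρ) : x ^ 3 = 1 := by
  have := IsoP.perfect
  obtain ⟨n, U⟩ := Y333.exists_un hK
  obtain ⟨f, hf⟩ := U.upper (stem s1 (ker_le s2) hρ hk)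
  refine odd3 hρ ?_ (by simpa using card_dvd_of_surjective f hf) m
  have c1 := σ.ker.card_mul_index
  rw [index_ker, MonoidHom.range_eq_top.2 s1, card_top, Y333.cardT hK, IsoP.mb.cardL] at c1
  change _ * 76532479683774853939200 = _ at c1
  omega

theorem exists_i [Finite G] (hK : Fintype.card K = 4) (s1 : Function.Surjective σ)
    (s2 : ∀ l, σ l = 1 ↔ InE πM l.1) (hρ : Function.Surjective ρ) (hk : ρ.ker = center A)
    (hp : _root_.commutator A = ⊤) (hZ : Even (Nat.card (center A))) :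
    ∃ i, ∀ l, (l, 1) ∈ Rb σ ρ → l.1 = 1 ∨ l.1 = πM (MonS.w3 i) := by
  have n : ¬ ∀ l : LM πM, InE πM l.1 → (l, (1 : G)) ∈ Rb σ ρ := fun h => by
    obtain ⟨x, hx⟩ := exists_prime_orderOf_dvd_card' 2 hZ.two_dvd
    obtain ⟨l, m⟩ := ex2 (ρ := ρ) hp s1 x.1.2
    have e : σ l = 1 := (Rb_le m).2.trans (hk.ge x.2)
    have h3 := odd hK s1 s2 hρ hk (x := x.1.1) (by simpa using mul_mem (inv_mem (h l ((s2 l).1 e))) m)
    have := orderOf_dvd_of_pow_eq_one (x := x) (Subtype.ext (Subtype.ext h3))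
    rw [hx] at this
    omega
  let w : Fin 3 → LM πM := fun i => ⟨_, IsoP.w3_mem i⟩
  have k : ∀ l, (l, 1) ∈ Rb σ ρ → l = 1 ∨ ∃ i, l = w i := fun l m =>
    (E_iff.1 ((s2 l).1 ((cen_iff hk (Rb_le m)).1 (one_mem _)))).imp Subtype.ext (.imp fun _ => Subtype.ext)
  have mu : ∀ {l l' : LM πM}, (l, (1 : G)) ∈ Rb σ ρ → (l', (1 : G)) ∈ Rb σ ρ → (l * l', (1 : G)) ∈ Rb σ ρ :=
    fun a b => by simpa using mul_mem a b
  have all : (w 1, (1 : G)) ∈ Rb σ ρ → (w 2, (1 : G)) ∈ Rb σ ρ → False := fun a b => n fun l hl => by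
    rcases hl with e | e | e | e
    · exact (Subtype.ext e : l = 1) ▸ one_mem _
    · exact (Subtype.ext e : l = w 2) ▸ b
    · exact (Subtype.ext e : l = w 1) ▸ a
    · exact (Subtype.ext e : l = w 2 * w 1) ▸ mu b a
  have e1 : w 2 * w 0 = w 1 := Subtype.ext ((congrArg _ (map_mul πM tK tK1)).trans (tt πM _))
  have e2 : w 0 * w 1 = w 2 := Subtype.ext (by
    change πM (tK * tK1) * πM tK1 = πM tK
    rw [← map_mul, mul_assoc, a_mul_self, mul_one])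
  by_cases h : ∃ i, (w i, (1 : G)) ∈ Rb σ ρ
  · obtain ⟨i, hi⟩ := h
    refine ⟨i, fun l m => (k l m).imp (congrArg Subtype.val) ?_⟩
    rintro ⟨j, rfl⟩
    fin_cases i <;> fin_cases j
    exacts [rfl, (all m (e2 ▸ mu hi m)).elim, (all (e1 ▸ mu m hi) m).elim, (all hi (e2 ▸ mu m hi)).elim, rfl,
      (all hi m).elim, (all (e1 ▸ mu hi m) hi).elim, (all m hi).elim, rfl]
  · exact ⟨0, fun l m => Or.inl (congrArg Subtype.val ((k l m).resolve_right fun ⟨i, e⟩ => h ⟨i, e ▸ m⟩))⟩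

theorem exists_twist (i : Fin 3) : ∃ γ : MulAut (LM πM), (∀ l, InE πM (γ l).1 ↔ InE πM l.1) ∧
    ∀ l, (γ l).1 = πM (MonS.w3 i) → l.1 = πM tK := by
  obtain ⟨c, hc⟩ := MonS.conj_w3 (Equiv.swap 2 i)
  have hc' : ∀ j, πM c * πM (MonS.w3 j) * (πM c)⁻¹ = πM (MonS.w3 (Equiv.swap 2 i j)) := fun j => by
    rw [← map_inv, ← map_mul, ← map_mul, hc]
  have hn : πM c ∈ normalizer (LM πM : Set MU) := mem_normalizer_iff.2 fun x => by
    rw [IsoP.mem_LM, IsoP.mem_LM]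
    conv_rhs => rw [← (Equiv.swap 2 i).forall_congr_right]
    simp only [← hc', conj_mul, mul_left_inj, mul_right_inj]
  have hγ : ∀ l, ((LM πM).normalizerMonoidHom ⟨_, hn⟩ l).1 = πM c * l.1 * (πM c)⁻¹ := fun _ => rfl
  refine ⟨(LM πM).normalizerMonoidHom ⟨_, hn⟩, fun l => ?_, fun l e => ?_⟩
  · rw [E_iff, E_iff, hγ, ← (Equiv.swap 2 i).exists_congr_right]
    simp only [← hc', conj_eq_one_iff, mul_left_inj, mul_right_inj]
  · have := hc' 2
    rw [Equiv.swap_apply_left, ← e, hγ, mul_left_inj, mul_right_inj] at this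
    exact this.symm

end SIso

theorem exists_cov {G : Type*} [Group G] [Finite G] {A : Subgroup G} (hp : _root_.commutator A = ⊤)
    (hZ : Even (Nat.card (center A))) {K : Type*} [Field K] [Fintype K] (hK : Fintype.card K = 4)
    (e : A ⧸ center A ≃* Lie.twistedE6 K 2) : ∃ R : Subgroup (LM πM × G), Cov τM A R := by
  have := IsoP.perfect
  have : Group.IsPerfect A := ⟨hp⟩
  let ρ : A →* Lie.twistedE6 K 2 := e.toMonoidHom.comp (QuotientGroup.mk' _)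
  have hρ : Function.Surjective ρ := e.surjective.comp (QuotientGroup.mk'_surjective _)
  have hk : ρ.ker = center A := by ext x; simp [ρ]
  obtain ⟨σ, s1, s2, s3⟩ : ∃ σ : LM πM →* Lie.twistedE6 K 2, Function.Surjective σ ∧ (∀ l, σ l = 1 ↔ InE πM l.1) ∧
      ∀ l, (l, 1) ∈ Rb σ ρ → l.1 = 1 ∨ l.1 = πM tK := by
    obtain ⟨σ, s1, s2⟩ := exists_sigma hK
    obtain ⟨i, hi⟩ := exists_i hK s1 s2 hρ hk hp hZ
    obtain ⟨γ, g1, g2⟩ := exists_twist i
    refine ⟨σ.comp γ.toMonoidHom, s1.comp γ.surjective, fun l => (s2 _).trans (g1 l), fun l m => ?_⟩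
    refine (hi _ (transport (σ' := σ) γ.toMonoidHom (MonoidHom.id G) (fun _ _ h => h) m)).imp (fun k => ?_) (g2 l)
    exact congrArg Subtype.val (γ.map_eq_one_iff.1 (Subtype.ext k))
  refine ⟨Rb σ ρ, IsoP.mb, fun m => (Rb_le m).1, ex1 hρ, fun _ => ex2 hp s1, odd hK s1 s2 hρ hk,
    fun m => (cen_iff hk (Rb_le m)).trans (s2 _), s3 _, fun g hg h => ?_, fun h hh => ?_, cls3⟩
  · have := Schur.lift_unique_of_perfect hk.le (A.normalizerMonoidHom ⟨g, hg⟩).toMonoidHom (MonoidHom.id A)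
      (MonoidHom.ext fun x => by
        change ρ (A.normalizerMonoidHom ⟨g, hg⟩ x) = ρ x
        rw [← mul_inv_eq_one, ← map_inv, ← map_mul, ← MonoidHom.mem_ker, hk]
        exact mem_center_iff.2 fun y => Subtype.ext (h x x.2 y y.2))
    exact fun x hx => (mul_inv_eq_iff_eq_mul.1 (congrArg Subtype.val (DFunLike.congr_fun this ⟨x, hx⟩))).symm
  · let α := A.normalizerMonoidHom ⟨h, hh⟩
    obtain ⟨β, hβ⟩ := IsoP.exists_aut hρ α fun x => by
      rw [← MonoidHom.mem_ker, ← MonoidHom.mem_ker, hk, Subgroup.mem_center_iff, Subgroup.mem_center_iff]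
      conv_lhs => rw [← α.toEquiv.forall_congr_right]
      simp only [MulEquiv.toEquiv_eq_coe, EquivLike.coe_coe, ← map_mul, α.apply_eq_iff_eq]
    obtain ⟨n, γ, g1, g2⟩ := IsoP.exists_n (IsoP.card_out hK) s1 (fun l => (s2 l).trans E_iff) β
    refine ⟨n, fun x hx => ?_, fun l l' x k m => ?_⟩
    · have := (s2 _).1 ((g2 ⟨x, (gd_E IsoP.mb.am hx).mem⟩).trans (by rw [(s2 _).2 hx, map_one]))
      rwa [g1] at this
    · rw [show l' = γ l from Subtype.ext (k.trans (g1 l).symm)]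
      exact transport γ.toMonoidHom (MulAut.conj h).toMonoidHom (fun l x ⟨a, b⟩ =>
        ⟨(α ⟨x, a⟩).2, (g2 l).trans ((congrArg β b).trans (hβ _))⟩) m

end CfsgLib.StdB
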