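import Mathlib
import Cfsg.Agent.Lib.StdB.Defs

/-! STDB, package NA (plans/STDB.md §NA). -/

set_option autoImplicit false

namespace CfsgLib.StdB

open Cfsg CfsgLib.Leech CfsgLib.Mon CfsgLib.MType CfsgLib.DCX CfsgLib.StdM Subgroup

variable {M : Type*} [Group M] {π : C k0 →* M} {τ : M}

namespace NaP

section lattice
open Finset

theorem exists_oct_disj {o o' : Finset GolayPt} (h : IsCW o) (h8 : o.card = 8) (h' : IsCW o') (h8' : o'.card = 8)
    (h4 : 4 ≤ (o ∩ o').card) :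
    ∃ e p r, IsCW e ∧ e.card = 8 ∧ p ∈ e ∧ r ∉ e ∧ (∀ i ∈ e, i ∉ o ∪ o') ∧ r ∉ o ∪ o' := by
  obtain ⟨T, hT, t4⟩ := exists_subset_card_eq h4
  have c := card_union_add_card_inter o o'
  have ex : ∀ F : Finset GolayPt, F.card < 24 → ∃ j, j ∉ F := fun F hF =>
    let ⟨j, _, k⟩ := exists_mem_notMem_of_card_lt_card (s := F) (t := univ) hF; ⟨j, k⟩
  have oc : ∀ j, ∃ O, IsCW O ∧ O.card = 8 ∧ j ∈ O ∧ T ⊆ O ∧
      ∀ O', IsCW O' → O'.card = 8 → T ⊆ O' → j ∉ O' → ∀ i ∈ O, i ∈ O' → i ∈ T := fun j => by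
    obtain ⟨O, hO, s⟩ := Golay.exists_octad_of_card_le (s := insert j T) (by have := card_insert_le j T; omega)
    have s' := (subset_insert _ _).trans s
    refine ⟨O, hO.1, hO.2, s (mem_insert_self _ _), s', fun O' a b c d i hi hi' => by_contra fun n => d ?_⟩
    have := card_le_card (insert_subset (mem_inter.2 ⟨hi, hi'⟩) (subset_inter s' c))
    rw [card_insert_of_notMem n, t4] at this
    exact Golay.octad_eq_of_five_le hO ⟨a, b⟩ this ▸ s (mem_insert_self _ _)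
  obtain ⟨j, hj⟩ := ex (o ∪ o') (by omega)
  obtain ⟨A, a1, a2, a3, a4, a5⟩ := oc j
  obtain ⟨j', hj'⟩ := ex (o ∪ o' ∪ A) (by have := card_union_le (o ∪ o') A; omega)
  obtain ⟨B, b1, b2, b3, b4, b5⟩ := oc j'
  simp only [mem_union, not_or] at hj hj'
  have e8 : (symmDiff A B).card = 8 := by
    have := Golay.card_symmDiff_add A B
    rw [show A ∩ B = T from (subset_inter a4 b4).antisymm' fun i hi =>
      b5 A a1 a2 a4 hj'.2 i (mem_inter.1 hi).2 (mem_inter.1 hi).1] at this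
    omega
  obtain ⟨r, hr⟩ := ex (symmDiff A B ∪ (o ∪ o')) (by have := card_union_le (symmDiff A B) (o ∪ o'); omega)
  rw [mem_union, not_or] at hr
  have t1 := hT.trans inter_subset_left
  have t2 := hT.trans inter_subset_right
  refine ⟨_, j', r, a1.symmDiff b1, e8, mem_symmDiff.2 (Or.inr ⟨b3, hj'.2⟩), hr.1, fun i hi k => ?_, hr.2⟩
  rcases mem_symmDiff.1 hi with ⟨x, y⟩ | ⟨x, y⟩ <;> rcases mem_union.1 k with k | k
  exacts [y (b4 (a5 o h h8 t1 hj.1 i x k)), y (b4 (a5 o' h' h8' t2 hj.2 i x k)),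
    y (a4 (b5 o h h8 t1 hj'.1.1 i x k)), y (a4 (b5 o' h' h8' t2 hj'.1.2 i x k))]

theorem fix_of_perp {d : Finset GolayPt} (hd : IsCW d) {i0 : GolayPt} {w : V24} (h1 : om w (w0 k0) = 0)
    (h2 : om w (k0.φ (tw d)) = 0) (h3 : ∀ i ∈ d, om w (k0.φ (dlL i i0)) = 0) : k0.act (sgnAut d hd) w = w := by
  obtain ⟨a, rfl⟩ := k0.surj w
  have e0 := om_w0_eq_zero.1 h1 i0
  rw [k0.om_φ, ipL_eq_zero, dot_tw hd] at h2
  replace h3 : ∀ i ∈ d, (a.1 i - a.1 i0) % 4 = 0 := fun i hi => by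
    have := h3 i hi
    rw [k0.om_φ, ipL_eq_zero, show (dlL i i0).1 = Pi.single i 4 - Pi.single i0 4 from rfl, dotInt_sub_right,
      dotInt_single_right, dotInt_single_right] at this
    omega
  have hs : (∑ i, if i ∈ d then -a.1 i else 0) % 8 = 0 := by
    rw [← sum_filter, filter_mem_eq_inter, univ_inter, sum_neg_distrib]; omega
  rw [k0.act_φ, k0.φ_eq_iff]
  refine ⟨⟨fun i => if i ∈ d then -a.1 i else 0, ?_⟩, Subtype.ext (funext fun i => ?_)⟩
  · by_cases e : a.1 i0 % 4 = 0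
    · exact mem_of_four_dvd (fun i => by have := h3 i; split_ifs with k; exacts [by have := this k; omega, rfl]) hs
    · exact mem_of_even hd (fun i => by have := h3 i; split_ifs with k; exacts [by have := this k; omega, rfl]) hs
  · simp only [AddSubgroup.coe_sub, AddSubgroup.coe_zsmul, Pi.sub_apply, Pi.smul_apply, sgnAut_smul_apply, smul_eq_mul]
    split_ifs <;> omega

theorem four_le {o o' δ δ' : Finset GolayPt} (h : IsCW o) (h' : IsCW o') (k : δ ∈ evs o) (k' : δ' ∈ evs o')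
    (e : dotInt (ov o δ).1 (ov o' δ').1 = 16 ∨ dotInt (ov o δ).1 (ov o' δ').1 = -16) : 4 ≤ (o ∩ o').card := by
  have : |dotInt (ov o δ).1 (ov o' δ').1| ≤ ∑ i, if i ∈ o ∩ o' then 4 else 0 :=
    (abs_sum_le_sum_abs _ _).trans (sum_le_sum fun i _ => by
      have := @(mem_evs.1 k).1 i
      have := @(mem_evs.1 k').1 i
      rw [ov_apply h k, ov_apply h' k']
      split_ifs <;> simp_all)
  rw [sum_ite_inter, univ_inter] at this
  rcases e with e | e <;> rw [e] at this <;> norm_num at this <;> omega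

theorem exists_ov {w : V24} (h : IsShort k0 w) (h1 : om w (w0 k0) = 0) (h2 : ¬ IsShort k0 (w + w0 k0)) :
    ∃ o δ, IsCW o ∧ o.card = 8 ∧ δ ∈ evs o ∧ w = k0.φ (ov o δ) := by
  rcases h.cases with ⟨i, j, hij, rfl | rfl⟩ | k | ⟨i, e, he, rfl⟩
  · exact absurd ⟨_, sqNorm_dpL hij, φ_dpL i j⟩ h2
  · exact absurd ⟨_, sqNorm_dlL hij, by rw [φ_dlL, XP.add_add]⟩ h2
  · exact k
  · have := om_w0_eq_zero.1 h1 i
    rw [sgnAut_smul_apply, lamL_apply, if_pos rfl] at this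
    split_ifs at this <;> omega

theorem exists_four {W : AddSubgroup V24} (h : 4 < Nat.card W) (h0 : ∀ w ∈ W, qf w = 0) : ∃ w ∈ W, Four w := by
  by_contra n
  have s : ∀ w ∈ W, w ≠ 0 → IsShort k0 w := fun w hw e =>
    ((sing_cases (h0 w hw)).resolve_left e).resolve_right fun k => n ⟨w, hw, k⟩
  have ex : ∀ a b c d : V24, ∃ w ∈ W, w ≠ a ∧ w ≠ b ∧ w ≠ c ∧ w ≠ d := fun a b c d => by
    by_contra k
    have : (W : Set V24) ⊆ ({a, b, c, d} : Finset V24) := fun w hw => by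
      by_contra k'
      exact k ⟨w, hw, by simpa using k'⟩
    have := Set.ncard_le_ncard this
    rw [Set.ncard_coe_finset] at this
    exact (this.trans card_le_four).not_gt h
  obtain ⟨u, hu, u0, -⟩ := ex 0 0 0 0
  obtain ⟨v, hv, v0, v1, -⟩ := ex 0 u 0 0
  obtain ⟨w, hw, w0, w1, w2, w3⟩ := ex 0 u v (u + v)
  have ne : ∀ {x y : V24}, y ≠ x → x + y ≠ 0 := fun k e => k (eq_of_add_eq_zero' e).symm
  exact not_short_three (s u hu u0) (s v hv v0) (s w hw w0) (s _ (add_mem hu hv) (ne v1)) (s _ (add_mem hu hw) (ne w1))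
    (s _ (add_mem hv hw) (ne w2)) (s _ (add_mem (add_mem hu hv) hw) (ne w3))

end lattice

/-- the classes `w` such that `c` commutes with the elements over `w` -/
def Cm (c : C k0) : AddSubgroup V24 where
  carrier := {w | cε c w = 0 ∧ cact c w = w}
  zero_mem' := ⟨cε_zero _, map_zero _⟩
  add_mem' := fun {v w} hv hw => ⟨by simpa [hv.1, hv.2, hw.1, hw.2] using cε_add c v w, by rw [map_add, hv.2, hw.2]⟩
  neg_mem' := fun {x} hx => by rwa [neg_V24]

theorem mem_Cm {c : C k0} {w : V24} (e : ZMod 2) : w ∈ Cm c ↔ Commute c (q k0 e w) := comm_q_iff.symm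

theorem index_Q {c : C k0} (hc : c ∈ Q k0) : (Cm c).index ≤ 2 := by
  obtain ⟨e, u, rfl⟩ := hc
  rw [show Cm (q k0 e u) = (omL u).ker from AddSubgroup.ext fun w => by
    rw [mem_Cm 0, AddMonoidHom.mem_ker, omL_apply, om_comm]; exact q_comm_iff, AddSubgroup.index_ker]
  exact (AddSubgroup.card_le_card_addGroup _).trans (Nat.card_zmod 2).le

theorem cls (h : MS π τ) {c : C k0} (h0 : IsConj (π tK) (π c)) (hc : c ∉ Q k0) :
    (∀ w, cact c w = w → w ∈ Cm c) ∧ (Cm c).index ≤ 512 := by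
  obtain ⟨d, hd, h8⟩ := exists_oct
  obtain ⟨k, hk⟩ := (h.comm_z_cases hd h8 0 h0 (h.comm_iff.2 (z_comm c))).resolve_left fun ⟨k, hk⟩ =>
    hc (h.mem_Q_of_eq hk)
  obtain ⟨y, hy⟩ := std_k0.exists_Y 0 hd
  have e0 := h.am.conj (gam_Y hy)
  rw [mk_xq, xv_octad h8] at e0
  rw [e0, ← map_inv, ← map_mul, ← map_mul] at hk
  obtain rfl := h.inj hk
  have key : ∀ w, k0.act y.g (cact k⁻¹ w) = cact k⁻¹ w → w ∈ Cm (k * Mon.mk k0 y * k⁻¹) := fun w hw => by
    have : Commute (k * Mon.mk k0 y * k⁻¹) (k * q k0 0 (cact k⁻¹ w) * k⁻¹) := Commute.map (comm_q_iff.2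
      ⟨(cε_mk _ _).trans (hy.ε_fix std_k0 h8 hw), (cact_mk _ _).trans hw⟩) (MulAut.conj k)
    rwa [conj_q, cact_cact_inv, ← mem_Cm] at this
  refine ⟨fun w hw => key w (cact_injective k ?_), ?_⟩
  · rwa [cact_mul, cact_mul, cact_mk, ← cact_cact_inv k w, cact_inv_cact] at hw
  obtain ⟨i0, hi⟩ := Finset.card_pos.1 (h8 ▸ by norm_num : 0 < d.card)
  let u : Option d → V24 := fun i => i.elim (w0 k0) fun i => if i.1 = i0 then k0.φ (tw d) else k0.φ (dlL i i0)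
  refine (AddSubgroup.index_antitone (H := (AddMonoidHom.pi fun i => omL (cact k (u i))).ker) fun w hw => key w ?_).trans ?_
  · have e : ∀ i, om (cact k⁻¹ w) (u i) = 0 := fun i => by
      rw [← om_cact k, cact_cact_inv]; exact congrFun hw i
    refine hy.g_eq ▸ fix_of_perp hd (i0 := i0) (e none) (by simpa [u] using e (some ⟨i0, hi⟩)) fun i hi => ?_
    by_cases k : i = i0
    · rw [k, φ_dlL, ww_add_self, om_zero_right]
    · simpa [u, k] using e (some ⟨i, hi⟩)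
  · rw [AddSubgroup.index_ker]
    exact (AddSubgroup.card_le_card_addGroup _).trans (by simp [h8])

/-- the conclusion -/
def NA {M : Type*} [Group M] (a b s : M) : Prop := ∃ u v : M, Commute u a ∧ Commute u b ∧ Commute v a ∧
  Commute v b ∧ Commute u s ∧ Commute v s ∧ (u * u = 1 ∨ u * u = s) ∧ (v * v = 1 ∨ v * v = s) ∧ u * v = s * (v * u)

theorem NA.map {M M' : Type*} [Group M] [Group M'] {a b s : M} (h : NA a b s) (f : M →* M') :
    NA (f a) (f b) (f s) := by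
  obtain ⟨u, v, h1, h2, h3, h4, h5, h6, h7, h8, h9⟩ := h
  have : ∀ {u}, u * u = 1 ∨ u * u = s → f u * f u = 1 ∨ f u * f u = f s := fun h => by
    rw [← map_mul]; exact h.imp (fun e => by rw [e, map_one]) (congrArg f)
  exact ⟨f u, f v, h1.map f, h2.map f, h3.map f, h4.map f, h5.map f, h6.map f, this h7, this h8, by
    rw [← map_mul, h9, map_mul, map_mul]⟩

theorem NA.of_conj {M : Type*} [Group M] {a b s a' b' s' : M} (h : NA a' b' s') (g : M) (ha : g * a * g⁻¹ = a')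
    (hb : g * b * g⁻¹ = b') (hs : g * s * g⁻¹ = s') : NA a b s := by
  simpa [← ha, ← hb, ← hs, mul_assoc] using h.map (MulAut.conj g⁻¹).toMonoidHom

theorem na_Q {a b : C k0} (h : (Cm a ⊓ Cm b).index < 4096) : NA a b (z k0) := by
  obtain ⟨v, hv, w, hw, e⟩ : ∃ v ∈ Cm a ⊓ Cm b, ∃ w ∈ Cm a ⊓ Cm b, om v w = 1 := by
    by_contra n
    have h1 := AddSubgroup.card_le_of_le (show Cm a ⊓ Cm b ≤ Mon.perp (Cm a ⊓ Cm b) from fun v hv w hw =>
      (z2_cases _).resolve_right fun e => n ⟨v, hv, w, hw, e⟩)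
    have h2 := card_perp (Cm a ⊓ Cm b)
    have h3 := (Cm a ⊓ Cm b).index_mul_card
    rw [card_V24] at h3
    nlinarith
  have s : ∀ v, q k0 0 v * q k0 0 v = 1 ∨ q k0 0 v * q k0 0 v = z k0 := fun v => by
    rw [q_mul_self]; rcases z2_cases (qf v) with e | e <;> simp [e, q_one_zero]
  refine ⟨q k0 0 v, q k0 0 w, ((mem_Cm 0).1 hv.1).symm, ((mem_Cm 0).1 hv.2).symm, ((mem_Cm 0).1 hw.1).symm,
    ((mem_Cm 0).1 hw.2).symm, z_comm _, z_comm _, s v, s w, ?_⟩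
  rw [← mul_assoc, z_mul_q, ← mul_inv_eq_iff_eq_mul, conj_q, cε_q, cact_q, e]

theorem na_ov (h : MS π τ) {e e' : ZMod 2} {v w : V24} (h1 : IsShort k0 v) (h2 : IsShort k0 w)
    (h3 : IsShort k0 (v + w)) (h4 : om v (w0 k0) = 0) (h5 : om w (w0 k0) = 0) (h6 : ¬ IsShort k0 (v + w0 k0))
    (h7 : ¬ IsShort k0 (w + w0 k0)) : NA (q k0 e v) (q k0 e' w) z0 := by
  obtain ⟨o, δ, a1, a2, a3, rfl⟩ := exists_ov h1 h4 h6
  obtain ⟨o', δ', b1, b2, b3, rfl⟩ := exists_ov h2 h5 h7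
  obtain ⟨d, p, r, hd, h8, c1, c2, c3, c4⟩ := exists_oct_disj a1 a2 b1 b2 (four_le a1 b1 a3 b3
    (MonRep.dot_of_short (sqNorm_ov a1 a2 a3) (sqNorm_ov b1 b2 b3) (add_comm (k0.φ (ov o δ)) _ ▸ h3)))
  obtain ⟨y, hy⟩ := std_k0.exists_Y 0 hd
  have key : ∀ {o₁ δ} (e : ZMod 2), IsCW o₁ → δ ∈ evs o₁ → o₁ ⊆ o ∪ o' → Commute (Mon.mk k0 y) (q k0 e (k0.φ (ov o₁ δ))) ∧
      Commute (q k0 0 (k0.φ (dlL p r))) (q k0 e (k0.φ (ov o₁ δ))) := fun {o₁ δ} e k1 k2 k3 => by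
    have k4 : ∀ i, i ∉ o ∪ o' → (ov o₁ δ).1 i = 0 := fun i hi => by
      rw [ov_apply k1 k2, if_neg fun k => hi (k3 ((mem_evs.1 k2).1 k)), if_neg fun k => hi (k3 k)]
    have : k0.act y.g (k0.φ (ov o₁ δ)) = k0.φ (ov o₁ δ) := by
      rw [hy.g_eq, k0.act_φ]
      refine congrArg _ (Subtype.ext (funext fun i => ?_))
      rw [sgnAut_smul_apply]
      split_ifs with k
      exacts [by rw [k4 i (c3 i k), neg_zero], rfl]
    refine ⟨comm_q_iff.2 ⟨(cε_mk _ _).trans (hy.ε_fix std_k0 h8 this), (cact_mk _ _).trans this⟩, q_comm_iff.2 ?_⟩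
    rw [om_comm, k0.om_φ, ipL_eq_zero, show (dlL p r).1 = Pi.single p 4 - Pi.single r 4 from rfl, dotInt_sub_right,
      dotInt_single_right, dotInt_single_right, k4 p (c3 p c1), k4 r c4]
    rfl
  have pr : p ≠ r := fun e => c2 (e ▸ c1)
  have f1 : (k0.φ (dlL p r)).1 = 0 := std_k0 _ fun i => by rw [dlL_apply]; split_ifs <;> rfl
  refine ⟨Mon.mk k0 y, q k0 0 (k0.φ (dlL p r)), (key e a1 a3 Finset.subset_union_left).1,
    (key e' b1 b3 Finset.subset_union_right).1, (key e a1 a3 Finset.subset_union_left).2,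
    (key e' b1 b3 Finset.subset_union_right).2, comm_q_iff.2 (mem_Nxyz.1 (std_k0.isY_mem_Nxyz hy)),
    q_comm_iff.2 (by rw [φ_dlL, om_add_left, om_lam_w0, om_lam_w0]; rfl), Or.inl (h.inj ?_),
    Or.inl (q_mul_self_eq_one.2 (qf_of_short ⟨_, sqNorm_dlL pr, rfl⟩)), ?_⟩
  · rw [map_mul, ← h.am.conj (gam_Y hy), conj_mul, ← map_mul, mk_xq, xv_octad h8,
      q_mul_self_eq_one.2 (qf_of_short ⟨_, sqNorm_oct hd h8, rfl⟩), map_one, mul_one, mul_inv_cancel]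
  · rw [← mul_assoc, ← mul_inv_eq_iff_eq_mul, mk_conj_q, hy.ε_Z f1, q_mul, bet, f1, dotProduct_zero, add_zero, add_zero, hy.g_eq,
      k0.act_φ, show sgnAut d hy.isCW • dlL p r = -dpL p r from Subtype.ext (funext fun i => ?_), k0.φ_neg, φ_dpL,
      φ_dlL, add_comm (w0 k0)]
    rw [sgnAut_smul_apply, AddSubgroup.coe_neg, Pi.neg_apply, dlL_apply, dpL_apply]
    split_ifs <;> simp_all

theorem na_w0 (h : MS π τ) {a b : C k0} (h1 : IsConj (π tK) (π a)) (h2 : IsConj (π tK) (π b))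
    (h3 : IsConj (π tK) (π (a * b))) (h4 : IsConj (π tK) (π (a * q k0 1 (w0 k0))))
    (h5 : IsConj (π tK) (π (b * q k0 1 (w0 k0)))) (h6 : Commute a (q k0 1 (w0 k0))) (h7 : Commute b (q k0 1 (w0 k0)))
    (ha : a ∉ Q k0) (hb : b ∉ Q k0) : NA (π a) (π b) (π (z k0)) := by
  have cj : ∀ {s x : M}, IsConj s x → IsConj s (τ * x * τ⁻¹) := fun k => k.trans (isConj_iff.2 ⟨τ, rfl⟩)
  have key : ∀ {a : C k0}, IsConj (π tK) (π a) → IsConj (π tK) (π (a * q k0 1 (w0 k0))) → Commute a (q k0 1 (w0 k0)) →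
      a ∉ Q k0 → ∃ e v, τ * π a * τ⁻¹ = π (q k0 e v) ∧ IsShort k0 v ∧ om v (w0 k0) = 0 ∧ ¬ IsShort k0 (v + w0 k0) :=
      fun {a} k1 k2 k3 k4 => by
    obtain ⟨c, hc⟩ := h.exists_eq_of_not_isConj (cj k1) (by rw [← h.am.conj_z', conj_mul, conj_mul, (k3.map π).eq])
      fun k => h.not_isConj (k.trans (by rw [← h.am.conj_z', conj_mul, ← map_mul]; exact (cj k2).symm))
    rw [tK_eq, ← map_inv, ← map_mul, ← map_mul, conj_q] at hc
    refine ⟨_, _, hc, short_v0.cact c, q_comm_iff.1 (h.comm_iff.1 (by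
      rw [← hc, ← h.am.conj_z, conj_mul, conj_mul, h.comm_iff.2 (z_comm a)])), fun k => h.not_isConj ?_⟩
    have := cj (h.isConj_mul_z k1 k4)
    rw [map_mul, ← conj_mul, hc, h.am.conj_z, ← map_mul, q_mul] at this
    exact this.trans (k.isConj π _).symm
  obtain ⟨e, v, a1, a2, a3, a4⟩ := key h1 h4 h6 ha
  obtain ⟨e', w, b1, b2, b3, b4⟩ := key h2 h5 h7 hb
  have := cj h3
  rw [map_mul, ← conj_mul, a1, b1, ← map_mul, q_mul] at this
  exact ((na_ov h a2 b2 (h.short_q this) a3 b3 a4 b4).map π).of_conj τ a1 b1 h.am.conj_z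

end NaP

open NaP

theorem na (h : MS π τ) {a b : C k0} (h1 : IsConj (π tK) (π a)) (h2 : IsConj (π tK) (π b))
    (h3 : IsConj (π tK) (π (a * b))) : ∃ u v : M, Commute u (π a) ∧ Commute u (π b) ∧ Commute v (π a) ∧
      Commute v (π b) ∧ Commute u (π (z k0)) ∧ Commute v (π (z k0)) ∧ (u * u = 1 ∨ u * u = π (z k0)) ∧
      (v * v = 1 ∨ v * v = π (z k0)) ∧ u * v = π (z k0) * (v * u) := by
  change NA _ _ _
  by_cases hi : (Cm a ⊓ Cm b).index < 4096
  · exact (na_Q hi).map π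
  have sq : ∀ {c}, IsConj (π tK) (π c) → c⁻¹ = c := fun k => inv_eq_of_mul_eq_one_right
    (h.inj (by rw [map_mul, MS.mul_self_of_isConj k, map_one]))
  have idx : ∀ {c}, IsConj (π tK) (π c) → (Cm c).index ≤ 512 := fun {c} k => by
    by_cases e : c ∈ Q k0
    exacts [(index_Q e).trans (by norm_num), (cls h k e).2]
  have e1 : Cm (a * b) ⊓ Cm a = Cm a ⊓ Cm b := AddSubgroup.ext fun w => by
    simp only [AddSubgroup.mem_inf, mem_Cm 0]
    exact ⟨fun k => ⟨k.2, by simpa using k.2.inv_left.mul_left k.1⟩, fun k => ⟨k.1.mul_left k.2, k.1⟩⟩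
  have nq : ∀ {c d}, IsConj (π tK) (π d) → Cm a ⊓ Cm b = Cm c ⊓ Cm d → c ∉ Q k0 := fun k e hc =>
    hi (e ▸ (AddSubgroup.index_inf_le.trans (Nat.mul_le_mul (index_Q hc) (idx k))).trans_lt (by norm_num))
  have ha := nq h2 rfl
  have hb := nq h1 (inf_comm _ _)
  have c1 : 4 < Nat.card ((Cm (a * b)).map (cact a + AddMonoidHom.id V24)) := by
    have k := AddSubgroup.relIndex_mul_index (inf_le_left : Cm (a * b) ⊓ Cm a ≤ _)
    have e : Cm a = (cact a + AddMonoidHom.id V24).ker := AddSubgroup.ext fun w =>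
      ⟨fun k => mem_ker_N.2 k.2, fun k => (cls h h1 ha).1 w (mem_ker_N.1 k)⟩
    rw [AddSubgroup.inf_relIndex_left, e1] at k
    rw [← AddSubgroup.relIndex_ker, ← e]
    have := idx h3
    nlinarith
  have key : ∀ {c ζ : C k0} {u}, IsConj (π tK) (π c) → c ∉ Q k0 → c * q k0 0 u * c⁻¹ * (q k0 0 u)⁻¹ = ζ →
      IsConj (π tK) (π (c * ζ)) ∧ Commute c ζ := fun {c ζ u} k1 k2 k3 => by
    refine ⟨k1.trans (π.map_isConj (isConj_iff.2 ⟨q k0 0 u, ?_⟩)), ?_⟩
    · rw [← k3]; nth_rewrite 2 [← sq k1]; nth_rewrite 1 [← sq k1]; group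
    · rw [← k3, conj_q, q_inv, q_mul, ← mem_Cm]
      refine (cls h k1 k2).1 _ ?_
      rw [map_add, ← cact_mul]; nth_rewrite 2 [← sq k1]; rw [mul_inv_cancel, cact_one, add_comm]
  have key2 : ∀ w ∈ (Cm (a * b)).map (cact a + AddMonoidHom.id V24), ∃ e,
      (IsConj (π tK) (π (a * q k0 e w)) ∧ Commute a (q k0 e w)) ∧ IsConj (π tK) (π (b * q k0 e w)) ∧
        Commute b (q k0 e w) := by
    rintro _ ⟨u, hu, rfl⟩
    obtain ⟨e, k⟩ : ∃ e, a * q k0 0 u * a⁻¹ * (q k0 0 u)⁻¹ = q k0 e (cact a u + u) :=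
      ⟨_, by rw [conj_q, q_inv, q_mul]⟩
    refine ⟨_, key h1 ha k, key (u := u) h2 hb (Eq.trans (congrArg (· * _) ?_) k)⟩
    have := mul_inv_eq_iff_eq_mul.2 ((mem_Cm 0).1 hu).eq
    calc _ = a⁻¹ * (a * b * q k0 0 u * (a * b)⁻¹) * a := by group
      _ = _ := by rw [this, sq h1]
  obtain ⟨_, hw, v, hv, rfl⟩ := exists_four c1 fun w hw => by
    obtain ⟨e, ⟨k1, k2⟩, -⟩ := key2 w hw
    have := sq k1
    rw [mul_inv_rev, sq h1, k2.eq, mul_left_inj] at this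
    exact q_mul_self_eq_one.1 (inv_eq_iff_mul_eq_one.1 this)
  obtain ⟨e, ⟨k1, k2⟩, k3, k4⟩ := key2 _ hw
  obtain ⟨k, hk⟩ := conj_four (κ := k0) hv (sqNorm_e8 none) e 1
  have cj : ∀ {c}, IsConj (π tK) (π c) → IsConj (π tK) (π (k * c * k⁻¹)) := fun h =>
    h.trans (π.map_isConj (isConj_iff.2 ⟨k, rfl⟩))
  have nq' : ∀ {c}, c ∉ Q k0 → k * c * k⁻¹ ∉ Q k0 := fun hc e => hc (by simpa [mul_assoc] using normal_Q.conj_mem' _ e k)
  rw [φ_e8] at hk
  refine (na_w0 h (cj h1) (cj h2) (by rw [conj_mul]; exact cj h3) (by rw [← hk, conj_mul]; exact cj k1)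
    (by rw [← hk, conj_mul]; exact cj k3) (hk ▸ k2.map (MulAut.conj k)) (hk ▸ k4.map (MulAut.conj k)) (nq' ha) (nq' hb)).of_conj (π k) (by simp) (by simp) ?_
  rw [h.comm_iff.2 (z_comm k), mul_inv_cancel_right]

end CfsgLib.StdB
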