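import Mathlib
import Cfsg.Agent.Lib.StdB.Defs
import Cfsg.Agent.Lib.M24E.Enc

/-! STDB, package RK (plans/STDB.md §RK). -/

set_option autoImplicit false
set_option Elab.async false

namespace CfsgLib.StdB

open Cfsg CfsgLib.Leech CfsgLib.Mon CfsgLib.DCX CfsgLib.StdM Subgroup
open scoped Pointwise

namespace RkP

/-- eight independent commutators -/
def P8 (g : Co0) : Prop := ∃ b d : Fin 8 → V24, ∀ i j, j ≤ i →
  om (k0.act g (b i) + b i) (d j) = if j = i then 1 else 0

theorem P8.transport {x t : Co0} (hx : P8 x) (h : IsConj (x : Spor.Co1) t) : P8 t := by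
  refine MonRec.wc_transport ?_ ?_ h hx
  · rintro γ t ⟨b, d, h⟩
    refine ⟨fun i => k0.act γ (b i), fun i => k0.act γ (d i), fun i j hij => ?_⟩
    rw [k0.act_mul, k0.act_mul, k0.act_inv_act, ← map_add, k0.om_act, h i j hij]
  · rintro t ⟨b, d, h⟩
    exact ⟨b, d, fun i j hij => by rw [k0.act_mul, k0.act_neg, h i j hij]⟩

/-- an entry of the matrix of `1 + g` -/
noncomputable def ent (f : ℕ → ℕ) (r c : ℕ) : ZMod 2 :=
  if (dotN (f (bas.getD r 0)) (bas.getD c 0) + dotN (bas.getD r 0) (bas.getD c 0)) % 16 = 0 then 0 else 1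

theorem om_ent {g : Co0} {f : ℕ → ℕ} (h : Sim g f) (r c : Fin 24) :
    om (k0.act g (k0.φ (bv r)) + k0.φ (bv r)) (k0.φ (bv c)) = ent f r c := by
  have h0 : Rep (bas.getD r 0) (bv r).1 := rep_toL (chkN_bas _ r.2)
  have h1 : Rep (bas.getD c 0) (bv c).1 := rep_toL (chkN_bas _ c.2)
  rw [ent, ← (h _ _ (sqNorm_bv r) h0).dot h1, ← h0.dot h1, ← Leech.dotInt_add_left, ← AddSubgroup.coe_add,
    k0.act_φ, ← map_add, k0.om_φ]
  split_ifs with e
  · exact ipL_eq_zero.2 e
  · exact (z2_cases _).resolve_left fun e0 => e (ipL_eq_zero.1 e0)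

theorem p8_of {g : Co0} {f : ℕ → ℕ} (h : Sim g f) (r : Fin 8 → Fin 24) (c : Fin 8 → List (Fin 24))
    (e : ∀ i j : Fin 8, j ≤ i → ((c j).map fun k : Fin 24 => ent f (r i) k).sum = if j = i then 1 else 0) : P8 g := by
  refine ⟨fun i => k0.φ (bv (r i)), fun j => ((c j).map fun k : Fin 24 => k0.φ (bv k)).sum, fun i j hij => ?_⟩
  rw [← e i j hij]
  beta_reduce
  induction c j with
  | nil => simp
  | cons k l ih => rw [List.map_cons, List.map_cons, List.sum_cons, List.sum_cons, om_add_right, ih, om_ent h]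

theorem p8_z0 : P8 Co1Rec.z0 :=
  p8_of (f := Co1Rec.sgF 8241104) (Co1Rec.sim_sN (by decide +kernel)) ![0, 4, 3, 5, 1, 2, 6, 12]
    ![[12], [1, 2], [5, 6], [3], [1, 7], [5], [1], [0]] (by decide +kernel)

theorem p8_c0 : P8 Co1Rec.c0 :=
  p8_of Co1Rec.sim_c0 ![0, 1, 2, 4, 10, 6, 11, 12] ![[12], [4], [6], [1], [11], [7], [2], [0]] (by decide +kernel)

theorem p8_u0 : P8 Co1Rec.u0 :=
  p8_of Co1Rec.sim_u0 ![0, 1, 2, 9, 11, 12, 14, 22] ![[2], [9], [8], [10], [6], [1], [0], [3]] (by decide +kernel)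

theorem P8.card {g : Co0} (h : P8 g) : 256 ≤ Nat.card (k0.act g + AddMonoidHom.id V24).range := by
  obtain ⟨b, d, h⟩ := h
  let F : (Fin 8 → ZMod 2) → (k0.act g + AddMonoidHom.id V24).range := fun S =>
    ⟨∑ i, S i • (k0.act g (b i) + b i), sum_mem fun i _ => by
      rcases z2_cases (S i) with e | e <;> rw [e]
      · rw [zero_smul]; exact zero_mem _
      · rw [one_smul]; exact ⟨b i, rfl⟩⟩
  have hF : Function.Injective F := by
    intro S S' e
    have e1 : ∑ i, (S i - S' i) • (k0.act g (b i) + b i) = 0 := by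
      simp only [sub_smul, Finset.sum_sub_distrib]
      exact sub_eq_zero.2 (congrArg Subtype.val e)
    have e2 : ∀ j, S j - S' j = 0 := by
      intro j
      induction j using WellFoundedLT.induction with
      | ind j ih =>
        have := congrArg (omL (d j)) e1
        rw [map_sum, map_zero, Finset.sum_eq_single j] at this
        · rwa [omL_apply, om_smul', h j j le_rfl, if_pos rfl, mul_one] at this
        · intro i _ hi
          rw [omL_apply, om_smul']
          rcases lt_or_gt_of_ne hi with k | k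
          · rw [ih i k, zero_mul]
          · rw [h i j k.le, if_neg k.ne, mul_zero]
        · simp
    exact funext fun j => sub_eq_zero.1 (e2 j)
  have := Nat.card_le_card_of_injective F hF
  simpa using this

end RkP

open RkP

/-- involutions of `Co1` have rank at least eight on the lattice modulo two -/
theorem rank_ge8 {c : C k0} (h2 : c * c ∈ Q k0) (h1 : c ∉ Q k0) :
    256 ≤ Nat.card (cact c + AddMonoidHom.id V24).range := by
  obtain ⟨x, rfl⟩ := mk_surjective c
  rw [← toCo1_eq_one] at h1 h2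
  rw [map_mul] at h2
  rw [toCo1_mk] at h1 h2
  have : cact (mk k0 x) = k0.act x.g := AddMonoidHom.ext (cact_mk x)
  rw [this]
  rcases Co1Rec.inv3 h2 h1 with h | h | h
  exacts [(p8_z0.transport h).card, (p8_c0.transport h).card, (p8_u0.transport h).card]

theorem mem_Q_of_rk {c : C k0} (h2 : c * c ∈ Q k0) {U : AddSubgroup V24} (hU : U.index ≤ 8)
    (h : Nat.card (U.map (cact c + AddMonoidHom.id V24)) ≤ 16) : c ∈ Q k0 := by
  by_contra k
  have h1 := rank_ge8 h2 k
  set N := cact c + AddMonoidHom.id V24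
  rw [← AddSubgroup.index_ker] at h1
  rw [← AddSubgroup.relIndex_ker] at h
  have h3 := AddSubgroup.relIndex_mul_index (inf_le_right : N.ker ⊓ U ≤ _)
  rw [AddSubgroup.inf_relIndex_right] at h3
  have h4 := AddSubgroup.index_antitone (inf_le_left : N.ker ⊓ U ≤ _)
  have h5 := Nat.mul_le_mul h hU
  omega

theorem mem_Q_of_W {c : C k0} (hc : c ∈ CK) (h : ∀ w ∈ WW, Ev (cact c w) w) : c ∈ Q k0 := by
  have h1 : ∀ w ∈ WW, cact (c * c) w = w := fun w hw => by
    rw [cact_mul]
    rcases h w hw with e | e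
    · rw [e, e]
    · rw [e, map_add, e, (mem_CK_iff.1 hc).2, XP.add_add]
  have h2 : c * c * (c * c) ∈ Q k0 := mem_Q_iff_cact.2 fun x => by
    have : cact (c * c) x + x ∈ WW := by
      rcases perp_perp (u := v0) (w := s1) (x := cact (c * c) x + x) (fun y hy => by
        rw [om_add_right]
        conv_lhs => rw [← h1 y hy, om_cact, h1 y hy]
        exact z2_add_self _) with e | e | e | e <;> rw [e]
      exacts [zero_mem _, v0_mem, s1_mem, add_mem v0_mem s1_mem]
    have e := h1 _ this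
    rw [map_add, ← cact_mul, add_comm _ x] at e
    exact add_right_cancel e
  exact mem_Q_of_perp (mem_Q_of_perp h2 (s := 0) fun x hx => Or.inl (h1 x hx)) h

namespace RkP

open CfsgLib.Golay CfsgLib.M24E

/-- a permutation of order 7 fixing `∞`, `0`, `1` -/
noncomputable def σ7 : M24 := ⟨pm 0xb8d662aa0f9c58491c4e4b516a5420, pm_mem (by decide +kernel)⟩

/-- one step of the norm map -/
noncomputable def stp (m x : ℕ) : ℕ := Nat.xor m (M24E.img (ap 0xb8d662aa0f9c58491c4e4b516a5420) x)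

theorem ofMask_stp (m x : ℕ) : ofMask (stp m x) = symmDiff (ofMask m) (σ7 • ofMask x) :=
  (ofMask_xor _ _).trans (by rw [(pm_rp (by decide +kernel)).ofMask_img]; rfl)

theorem norm7 {d : Finset GolayPt} (hd : IsCW d) : (none ∈ d ↔ some 0 ∈ d) → (none ∈ d ↔ some 1 ∈ d) →
    (fun x => symmDiff d (σ7 • x))^[6] d = ∅ ∨ (fun x => symmDiff d (σ7 • x))^[6] d = Finset.univ := by
  refine forall_code (P := fun d => (none ∈ d ↔ some 0 ∈ d) → (none ∈ d ↔ some 1 ∈ d) →
    (fun x => symmDiff d (σ7 • x))^[6] d = ∅ ∨ (fun x => symmDiff d (σ7 • x))^[6] d = Finset.univ)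
    (fun m => or (or (xor (tb m 23) (tb m 0)) (xor (tb m 23) (tb m 1)))
      (frc (stp m (stp m (stp m (stp m (stp m (stp m m)))))) fun x => or (Nat.beq x 0) (Nat.beq x 16777215)))
    (fun m _ h h1 h2 => ?_) (by decide +kernel) hd
  have e : (fun x => symmDiff (ofMask m) (σ7 • x))^[6] (ofMask m) =
      ofMask (stp m (stp m (stp m (stp m (stp m (stp m m)))))) := by simp only [ofMask_stp]; rfl
  rw [mem_ofMask, mem_ofMask, ← Bool.eq_iff_iff] at h1 h2
  change m.testBit 23 = m.testBit 0 at h1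
  change m.testBit 23 = m.testBit 1 at h2
  rw [e]
  simp only [frc_eq, tb_eq, Bool.or_eq_true, Nat.beq_eq] at h
  rcases h with (h | h) | h | h
  · rw [h1, Bool.xor_self] at h; exact absurd h (by decide)
  · rw [h2, Bool.xor_self] at h; exact absurd h (by decide)
  · exact Or.inl (by rw [h, ofMask_zero])
  · exact Or.inr (by rw [h, ofMask_full])

theorem DK_eq : DK = Cq k0 v0 ⊓ Cq k0 s1 := by rw [DK, DD, C1_eq, C1_eq]

theorem img_DK {g : Co0} : g ∈ Mon.img DK ↔ (g • dlL none (some 0) = dlL none (some 0) ∧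
    g • dlL none (some 1) = dlL none (some 1)) ∨ (g • dlL none (some 0) = -dlL none (some 0) ∧
    g • dlL none (some 1) = -dlL none (some 1)) := by
  rw [DK_eq]
  exact mem_img_pair sqNorm_tK (sqNorm_dlL (by decide)) (dot_dlL (by decide) (by decide) (by decide))

end RkP

theorem eps {S : Subgroup (C k0)} (h1 : Q k0 ⊓ DK ≤ S) (h2 : ∀ a ∈ DK, ∀ b ∈ DK, a ∉ S → b ∉ S → a * b ∈ S)
    (e : ZMod 2) {w : V24} (hw : w ∈ WW) (h0 : om w (w0 k0) = 0) : ∃ b ∈ DK, b ∈ S ∧ (q k0 e w, b) ∈ Gam k0 := by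
  obtain ⟨f, d, r, hd, hr, e1⟩ := std_k0.exists_xq e h0
  obtain ⟨y, hy⟩ := std_k0.exists_Y f hd
  have hg : (q k0 e w, mk k0 ((xq k0 f d * y)⁻¹ * qh k0 0 r)) ∈ Gam k0 := by
    rw [← mk_qh, e1, map_mul, map_mul, map_inv]
    exact (Gam k0).mul_mem (gam_X hy) (gam_E hr)
  obtain ⟨B, hB, hg⟩ : ∃ B : Chat k0, B.g = sgnAut d hd ∧ (q k0 e w, mk k0 B) ∈ Gam k0 :=
    ⟨_, by simp [xq, hy.g_eq, sgnAut_inv], hg⟩
  have hE : ∀ p, IsE (qh k0 0 (k0.φ (dlL none p))) := fun p => by
    rw [φ_dlL, ← std_k0.xI_mul]; exact std_k0.isE_xI_mul _ _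
  have hq := q_mem_DK (e := e).2 hw
  have hb : mk k0 B ∈ DK := by
    rw [DK_eq] at hq ⊢
    exact ⟨(Mult.gam_Cq std_k0 hg (hE _)).1 hq.1, (Mult.gam_Cq std_k0 hg (hE _)).1 hq.2⟩
  refine ⟨_, hb, by_contra fun hS => ?_, hg⟩
  have h3 : (none ∈ d ↔ some 0 ∈ d) ∧ (none ∈ d ↔ some 1 ∈ d) := by
    rcases img_DK.1 ⟨B, hb, hB⟩ with ⟨a, b⟩ | ⟨a, b⟩ <;>
    · have a1 := congrFun (congrArg Subtype.val a) none
      have a2 := congrFun (congrArg Subtype.val a) (some 0)
      have a3 := congrFun (congrArg Subtype.val b) (some 1)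
      simp [sgnAut_smul_apply, dlL_apply] at a1 a2 a3
      simp [a1, a2, a3]
  have hσ : ∀ p ∈ ([none, some 0, some 1] : List GolayPt), σ7 • p = p := by
    intro p hp
    refine ((M24E.pm_rp (q := 0xb8d662aa0f9c58491c4e4b516a5420) (by decide +kernel)).apply_eq p).trans ?_
    revert p
    decide +kernel
  have hd' : ∀ p ∈ ([none, some 0, some 1] : List GolayPt), permAut σ7 • dlL none p = dlL none p := fun p hp =>
    Subtype.ext (funext fun l => by
      simp only [permAut_smul_apply, dlL_apply, inv_smul_eq_iff, hσ p hp, hσ none (by simp)])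
  obtain ⟨c, hc, e2⟩ := mem_img.1 (img_DK.2 (Or.inl ⟨hd' _ (by simp), hd' _ (by simp)⟩))
  have mul : ∀ a ∈ DK, ∀ b ∈ DK, (a * b ∈ S ↔ (a ∈ S ↔ b ∈ S)) := fun a ha b hb => by
    by_cases k : a ∈ S
    · simp [k, mul_mem_cancel_left]
    · by_cases k' : b ∈ S
      · simp [k, k', mul_mem_cancel_right]
      · simp [k, k', h2 a ha b hb]
  have key : ∀ n, ∃ X : Chat k0, mk k0 X ∈ DK ∧ (mk k0 X ∈ S ↔ Odd n) ∧
      ∃ hx, X.g = sgnAut ((fun x => symmDiff d (σ7 • x))^[n] d) hx := by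
    intro n
    induction n with
    | zero => exact ⟨B, hb, by simp [hS], hd, hB⟩
    | succ n ih =>
      obtain ⟨X, k1, k2, hx, k3⟩ := ih
      have k4 : mk k0 c * mk k0 X ∈ DK := mul_mem hc k1
      refine ⟨B * (c * X * c⁻¹), ?_, ?_, ?_⟩
      · simp only [map_mul, map_inv]
        exact mul_mem hb (mul_mem k4 (inv_mem hc))
      · simp only [map_mul, map_inv]
        rw [mul _ hb _ (mul_mem k4 (inv_mem hc)), mul _ k4 _ (inv_mem hc), mul _ hc _ k1, inv_mem_iff, k2,
          Nat.odd_add_one]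
        tauto
      · rw [Function.iterate_succ_apply']
        exact ⟨_, by rw [Chat.mul_g, Chat.mul_g, Chat.mul_g, Chat.inv_g, hB, e2, k3, permAut_mul_sgnAut,
          mul_inv_cancel_right, sgnAut_mul]⟩
  obtain ⟨X, k1, k2, hx, k3⟩ := key 6
  refine absurd (k2.1 (h1 ⟨mk_mem_Q.2 ?_, k1⟩)) (by decide)
  rcases norm7 hd h3.1 h3.2 with e3 | e3
  · exact Or.inl (k3.trans (co0_ext fun v => Subtype.ext (funext fun i => by simp [sgnAut_smul_apply, e3])))
  · exact Or.inr (k3.trans (co0_ext fun v => Subtype.ext (funext fun i => by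
      simp [sgnAut_smul_apply, e3, negAut_smul])))

end CfsgLib.StdB
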