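import Mathlib
import Cfsg.Agent.Lib.StdB.Cls
import Cfsg.Agent.Lib.StdB.Na
import Cfsg.Agent.Lib.StdB.Rk
import Cfsg.Agent.Lib.StdM.PW

/-! STDB, package FUS (plans/STDB.md §FUS). -/

set_option autoImplicit false

namespace CfsgLib.StdB

open Cfsg CfsgLib.Leech CfsgLib.Mon CfsgLib.DCX CfsgLib.StdM Subgroup

variable {M G : Type*} [Group M] [Group G] {π : C k0 →* M} {τ : M} {φ : LM π →* G}

open FusP

theorem Emb.a_sq (φ : LM π →* G) : φ (aL π) * φ (aL π) = 1 := by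
  rw [← qL_a, qL_mul_self 0 s1_mem, qf_of_short short_s1, qL_zero]

theorem Emb.z_sq (φ : LM π →* G) : φ (zL π) * φ (zL π) = 1 := by
  nth_rw 1 [← qL_z]
  rw [qL_mul_z 1 (zero_mem _), z2_add_self, qL_zero]

theorem Emb.ne (h : Emb τ φ) : φ (aL π) ≠ 1 ∧ φ (zL π) ≠ 1 ∧ φ (aL π) ≠ φ (zL π) := by
  have k : ∀ e, qL φ 0 s1 ≠ qL φ e 0 := fun e k => (h.qL_inj s1_mem (zero_mem _) k).elim (fun k => s1_ne k.2) fun k =>
    MonRec.Sv.ne Om_s1.2 (by rw [k, zero_add, ww_add_self])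
  rw [← qL_a, ← qL_z, ← qL_zero (φ := φ)]
  exact ⟨k 0, fun e => one_ne_zero (h.sign_inj (zero_mem _) e), k 1⟩

/-- an element which acts like an element of `LM` lies in the range -/
theorem Emb.eq_of_act (h : Emb τ φ) {g : G} {n : LM π}
    (k : ∀ l l' : LM π, l'.1 = n.1 * l.1 * n.1⁻¹ → g * φ l * g⁻¹ = φ l') : g = φ n ∨ g = φ n * φ (aL π) := by
  refine (h.cen ((φ n)⁻¹ * g) fun l => ?_).imp (fun e => (inv_mul_eq_one.1 e).symm) inv_mul_eq_iff_eq_mul.1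
  have := k l (n * l * n⁻¹) rfl
  rw [map_mul, map_mul, map_inv] at this
  calc _ = (φ n)⁻¹ * (g * φ l * g⁻¹) * g := by group
    _ = _ := by rw [this]; group

theorem Emb.mem_of_act (h : Emb τ φ) {g : G} {n : M} (hn : n ∈ LM π)
    (k : ∀ l l' : LM π, l'.1 = n * l.1 * n⁻¹ → g * φ l * g⁻¹ = φ l') : g ∈ φ.range :=
  (h.eq_of_act (n := ⟨n, hn⟩) k).elim (fun e => ⟨_, e.symm⟩) fun e => ⟨_, (map_mul _ _ _).trans e.symm⟩

theorem Emb.conj_mem (h : Emb τ φ) {g x : G} (hg : Commute g (φ (aL π))) (hx : x ∈ φ.range) :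
    g * x * g⁻¹ ∈ φ.range := by
  obtain ⟨l, rfl⟩ := hx
  obtain ⟨n, h1, h2, k⟩ := h.act g hg
  exact ⟨_, (k l ⟨_, Nm.mem ⟨h1, h2⟩ l.2⟩ rfl).symm⟩

/-- an element outside the range acts like an element interchanging `a` and `t a` -/
theorem Emb.act_out (h : Emb τ φ) {g : G} (hg : Commute g (φ (aL π))) (h0 : g ∉ φ.range) :
    ∃ n, n * π tK = π tK * n ∧ n * π tK1 * n⁻¹ = π tK * π tK1 ∧
      ∀ l l' : LM π, l'.1 = n * l.1 * n⁻¹ → g * φ l * g⁻¹ = φ l' :=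
  let ⟨n, h1, h2, k⟩ := h.act g hg
  ⟨n, h1, h2.resolve_left fun e => h0 (h.mem_of_act (mem_of h1 e) k), k⟩

theorem act_mul {x y : G} {n n' : M} (h' : Nm π n')
    (k : ∀ l l' : LM π, l'.1 = n * l.1 * n⁻¹ → x * φ l * x⁻¹ = φ l')
    (k' : ∀ l l' : LM π, l'.1 = n' * l.1 * n'⁻¹ → y * φ l * y⁻¹ = φ l') (l l' : LM π)
    (e : l'.1 = n * n' * l.1 * (n * n')⁻¹) : x * y * φ l * (x * y)⁻¹ = φ l' := by
  rw [← k ⟨_, h'.mem l.2⟩ l' (by rw [e]; group), ← k' l ⟨_, h'.mem l.2⟩ rfl]; group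

theorem Emb.par (h : Emb τ φ) {x y : G} (hx : Commute x (φ (aL π))) (hy : Commute y (φ (aL π)))
    (h1 : x ∉ φ.range) (h2 : y ∉ φ.range) : x * y ∈ φ.range := by
  obtain ⟨n, a1, a2, k⟩ := h.act_out hx h1
  obtain ⟨n', b1, b2, k'⟩ := h.act_out hy h2
  exact h.mem_of_act (mem_of ((show Commute _ _ from a1).mul_left b1) (swap_mul a1 a2 b2))
    (act_mul ⟨b1, Or.inr b2⟩ k k')

theorem Emb.inL_iff (h : Emb τ φ) {g x : G} : InL φ (g * φ (aL π) * g⁻¹) x ↔ g⁻¹ * x * g ∈ φ.range := by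
  refine ⟨fun ⟨g', e, k⟩ => ?_, fun k => ⟨g, rfl, k⟩⟩
  have := h.conj_mem (g := g⁻¹ * g') (by
    show _ = _
    calc _ = g⁻¹ * (g' * φ (aL π) * g'⁻¹) * g' := by group
      _ = _ := by rw [e]; group) k
  simpa [mul_assoc] using this

theorem InL.conj {s x : G} (k : InL φ s x) (g : G) : InL φ (g * s * g⁻¹) (g * x * g⁻¹) := by
  obtain ⟨g', rfl, k⟩ := k
  exact ⟨g * g', by group, by simpa [mul_assoc] using k⟩

theorem InL.comm {s x : G} (k : InL φ s x) : Commute x s := by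
  obtain ⟨g, rfl, l, k⟩ := k
  have := (show Commute _ _ from Emb.a_comm (φ := φ) l).map (MulAut.conj g)
  simpa [k, mul_assoc] using this

theorem Emb.inL_self {s : G} (hs : IsConj (φ (aL π)) s) : InL φ s s := by
  obtain ⟨g, rfl⟩ := isConj_iff.1 hs
  exact ⟨g, rfl, aL π, by group⟩

theorem Emb.inL_mul (h : Emb τ φ) {s x y : G} (h1 : InL φ s x) (h2 : InL φ s y) : InL φ s (x * y) := by
  obtain ⟨g, rfl, k⟩ := h1
  exact ⟨g, rfl, by simpa [mul_assoc] using mul_mem k (h.inL_iff.1 h2)⟩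

theorem InL.inv {s x : G} (h1 : InL φ s x) : InL φ s x⁻¹ := by
  obtain ⟨g, rfl, k⟩ := h1
  exact ⟨g, rfl, by simpa [mul_assoc] using inv_mem k⟩

theorem comm_pull {g a x : G} (h : Commute x (g * a * g⁻¹)) : Commute (g⁻¹ * x * g) a := by
  simpa [mul_assoc] using h.map (MulAut.conj g⁻¹)

theorem Emb.inL_par (h : Emb τ φ) {s x y : G} (hs : IsConj (φ (aL π)) s) (hx : Commute x s) (hy : Commute y s)
    (h1 : ¬ InL φ s x) (h2 : ¬ InL φ s y) : InL φ s (x * y) := by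
  obtain ⟨g, rfl⟩ := isConj_iff.1 hs
  rw [h.inL_iff] at h1 h2 ⊢
  simpa [mul_assoc] using h.par (comm_pull hx) (comm_pull hy) h1 h2

theorem Emb.inL_sq (h : Emb τ φ) {s x : G} (hs : IsConj (φ (aL π)) s) (hx : Commute x s) : InL φ s (x * x) :=
  (em _).elim (fun k => h.inL_mul k k) fun k => h.inL_par hs hx hx k k

/-- the preimage of `⟨a⟩` -/
theorem Emb.mem_E (h : Emb τ φ) {l : LM π} (k : φ l = 1 ∨ φ l = φ (aL π)) :
    l.1 = 1 ∨ l.1 = π tK ∨ l.1 = π tK1 ∨ l.1 = π tK * π tK1 := by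
  rw [h.ker, h.eq_iff, coe_aL] at k
  tauto

theorem Emb.sq_one (h : Emb τ φ) {l : LM π} (k : φ l * φ l = 1 ∨ φ l * φ l = φ (aL π)) : l.1 * l.1 = 1 := by
  obtain ⟨a, b, c⟩ := h.sq_ne l
  rw [← map_mul] at k
  have := h.mem_E k
  rw [coe_mul] at this
  tauto

theorem Emb.nq1 (h : Emb τ φ) {u : G} {v : LM π} (hu : Commute u (φ (aL π)))
    (h1 : u * u = 1 ∨ u * u = φ (aL π)) (h2 : φ v * φ v = 1 ∨ φ v * φ v = φ (aL π)) :
    u * φ v ≠ φ (aL π) * (φ v * u) := fun e => by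
  have v2 := h.sq_one h2
  by_cases hu' : u ∈ φ.range
  · obtain ⟨u, rfl⟩ := hu'
    have u2 : φ u * φ u = 1 := by rw [← map_mul, show u * u = 1 from Subtype.ext (h.sq_one h1), map_one]
    have v2' : φ v * φ v = 1 := by rw [← map_mul, show v * v = 1 from Subtype.ext v2, map_one]
    have k : φ (u * v) * φ (u * v) = φ (aL π) := by
      rw [map_mul]
      nth_rw 1 [e]
      rw [mul_assoc, mul_assoc, ← mul_assoc (φ u), u2, one_mul, v2', mul_one]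
    exact h.ne.1 (by rw [← k, ← map_mul, show u * v * (u * v) = 1 from Subtype.ext (h.sq_one (Or.inr k)), map_one])
  · obtain ⟨n, a1, a2, k⟩ := h.act_out hu hu'
    have hn : Nm π n := ⟨a1, Or.inr a2⟩
    have m := mem_of ((show Commute _ _ from a1).mul_left a1) (swap_mul a1 a2 a2)
    have c : n * n * v.1 = v.1 * (n * n) := by
      have := h.cen (φ ⟨_, m⟩) fun l => by
        have := act_mul hn k k l (⟨_, m⟩ * l * ⟨_, m⟩⁻¹) rfl
        rw [map_mul, map_mul, map_inv] at this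
        rw [← mul_inv_eq_iff_eq_mul, ← this]
        rcases h1 with e | e <;> rw [e]
        · simp
        · rw [← Emb.a_comm, mul_inv_cancel_right]
      obtain ⟨c1, c2⟩ := mem_cen2.1 v.2
      rcases h.mem_E this with e | e | e | e <;> rw [show n * n = _ from e]
      exacts [by simp, c1.symm, c2.symm, ((show Commute _ _ from c1).mul_right c2).symm]
    have k1 := k v ⟨_, hn.mem v.2⟩ rfl
    rw [e, ← mul_assoc, mul_inv_cancel_right, ← map_mul, eq_comm, h.eq_iff, coe_mul, coe_aL] at k1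
    have k2 : n * (n * v.1 * n⁻¹) * n⁻¹ = v.1 := by
      rw [show n * (n * v.1 * n⁻¹) * n⁻¹ = n * n * v.1 * (n * n)⁻¹ by group, c, mul_inv_cancel_right]
    have aa : π tK1 * (π tK1 * v.1) = v.1 := by rw [← mul_assoc, ← map_mul, a_mul_self, map_one, one_mul]
    have ta : ∀ x, π tK1 * (π tK * x) = π tK * (π tK1 * x) := fun x => by
      rw [← mul_assoc, ← mul_assoc, show π tK1 * π tK = _ from (mem_cen2.1 (aL π).2).1]; rfl
    have t1 : π tK * v.1 ≠ v.1 := fun e => by simpa [mul_eq_right.1 e] using h.orderOf_t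
    change n * v.1 * n⁻¹ = _ ∨ n * v.1 * n⁻¹ = _ at k1
    rcases k1 with k1 | k1 <;> nth_rw 1 [k1] at k2
    · rw [← conj_mul, a2, k1, mul_assoc, aa] at k2
      exact t1 k2
    · rw [← conj_mul, ← conj_mul, hn.t, a2, k1, mul_assoc, tt, ta, aa] at k2
      exact t1 k2

theorem Emb.nq (h : Emb τ φ) {u v : G} (hu : Commute u (φ (aL π))) (hv : Commute v (φ (aL π)))
    (h1 : u * u = 1 ∨ u * u = φ (aL π)) (h2 : v * v = 1 ∨ v * v = φ (aL π)) : u * v ≠ φ (aL π) * (v * u) := fun e => by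
  have a2 := Emb.a_sq φ
  have e' : v * u = φ (aL π) * (u * v) := by rw [e, ← mul_assoc, a2, one_mul]
  by_cases k1 : v ∈ φ.range
  · obtain ⟨v, rfl⟩ := k1
    exact h.nq1 hu h1 h2 e
  by_cases k2 : u ∈ φ.range
  · obtain ⟨u, rfl⟩ := k2
    exact h.nq1 hv h2 h1 e'
  obtain ⟨w, hw⟩ := h.par hu hv k2 k1
  refine h.nq1 (v := w) hu h1 ?_ ?_
  · have : φ w * φ w = φ (aL π) * (u * u) * (v * v) := by
      rw [hw, mul_assoc, ← mul_assoc v, e', ← mul_assoc, ← mul_assoc, hu.eq]; group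
    rcases h1 with e1 | e1 <;> rcases h2 with e2 | e2 <;> simp [this, e1, e2, a2]
  · rw [hw]
    nth_rw 1 [e]
    rw [← mul_assoc, hu.eq]; group

theorem Emb.star0 (h : Emb τ φ) {l : LM π} (k : IsConj (φ (aL π)) (φ l)) :
    IsConj (π tK) l.1 ∧ IsConj (π tK) (π tK * l.1) := by
  have key : ∀ l : LM π, IsConj (φ (aL π)) (φ l) → IsConj (π tK) l.1 := fun l k => by
    obtain ⟨g, hg⟩ := isConj_iff.1 k
    have l2 := h.sq_one (l := l) (Or.inl (by rw [← hg, conj_mul, Emb.a_sq, mul_one, mul_inv_cancel]))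
    have l1 : l.1 ≠ 1 := fun e => h.ne.1 (by rwa [show l = 1 from Subtype.ext e, map_one, isConj_one_left] at k)
    refine (h.inv_cases (orderOf_eq_prime (by rw [pow_two, l2]) l1)).resolve_left fun e => ?_
    obtain ⟨m, hm⟩ := isConj_iff.1 e
    have pull : ∀ x, Commute l.1 x → ∃ c, π c = m⁻¹ * x * m := fun x hx =>
      h.cent_z.ge (mem_centralizer_singleton_iff.2 (comm_pull (hm ▸ hx.symm)))
    obtain ⟨a, ha⟩ := pull _ (mem_cen2.1 l.2).1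
    obtain ⟨b, hb⟩ := pull _ (mem_cen2.1 l.2).2
    have cj : ∀ {x}, IsConj (π tK) x → IsConj (π tK) (m⁻¹ * x * m) := fun k =>
      k.trans (isConj_iff.2 ⟨m⁻¹, by rw [inv_inv]⟩)
    obtain ⟨u, v, c1, c2, c3, c4, c5, c6, s1, s2, k⟩ := na h.toMS (ha ▸ cj (IsConj.refl _)) (hb ▸ cj (MS.isConj_tK1 π))
      (by
        have := cj (ta_eq ▸ (add_comm s1 v0 ▸ Om_s1.2).isConj π _ : IsConj (π tK) (π (tK * tK1)))
        rwa [map_mul, ha, hb, show m⁻¹ * π tK * m * (m⁻¹ * π tK1 * m) = m⁻¹ * (π tK * π tK1) * m by group,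
          ← map_mul])
    have push : ∀ {x}, Commute x (π a) → Commute x (π b) → m * x * m⁻¹ ∈ LM π := fun h1 h2 =>
      mem_cen2.2 ⟨by simpa using (comm_pull (g := m⁻¹) (by rwa [inv_inv, ← ha])).eq,
        by simpa using (comm_pull (g := m⁻¹) (by rwa [inv_inv, ← hb])).eq⟩
    have cm : ∀ {x} (hx : m * x * m⁻¹ ∈ LM π), Commute x (π (z k0)) →
        Commute (g⁻¹ * φ ⟨_, hx⟩ * g) (φ (aL π)) := fun hx hc => comm_pull (by
      rw [hg]
      exact Commute.map (show Commute _ l from Subtype.ext (by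
        rw [coe_mul, coe_mul, ← hm]; exact (hc.map (MulAut.conj m)).eq)) φ)
    have ga : g⁻¹ * φ l * g = φ (aL π) := by rw [← hg]; group
    have sq : ∀ {x} (hx : m * x * m⁻¹ ∈ LM π), x * x = 1 ∨ x * x = π (z k0) →
        g⁻¹ * φ ⟨_, hx⟩ * g * (g⁻¹ * φ ⟨_, hx⟩ * g) = 1 ∨ g⁻¹ * φ ⟨_, hx⟩ * g * (g⁻¹ * φ ⟨_, hx⟩ * g) = φ (aL π) :=
      fun {x} hx k => by
      rw [show ∀ y : G, g⁻¹ * y * g * (g⁻¹ * y * g) = g⁻¹ * (y * y) * g from fun y => by group, ← map_mul]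
      refine k.imp (fun e => ?_) fun e => ?_
      · rw [show (⟨_, hx⟩ * ⟨_, hx⟩ : LM π) = 1 from Subtype.ext (by simp [conj_mul, e]), map_one]; group
      · rw [show (⟨_, hx⟩ * ⟨_, hx⟩ : LM π) = l from Subtype.ext (by rw [coe_mul, conj_mul, e, hm]), ga]
    refine h.nq (cm (push c1 c2) c5) (cm (push c3 c4) c6) (sq _ s1) (sq _ s2) ?_
    have : (⟨_, push c1 c2⟩ * ⟨_, push c3 c4⟩ : LM π) = l * (⟨_, push c3 c4⟩ * ⟨_, push c1 c2⟩) :=
      Subtype.ext (by simp only [coe_mul, conj_mul, k, ← hm])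
    have := congrArg (fun x => g⁻¹ * φ x * g) this
    simp only [map_mul] at this
    rw [← ga]
    simpa [mul_assoc] using this
  have tm : π tK ∈ LM π := mem_cen2.2 ⟨rfl, (mem_cen2.1 (aL π).2).1.symm⟩
  exact ⟨key l k, key (⟨_, tm⟩ * l) (by rwa [map_mul, (h.ker ⟨_, tm⟩).2 (Or.inr rfl), one_mul])⟩

theorem Emb.not_az (h : Emb τ φ) : ¬ IsConj (φ (aL π)) (φ (zL π)) := fun k => h.not_isConj (h.star0 k).1.symm

theorem Emb.Om_of (h : Emb τ φ) {e : ZMod 2} {w : V24} (hw : w ∈ WW) (k : IsConj (φ (aL π)) (qL φ e w)) : Om w := by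
  rw [qL_def e hw] at k
  obtain ⟨a, b⟩ := h.star0 k
  rw [coe_ιL, XP.t_mul] at b
  exact ⟨h.short_q a, add_comm v0 w ▸ h.short_q b⟩

theorem Emb.mem_D (h : Emb τ φ) {l : LM π} (k : Commute (φ l) (φ (zL π))) : ∃ c, ιL π c = l :=
  h.toMB.mem_D (h.eq_iff (l := l * zL π * l⁻¹) (l' := zL π).1 (by
    rw [map_mul, map_mul, map_inv, k.eq, mul_inv_cancel_right]))

theorem Emb.star (h : Emb τ φ) {s : G} (h0 : s ∈ φ.range) (h1 : Commute s (φ (zL π))) (h2 : IsConj (φ (aL π)) s)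
    (h3 : IsConj (φ (aL π)) (s * φ (zL π))) : ∃ e, ∃ w ∈ WW, Om w ∧ s = qL φ e w := by
  obtain ⟨l, rfl⟩ := h0
  obtain ⟨⟨c, hc⟩, rfl⟩ := h.mem_D h1
  rw [← map_mul] at h3
  obtain ⟨k, hk⟩ := h.exists_eq_of_not_isConj (h.star0 h2).1 (h.comm_iff.2 (z_comm c)) fun k =>
    h.not_isConj (k.trans (h.star0 h3).1.symm)
  obtain ⟨e, w, rfl⟩ := h.mem_Q_of_eq hk
  have hw := q_mem_DK.1 hc
  exact ⟨e, w, hw, h.Om_of hw (qL_def (φ := φ) e hw ▸ h2), (qL_def e hw).symm⟩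

theorem Emb.cls' (h : Emb τ φ) {l : LM π} (k : IsConj (π tK) l.1 ∧ IsConj (π tK) (π tK * l.1)) :
    φ l = φ (aL π) ∨ ∃ k, φ k * (φ (aL π) * φ (zL π)) * (φ k)⁻¹ = φ l := by
  rcases h.cls_az k.1 k.2 with e | e | ⟨y, h1, e⟩
  · exact Or.inl (h.eq_iff.2 (Or.inl e))
  · exact Or.inl (h.eq_iff.2 (Or.inr e))
  · obtain ⟨k, rfl⟩ := isConj_iff.1 h1
    exact Or.inr ⟨k, by rw [h.eq_iff.2 e, map_mul, map_mul, map_mul, map_inv]⟩

theorem Emb.cls (h : Emb τ φ) {s : G} (h0 : s ∈ φ.range) (h2 : IsConj (φ (aL π)) s) :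
    s = φ (aL π) ∨ ∃ k, φ k * (φ (aL π) * φ (zL π)) * (φ k)⁻¹ = s := by
  obtain ⟨l, rfl⟩ := h0
  exact h.cls' (h.star0 h2)

theorem Emb.tr (h : Emb τ φ) {s : G} (h2 : IsConj (φ (aL π)) (s * φ (zL π))) (h3 : InL φ s (φ (zL π))) :
    ∃ g, Commute g (φ (zL π)) ∧ g * φ (aL π) * g⁻¹ = s := by
  obtain ⟨g, rfl, h3⟩ := h3
  rcases h.cls (mul_mem ⟨aL π, rfl⟩ h3) (h2.trans (isConj_iff.2 ⟨g⁻¹, by group⟩)) with e | ⟨k, e⟩
  · rw [mul_eq_left, mul_assoc, inv_mul_eq_one, eq_comm, mul_eq_right] at e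
    exact absurd e h.ne.2.1
  · rw [← conj_mul, Emb.a_comm, mul_inv_cancel_right, mul_right_inj] at e
    refine ⟨g * φ k, mul_inv_eq_iff_eq_mul.1 ?_, by rw [mul_assoc g, Emb.a_comm]; group⟩
    rw [show g * φ k * φ (zL π) * (g * φ k)⁻¹ = g * (φ k * φ (zL π) * (φ k)⁻¹) * g⁻¹ by group, e]; group

theorem Emb.isConj_Om (h : Emb τ φ) (az : IsConj (φ (aL π)) (φ (aL π) * φ (zL π))) (e : ZMod 2) {w : V24}
    (hw : w ∈ WW) (k : Om w) : IsConj (φ (aL π)) (qL φ e w) := by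
  rw [qL_def e hw]
  rcases h.cls' (l := ιL π ⟨_, q_mem_DK.2 hw⟩) ⟨k.1.isConj π e, by
    rw [coe_ιL, XP.t_mul]; exact (add_comm w v0 ▸ k.2).isConj π _⟩ with e | ⟨k, e⟩
  · rw [e]
  · exact az.trans (isConj_iff.2 ⟨_, e⟩)

theorem ι_comm_az (c : DK) : Commute (φ (ιL π c)) (φ (aL π) * φ (zL π)) :=
  (show Commute _ _ from Emb.a_comm _).mul_right (ι_z c)

theorem Emb.inL_az (h : Emb τ φ) (az : IsConj (φ (aL π)) (φ (aL π) * φ (zL π))) (e : ZMod 2) {w : V24}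
    (hw : w ∈ WW) : InL φ (φ (aL π) * φ (zL π)) (qL φ e w) := by
  have cm := ι_comm_az (φ := φ)
  generalize φ (aL π) * φ (zL π) = s at *
  let S : Subgroup CK :=
    { carrier := {c | ∃ hc : c.1 ∈ DK, InL φ s (φ (ιL π ⟨c.1, hc⟩))}
      one_mem' := ⟨one_mem _, by
        have := h.inL_sq az (cm 1)
        rwa [← map_mul, ← map_mul, mul_one] at this⟩
      mul_mem' := fun ⟨a, b⟩ ⟨c, d⟩ => ⟨mul_mem a c, by
        have := h.inL_mul b d
        rwa [← map_mul, ← map_mul] at this⟩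
      inv_mem' := fun ⟨a, b⟩ => ⟨inv_mem a, by
        have := b.inv
        rwa [← map_inv, ← map_inv] at this⟩ }
  have hS : OddGen t1K ≤ S := (closure_le _).2 fun c ⟨⟨n, hn⟩, hc⟩ => by
    have m : c.1 ∈ DK := mem_DK.2 ⟨mem_CK.1 c.2, congrArg Subtype.val hc.symm.eq⟩
    refine ⟨m, ?_⟩
    have := h.inL_sq az (cm (⟨c.1, m⟩ ^ (n + 1)))
    rwa [← map_mul, ← map_mul, ← pow_add, show n + 1 + (n + 1) = orderOf c + 1 by omega, pow_succ,
      show (⟨c.1, m⟩ : DK) ^ orderOf c = 1 from Subtype.ext (congrArg CK.subtype (pow_orderOf_eq_one c)),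
      one_mul] at this
  obtain ⟨_, k⟩ := hS (pw_t1 (x := ⟨q k0 e w, q_mem_CK_iff.2 hw.1⟩) (q_mem_Q _ _)
    (Subtype.ext (mem_DK.1 (q_mem_DK.2 hw)).2.symm))
  exact qL_def (φ := φ) e hw ▸ k

/-- an element centralizing `a` and `z` acts like an element of `CK` -/
theorem Emb.act_z (h : Emb τ φ) {g : G} (h1 : Commute g (φ (aL π))) (h2 : Commute g (φ (zL π))) :
    ∃ c ∈ CK, (c * tK1 * c⁻¹ = tK1 ∧ g ∈ φ.range ∨ c * tK1 * c⁻¹ = tK * tK1) ∧
      (∀ l l' : LM π, l'.1 = π c * l.1 * (π c)⁻¹ → g * φ l * g⁻¹ = φ l') ∧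
      ∀ e, ∀ w ∈ WW, cact c w ∈ WW ∧ g * qL φ e w * g⁻¹ = qL φ (e + cε c w) (cact c w) := by
  obtain ⟨n, a1, a2, k⟩ := h.act g h1
  have hn : Nm π n := ⟨a1, a2⟩
  have k1 := k (zL π) ⟨_, hn.mem (zL π).2⟩ rfl
  rw [h2.eq, mul_inv_cancel_right, eq_comm, h.eq_iff] at k1
  obtain ⟨c, rfl⟩ := h.cent_z.ge (mem_centralizer_singleton_iff.2 (mul_inv_eq_iff_eq_mul.1 (k1.resolve_right fun e =>
    h.not_isConj ((isConj_iff.2 ⟨n, e⟩).trans (MS.isConj_t_mul π).symm))))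
  refine ⟨c, mem_CK.2 (h.comm_iff.1 a1), a2.imp (fun e => ⟨h.inj (by simpa using e), h.mem_of_act (mem_of a1 e) k⟩)
    fun e => h.inj (by simpa using e), k, fun e w hw => ?_⟩
  have e1 : π c * (ιL π ⟨q k0 e w, q_mem_DK.2 hw⟩ : LM π).1 * (π c)⁻¹ = π (q k0 (e + cε c w) (cact c w)) := by
    rw [coe_ιL, ← map_inv, ← map_mul, ← map_mul, conj_q]
  have m := mem_cen2.1 (e1 ▸ hn.mem (ιL π ⟨_, q_mem_DK.2 hw⟩).2)
  have hw' := q_mem_DK.1 (mem_DK.2 ⟨h.comm_iff.1 m.1, h.comm_iff.1 m.2⟩)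
  exact ⟨hw', by rw [qL_def e hw, qL_def _ hw']; exact k _ _ e1.symm⟩

theorem exists_om_w0 : ∃ u ∈ WW, om u (w0 k0) = 1 := by
  by_contra! n
  rcases perp_perp (fun u hu => (z2_cases _).resolve_right (n u hu)) with e | e | e | e
  · exact w0_ne_zero e
  all_goals refine Four.not_short (w := w0 k0) ⟨_, sqNorm_e8 none, rfl⟩ (e ▸ ?_)
  exacts [short_v0, short_s1, add_comm s1 v0 ▸ Om_s1.2]

theorem Emb.cent (h : Emb τ φ) {g : G} (k : ∀ w ∈ WW, Commute g (qL φ 0 w)) :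
    g = 1 ∨ g = φ (zL π) ∨ g = φ (aL π) ∨ g = φ (aL π) * φ (zL π) := by
  have ha : Commute g (φ (aL π)) := qL_a (φ := φ) ▸ k _ s1_mem
  have hz : Commute g (φ (zL π)) := by
    obtain ⟨u, hu, e⟩ := exists_om_w0
    have e1 := qL_conj (φ := φ) 0 0 hu w0_mem
    rw [e, ← qL_mul_z 0 w0_mem, ← inv_mul_eq_iff_eq_mul] at e1
    exact e1 ▸ (k _ w0_mem).inv_right.mul_right (((k _ hu).mul_right (k _ w0_mem)).mul_right (k _ hu).inv_right)
  obtain ⟨c, hc, h1, h2, h3⟩ := h.act_z ha hz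
  have h4 : ∀ w ∈ WW, qL φ 0 w = qL φ (0 + cε c w) (cact c w) := fun w hw => by
    rw [← (h3 0 w hw).2, (k w hw).eq, mul_inv_cancel_right]
  obtain ⟨e, u, rfl⟩ := mem_Q_of_W hc fun w hw =>
    Ev.symm ((h.qL_inj hw (h3 0 w hw).1 (h4 w hw)).imp_left And.right)
  have h5 : ∀ w ∈ WW, om w u = 0 := fun w hw => by
    have := h4 w hw
    rw [cact_q, cε_q, zero_add] at this
    exact (om_comm _ _).trans (h.sign_inj hw this).symm
  have hu : u ∈ WW := ⟨q_mem_CK_iff.1 hc, (om_comm _ _).trans (h5 _ s1_mem)⟩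
  have z0 : ∀ e, qL φ e 0 = 1 ∨ qL φ e 0 = φ (zL π) := fun e =>
    (z2_cases e).imp (fun k => by rw [k, qL_zero]) fun k => by rw [k, qL_z]
  have z1 : ∀ e, qL φ e s1 = φ (aL π) ∨ qL φ e s1 = φ (aL π) * φ (zL π) := fun e =>
    (z2_cases e).imp (fun k => by rw [k, qL_a]) fun k => by rw [k, ← qL_a, qL_mul_z 0 s1_mem, zero_add]
  have ev : ∀ e, ∀ w ∈ WW, ∃ e', qL φ e (v0 + w) = qL φ e' w := fun e w hw => ⟨e + bet v0 w, by
    rw [← one_mul (qL φ _ w), ← h.qL_t, qL_mul _ _ v0_mem hw, zero_add, add_assoc, z2_add_self, add_zero]⟩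
  have h6 : qL φ e u = 1 ∨ qL φ e u = φ (zL π) ∨ qL φ e u = φ (aL π) ∨ qL φ e u = φ (aL π) * φ (zL π) := by
    rcases perp_perp h5 with rfl | rfl | rfl | rfl
    · exact (z0 e).imp_right Or.inl
    · obtain ⟨e', k⟩ := ev e 0 (zero_mem _)
      rw [add_zero] at k
      exact k ▸ (z0 e').imp_right Or.inl
    · exact Or.inr (Or.inr (z1 e))
    · obtain ⟨e', k⟩ := ev e s1 s1_mem
      exact k ▸ Or.inr (Or.inr (z1 e'))
  have az : φ (zL π) * φ (aL π) = φ (aL π) * φ (zL π) := Emb.a_comm _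
  rcases h.eq_of_act (n := ιL π ⟨_, q_mem_DK.2 hu⟩) h2 with k | k <;> rw [← qL_def e hu] at k
  · exact k ▸ h6
  · rcases h6 with k' | k' | k' | k' <;> rw [k'] at k
    · exact Or.inr (Or.inr (Or.inl (k.trans (one_mul _))))
    · exact Or.inr (Or.inr (Or.inr (k.trans az)))
    · exact Or.inl (k.trans (Emb.a_sq φ))
    · exact Or.inr (Or.inl (by rw [k, mul_assoc, az, ← mul_assoc, Emb.a_sq, one_mul]))

end CfsgLib.StdB
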