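import Mathlib
import Cfsg.Agent.Lib.StdB.Fus

/-! STDB, package F2 (plans/STDB.md §F2). -/

set_option autoImplicit false

namespace CfsgLib.StdB

open Cfsg CfsgLib.Leech CfsgLib.Mon CfsgLib.DCX CfsgLib.StdM Subgroup

variable {M G : Type*} [Group M] [Group G] {π : C k0 →* M} {τ : M} {φ : LM π →* G}

theorem om_N {c : C k0} (c2 : c * c ∈ Q k0) (u u' : V24) : om (cact c u + u) (cact c u' + u') = 0 := by
  rw [om_add_left, om_add_right, om_add_right, om_cact, ← om_cact c u (cact c u'), ← cact_mul, mem_Q_iff_cact.1 c2]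
  generalize om u u' = a
  generalize om (cact c u) u' = b
  revert a b; decide

theorem N_add (c : C k0) (u v : V24) : cact c (u + v) + (u + v) = cact c u + u + (cact c v + v) := by
  rw [map_add]; abel

/-- the part of `A` on which the commutators with `c` are singular -/
noncomputable def sing {c : C k0} (c2 : c * c ∈ Q k0) : AddSubgroup V24 :=
  (AddMonoidHom.mk' (fun u => qf (cact c u + u)) fun u v => by rw [N_add, qf_add, om_N c2, add_zero]).ker

theorem mem_sing {c : C k0} {c2 : c * c ∈ Q k0} {u : V24} : u ∈ sing c2 ↔ qf (cact c u + u) = 0 := Iff.rfl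

theorem index_sing {c : C k0} (c2 : c * c ∈ Q k0) : (sing c2).index ≤ 2 := by
  rw [sing, AddSubgroup.index_ker]
  exact (AddSubgroup.card_le_card_addGroup _).trans (by simp)

theorem exists_three {A : AddSubgroup V24} (h : 8 < Nat.card A) : ∃ x ∈ A, ∃ y ∈ A, ∃ w ∈ A, ¬ Ev x 0 ∧ ¬ Ev y 0 ∧
    ¬ Ev w 0 ∧ ¬ Ev (x + y) 0 ∧ ¬ Ev (x + w) 0 ∧ ¬ Ev (y + w) 0 ∧ ¬ Ev (x + (y + w)) 0 := by
  classical
  have k : ∀ l : List V24, l.length ≤ 4 → ∃ x ∈ A, ∀ y ∈ l, ¬ Ev (y + x) 0 := fun l hl => by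
    by_contra! n
    have : (A : Set V24) ⊆ (l ++ l.map (· + v0)).toFinset := fun x hx => by
      obtain ⟨y, h1, h2⟩ := n x hx
      simp only [List.coe_toFinset, List.mem_append, List.mem_map, Set.mem_ofPred_eq]
      exact h2.imp (fun e => by rwa [← eq_of_add_eq_zero' (a := y) e]) fun e => ⟨y, h1, by rw [← zero_add v0, ← e, XP.add_add']⟩
    have := (Set.ncard_le_ncard this).trans ((Set.ncard_coe_finset _).le.trans (List.toFinset_card_le _))
    rw [List.length_append, List.length_map] at this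
    change Nat.card A ≤ _ at this
    omega
  obtain ⟨x, x1, x2⟩ := k [0] (by simp)
  obtain ⟨y, y1, y2⟩ := k [0, x] (by simp)
  obtain ⟨w, w1, w2⟩ := k [0, x, y, x + y] (by simp)
  simp only [List.mem_cons, List.not_mem_nil, or_false, forall_eq_or_imp, forall_eq, zero_add] at x2 y2 w2
  exact ⟨x, x1, y, y1, w, w1, x2, y2.1, w2.1, y2.2, w2.2.1, w2.2.2.1, add_assoc x y w ▸ w2.2.2.2⟩

theorem comm_of_inv {s x : G} (h1 : s * s = 1) (h2 : x * x = 1) (h3 : x * s * (x * s) = 1) : Commute x s := by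
  rw [Commute, SemiconjBy, ← inv_eq_of_mul_eq_one_right h3, mul_inv_rev, inv_eq_of_mul_eq_one_right h1,
    inv_eq_of_mul_eq_one_right h2]

theorem Emb.isConj_az (h : Emb τ φ) {s : G} (h1 : IsConj (φ (aL π)) s) (h2 : Commute s (φ (aL π)))
    (h3 : s ≠ φ (aL π)) : IsConj (φ (aL π)) (φ (aL π) * φ (zL π)) := by
  by_contra az
  have sq : ∀ {x}, IsConj (φ (aL π)) x → x * x = 1 := fun k => by
    obtain ⟨g, rfl⟩ := isConj_iff.1 k
    rw [conj_mul, Emb.a_sq, mul_one, mul_inv_cancel]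
  have only : ∀ {x}, x ∈ φ.range → IsConj (φ (aL π)) x → x = φ (aL π) := fun k1 k2 =>
    (h.cls k1 k2).resolve_right fun ⟨k, e⟩ => az (k2.trans (isConj_iff.2 ⟨_, e⟩).symm)
  have only' : ∀ {s x}, InL φ s x → IsConj (φ (aL π)) x → x = s := by
    rintro s x ⟨g, rfl, k1⟩ k2
    rw [← only k1 (k2.trans (isConj_iff.2 ⟨g⁻¹, by rw [inv_inv]⟩))]; group
  wlog hz : Commute s (φ (zL π)) generalizing s
  · obtain ⟨n, a1, a2, k⟩ := h.act_out h2 fun e => h3 (only e h1)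
    have hn : FusP.Nm π n := ⟨a1, Or.inr a2⟩
    have m := FusP.mem_of ((show Commute _ _ from a1).mul_left a1) (FusP.swap_mul a1 a2 a2)
    have c := h.mem_E (h.cen (φ ⟨_, m⟩) fun l => by
      have := act_mul hn k k l (⟨_, m⟩ * l * ⟨_, m⟩⁻¹) rfl
      rw [map_mul, map_mul, map_inv, sq h1] at this
      rw [← mul_inv_eq_iff_eq_mul, ← this]; simp)
    obtain ⟨l, c, -, e⟩ := h.conj_CK a1 a2 fun v => by
      obtain ⟨c1, c2⟩ := mem_cen2.1 v.2
      rcases c with e | e | e | e <;> rw [show n * n = _ from e]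
      exacts [by simp, c1.symm, c2.symm, ((show Commute _ _ from c1).mul_right c2).symm]
    have al : φ l * φ (aL π) * (φ l)⁻¹ = φ (aL π) := by rw [Emb.a_comm, mul_inv_cancel_right]
    refine this (h1.trans (isConj_iff.2 ⟨(φ l)⁻¹, by rw [inv_inv]⟩)) (comm_pull (al.symm ▸ h2))
      (fun e => h3 (by rw [← al, ← e]; group)) (comm_pull (mul_inv_eq_iff_eq_mul.1 ?_))
    rw [← map_inv, ← map_mul, ← map_mul]
    refine k _ _ ?_
    have : π c * π (z k0) * (π c)⁻¹ = π (z k0) := by rw [h.comm_iff.2 (z_comm c), mul_inv_cancel_right]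
    rw [coe_mul, coe_mul, coe_inv, coe_zL]
    nth_rw 1 [← this]
    rw [e]; group
  obtain ⟨c, hc, k1, -, k2⟩ := h.act_z h2 hz
  replace k1 := k1.resolve_left fun e => h3 (only e.2 h1)
  have s2 := sq h1
  have c2 : c * c ∈ Q k0 := mem_Q_of_W (mul_mem hc hc) fun w hw => by
    obtain ⟨a, b⟩ := k2 0 w hw
    obtain ⟨a', b'⟩ := k2 (0 + cε c w) _ a
    rw [← b, show s * (s * qL φ 0 w * s⁻¹) * s⁻¹ = s * s * qL φ 0 w * (s * s)⁻¹ by group, s2, one_mul, inv_one,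
      mul_one] at b'
    rw [cact_mul]
    exact (h.qL_inj a' hw b'.symm).imp_left And.right
  have NW : ∀ u ∈ WW, cact c u + u ∈ WW := fun u hu => add_mem (k2 0 u hu).1 hu
  have inv : ∀ e, ∀ u ∈ WW, (qL φ e u)⁻¹ = qL φ (e + qf u) u := fun e u hu => inv_eq_of_mul_eq_one_right (by
    rw [qL_mul _ _ hu hu, ww_add_self, ← add_assoc, z2_add_self, zero_add, qf, z2_add_self, qL_zero])
  have ζ : ∀ e, ∀ u ∈ WW, ∃ f, qL φ e u * s * (qL φ e u)⁻¹ * s⁻¹ = qL φ f (cact c u + u) := fun e u hu => ⟨_, by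
    rw [mul_assoc, mul_assoc, ← mul_assoc s, inv e u hu, (k2 _ u hu).2, qL_mul _ _ hu (k2 0 u hu).1, add_comm u]⟩
  have out : ∀ e, ∀ u ∈ WW, qf (cact c u + u) = 0 → ¬ Ev (cact c u + u) 0 →
      Commute (qL φ e u * s * (qL φ e u)⁻¹ * s⁻¹) s ∧ ¬ InL φ s (qL φ e u * s * (qL φ e u)⁻¹ * s⁻¹) :=
    fun e u hu h0 hn => by
    have t : IsConj (φ (aL π)) (qL φ e u * s * (qL φ e u)⁻¹ * s⁻¹ * s) :=
      h1.trans (isConj_iff.2 ⟨_, (inv_mul_cancel_right _ _).symm⟩)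
    obtain ⟨f, hf⟩ := ζ e u hu
    rw [hf] at t ⊢
    refine ⟨comm_of_inv s2 (by rw [qL_mul_self f (NW u hu), h0, qL_zero]) (sq t), fun k => hn ?_⟩
    have := only' (h.inL_mul k (Emb.inL_self h1)) t
    rw [mul_eq_right, ← qL_zero (φ := φ)] at this
    exact (h.qL_inj (NW u hu) (zero_mem _) this).imp_left And.right
  have key : ∀ u ∈ WW ⊓ sing c2, ∀ v ∈ WW ⊓ sing c2, ¬ Ev (cact c u + u) 0 → ¬ Ev (cact c v + v) 0 →
      ¬ Ev (cact c u + u + (cact c v + v)) 0 → om u (cact c v + v) = 1 := fun u hu v hv n1 n2 n3 => by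
    refine (z2_cases _).resolve_left fun e => ?_
    obtain ⟨a1, a2⟩ := out 0 u hu.1 hu.2 n1
    obtain ⟨b1, b2⟩ := out 0 v hv.1 hv.2 n2
    refine (out (0 + 0 + bet u v) _ (add_mem hu hv).1 (add_mem hu hv).2 (N_add c u v ▸ n3)).2 ?_
    have := h.inL_par h1 b1 a1 b2 a2
    obtain ⟨f, hf⟩ := ζ 0 v hv.1
    have e1 := qL_conj (φ := φ) 0 f hu.1 (NW v hv.1)
    rw [e, add_zero, ← hf] at e1
    rw [← e1] at this
    rw [← qL_mul 0 0 hu.1 hv.1]
    convert this using 1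
    group
  obtain ⟨e, w, rfl⟩ := mem_Q_of_rk c2 (U := WW ⊓ sing c2)
    (AddSubgroup.index_inf_le.trans (Nat.mul_le_mul (index_perp _ _) (index_sing c2))) (by
    by_contra! n
    obtain ⟨_, ⟨x, x1, rfl⟩, _, ⟨y, y1, rfl⟩, _, ⟨w, w1, rfl⟩, a1, a2, a3, a4, a5, a6, a7⟩ :=
      exists_three (lt_trans (by norm_num) n)
    have e1 := key x x1 _ (add_mem y1 w1) a1 (N_add c y w ▸ a6) (N_add c y w ▸ a7)
    rw [N_add, om_add_right, key x x1 y y1 a1 a2 a4, key x x1 w w1 a1 a3 a5] at e1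
    exact absurd e1 (by decide))
  rw [FusP.ta_eq, a_eq, conj_q, cact_q] at k1
  exact XP.v0_ne (right_eq_add.1 (q_inj k1).2)

end CfsgLib.StdB
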