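import Mathlib
import Cfsg.Agent.Lib.StdB.SDefs
import Cfsg.Agent.Lib.StdB.SLin
import Cfsg.Agent.Lib.StdB.F2

/-! STDB, package SOUT (plans/STDB-STD.md). -/

set_option autoImplicit false

namespace CfsgLib.StdB

open Cfsg CfsgLib.Leech CfsgLib.Mon CfsgLib.DCX CfsgLib.StdM Subgroup FusP
open CfsgLib.StdInt (Two cj mem_cj two_conj two_of_sq eq_one_of_odd_two odd_of_pow)

variable {M G : Type*} [Group M] [Group G] {π : C k0 →* M} {τ : M} {A : Subgroup G} {R : Subgroup (LM π × G)}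

namespace SO

/-- the classes whose 2-elements lie in `J` -/
noncomputable def wJ (h : Cov τ A R) (J : Subgroup G) (hz : xq R 1 0 ∈ J) : AddSubgroup V24 where
  carrier := {w | w ∈ WW ∧ ∀ e, xq R e w ∈ J}
  zero_mem' := ⟨zero_mem _, fun e => (z2_cases e).elim (fun k => k ▸ h.xq_zero ▸ one_mem J) (· ▸ hz)⟩
  add_mem' {v w} a b := ⟨add_mem a.1 b.1, fun e => by
    have := mul_mem (a.2 (e + bet v w)) (b.2 0)
    rwa [h.xq_mul _ _ a.1 b.1, add_zero, add_assoc, z2_add_self, add_zero] at this⟩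
  neg_mem' {v} a := by rwa [show -v = v from neg_eq_of_add_eq_zero_left (ww_add_self v)]

theorem mem_wJ (h : Cov τ A R) {J : Subgroup G} {hz : xq R 1 0 ∈ J} {w : V24} {f : ZMod 2} (hw : w ∈ WW) :
    w ∈ wJ h J hz ↔ xq R f w ∈ J := ⟨fun k => k.2 f, fun k => ⟨hw, fun e => by
  rcases (by decide : ∀ e f : ZMod 2, e = f ∨ e = f + 1) e f with rfl | rfl
  exacts [k, h.xq_mul_z f hw ▸ mul_mem k hz]⟩⟩

theorem mem_LM {n l : M} (hn : ∀ x, InE π x → InE π (n⁻¹ * x * n)) (hl : l ∈ LM π) : n * l * n⁻¹ ∈ LM π := by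
  obtain ⟨h1, h2⟩ := mem_cen2.1 hl
  have k : ∀ x, InE π x → Commute (n * l * n⁻¹) x := fun x hx => by
    have : Commute l (n⁻¹ * x * n) := by
      rcases hn x hx with e | e | e | e <;> rw [e]
      exacts [Commute.one_right _, h1, h2, (show Commute _ _ from h1).mul_right h2]
    simpa [mul_assoc] using this.map (MulAut.conj n)
  exact mem_cen2.2 ⟨k _ (Or.inr (Or.inl rfl)), k _ (Or.inr (Or.inr (Or.inl rfl)))⟩

theorem mem_of_inE {x : M} (h : InE π x) : x ∈ LM π := by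
  have tm : π tK ∈ LM π := mem_cen2.2 ⟨rfl, (mem_cen2.1 (aL π).2).1.symm⟩
  rcases h with rfl | rfl | rfl | rfl
  exacts [one_mem _, tm, (aL π).2, mul_mem tm (aL π).2]

theorem w3_inj : Function.Injective MonS.w3 := fun i j e => by
  have := Mon.Cov.tK_facts
  fin_cases i <;> fin_cases j <;> simp_all [MonS.w3]

theorem inE_inv [Finite M] {n : M} (hn : ∀ x, InE π x → InE π (n * x * n⁻¹)) (x : M) (hx : InE π x) :
    InE π (n⁻¹ * x * n) := by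
  obtain ⟨k, hk⟩ := (isOfFinOrder_of_finite n).mem_powers_iff_mem_zpowers.2 (inv_mem (mem_zpowers n))
  have : ∀ k : ℕ, InE π (n ^ k * x * (n ^ k)⁻¹) := fun k => by
    induction k with
    | zero => simpa using hx
    | succ k ih => convert hn _ ih using 1; rw [pow_succ']; group
  have := this k
  rwa [show n ^ k = n⁻¹ from hk, inv_inv] at this

theorem twist (h : Cov τ A R) (h1 : ∀ l, (l, 1) ∈ R → l = 1) {m : M} (hm : ∀ x, InE π x → InE π (m * x * m⁻¹)) :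
    ∃ R' : Subgroup (LM π × G), Cov τ A R' ∧ ∀ n s, Ac R n s → Ac R' (m * n * m⁻¹) s := by
  have := h.finite
  have hm' := inE_inv hm
  let γ : LM π →* LM π := ((MulAut.conj m⁻¹).toMonoidHom.comp (LM π).subtype).codRestrict _ fun l =>
    mem_LM (by simpa using hm) l.2
  have g1 : ∀ l, (γ l).1 = m⁻¹ * l.1 * m := fun l => by simp [γ]
  have g2 : ∀ l, ∃ l', γ l' = l := fun l => ⟨⟨_, mem_LM hm' l.2⟩, Subtype.ext (by rw [g1]; group)⟩
  have k : ∀ n s, Ac R n s → Ac (R.comap (γ.prodMap (MonoidHom.id G))) (m * n * m⁻¹) s := fun n s k l l' x e =>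
    k (γ l) (γ l') x (by rw [g1, g1, e]; group)
  exact ⟨R.comap (γ.prodMap (MonoidHom.id G)), { h with
    mem := h.mem
    ex1 := fun l => h.ex1 (γ l)
    ex2 := fun x hx => let ⟨l, a⟩ := h.ex2 x hx; let ⟨l', b⟩ := g2 l; ⟨l', show (γ l', x) ∈ R from b ▸ a⟩
    odd := fun {x} a => h.odd (map_one γ ▸ (show (γ 1, x) ∈ R from a))
    cen := fun {l x} a => (h.cen a).trans ⟨fun b => by simpa [g1, mul_assoc] using hm _ b, fun b => g1 l ▸ hm' _ b⟩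
    ker := fun {l} a => Or.inl (by simpa [g1, mul_assoc] using congrArg (fun x : LM π => m * x.1 * m⁻¹) (h1 _ a))
    act := fun g hg => let ⟨n, a, b⟩ := h.act g hg
      ⟨_, fun x hx => by convert hm _ (a _ (hm' x hx)) using 1; group, k n g b⟩ }, k⟩

theorem out0 (h : Cov τ A R) {s : G} (s2 : s * s = 1) {c : C k0} (hc : c ∈ CK)
    (n2 : π c * π tK1 * (π c)⁻¹ = π tK * π tK1) (k : Ac R (π c) s) {J : Subgroup G}
    (par : ∀ x y, Commute x s → Commute y s → x ∉ J → y ∉ J → x * y ∈ J) :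
    ∃ r ∈ A, Commute (r * r) s ∧ Commute (r * s * r⁻¹) s ∧ r * s * r⁻¹ * s⁻¹ ∈ J ∧ r * s * r⁻¹ ≠ s := by
  by_contra! n
  have k2 := fun e w => h.act_xq (w := w) ⟨h.comm_iff.2 (mem_CK.1 hc), Or.inr n2⟩ k e
  have c2 : c * c ∈ Q k0 := mem_Q_of_W (mul_mem hc hc) fun w hw => by
    obtain ⟨a, b⟩ := k2 0 w hw
    obtain ⟨a', b'⟩ := k2 (0 + cε c w) _ a
    rw [← b, show s * (s * xq R 0 w * s⁻¹) * s⁻¹ = s * s * xq R 0 w * (s * s)⁻¹ by group, s2, one_mul, inv_one,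
      mul_one] at b'
    rw [cact_mul]
    exact h.xq_ev a' hw b'.symm
  have NW : ∀ u ∈ WW, cact c u + u ∈ WW := fun u hu => add_mem (k2 0 u hu).1 hu
  have inv : ∀ e, ∀ u ∈ WW, (xq R e u)⁻¹ = xq R (e + qf u) u := fun e u hu => inv_eq_of_mul_eq_one_right (by
    rw [h.xq_mul _ _ hu hu, ww_add_self, ← add_assoc, z2_add_self, zero_add, qf, z2_add_self, h.xq_zero])
  have ζ : ∀ e, ∀ u ∈ WW, ∃ f, xq R e u * s * (xq R e u)⁻¹ * s⁻¹ = xq R f (cact c u + u) := fun e u hu => ⟨_, by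
    rw [mul_assoc, mul_assoc, ← mul_assoc s, inv e u hu, (k2 _ u hu).2, h.xq_mul _ _ hu (k2 0 u hu).1, add_comm u]⟩
  have out : ∀ e, ∀ u ∈ WW, qf (cact c u + u) = 0 → ¬ Ev (cact c u + u) 0 →
      Commute (xq R e u * s * (xq R e u)⁻¹ * s⁻¹) s ∧ xq R e u * s * (xq R e u)⁻¹ * s⁻¹ ∉ J :=
    fun e u hu h0 hn => by
    obtain ⟨f, hf⟩ := ζ e u hu
    have c1 : Commute (xq R e u * s * (xq R e u)⁻¹ * s⁻¹) s := comm_of_inv s2
      (by rw [hf, h.xq_mul_self f (NW u hu), h0, h.xq_zero])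
      (by rw [inv_mul_cancel_right, conj_mul, s2, mul_one, mul_inv_cancel])
    refine ⟨c1, fun j => hn (h.xq_ev (e := f) (e' := 0) (NW u hu) (zero_mem _) ?_)⟩
    have c3 := (k2 (qf u) 0 (zero_mem _)).2
    rw [cε_zero, add_zero, map_zero, ← h.xq_mul_self e hu] at c3
    rw [← hf, n _ (h.xq_mem e hu) (mul_inv_eq_iff_eq_mul.1 c3).symm
      (by simpa only [inv_mul_cancel_right] using c1.mul_left (Commute.refl s)) j, mul_inv_cancel, h.xq_zero]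
  have key : ∀ u ∈ WW ⊓ sing c2, ∀ v ∈ WW ⊓ sing c2, ¬ Ev (cact c u + u) 0 → ¬ Ev (cact c v + v) 0 →
      ¬ Ev (cact c u + u + (cact c v + v)) 0 → om u (cact c v + v) = 1 := fun u hu v hv n1 n2 n3 => by
    refine (z2_cases _).resolve_left fun e => ?_
    obtain ⟨a1, a2⟩ := out 0 u hu.1 hu.2 n1
    obtain ⟨b1, b2⟩ := out 0 v hv.1 hv.2 n2
    refine (out (0 + 0 + bet u v) _ (add_mem hu hv).1 (add_mem hu hv).2 (N_add c u v ▸ n3)).2 ?_
    have := par _ _ b1 a1 b2 a2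
    obtain ⟨f, hf⟩ := ζ 0 v hv.1
    have e1 := h.xq_conj 0 f hu.1 (NW v hv.1)
    rw [e, add_zero, ← hf] at e1
    rw [← e1] at this
    rw [← h.xq_mul 0 0 hu.1 hv.1]
    convert this using 1
    group
  obtain ⟨e, w, rfl⟩ := mem_Q_of_rk c2 (U := WW ⊓ sing c2)
    (AddSubgroup.index_inf_le.trans (Nat.mul_le_mul (index_perp _ _) (index_sing c2))) (by
    by_contra! n
    obtain ⟨_, ⟨x, x1, rfl⟩, _, ⟨y, y1, rfl⟩, _, ⟨w, w1, rfl⟩, a1, a2, a3, a4, a5, a6, a7⟩ :=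
      exists_three (lt_trans (by norm_num) n)
    have e1 := key x x1 _ (add_mem y1 w1) a1 (N_add c y w ▸ a6) (N_add c y w ▸ a7)
    rw [N_add, om_add_right, key x x1 y y1 a1 a2 a4, key x x1 w w1 a1 a3 a5] at e1
    exact absurd e1 (by decide))
  rw [← map_inv, ← map_mul, ← map_mul, ← map_mul, h.inj.eq_iff, FusP.ta_eq, a_eq, conj_q, cact_q] at n2
  exact XP.v0_ne (right_eq_add.1 (q_inj n2).2)

end SO

open SO

theorem Cov.iso (h : Cov τ A R) {s : G} (hs : Zc A R s) {J1 J2 J3 : Subgroup G} (h3 : s ∈ J3) (h32 : J3 ≤ J2)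
    (h21 : J2 ≤ J1) (p1 : ∀ x ∈ A, ∀ y ∈ A, Commute x s → Commute y s → x ∉ J1 → y ∉ J1 → x * y ∈ J1)
    (p2 : ∀ x ∈ A, ∀ y ∈ A, x ∈ J1 → y ∈ J1 → x ∉ J2 → y ∉ J2 → x * y ∈ J2)
    (p3 : ∀ x ∈ J2, ∀ y ∈ J2, x ∉ J3 → y ∉ J3 → x * y ∈ J3) :
    ∃ u ∈ J3, ∃ v ∈ J3, u * u = 1 ∧ v * v = 1 ∧ u * v * (u * v) = s := by
  obtain ⟨g, hg, rfl⟩ := hs
  let φ := (MulAut.conj g).toMonoidHom
  have m : ∀ {w}, w ∈ WW → φ (xq R 0 w) ∈ A := fun hw => mul_mem (mul_mem hg (h.xq_mem 0 hw)) (inv_mem hg)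
  have z3 : xq R 1 0 ∈ J3.comap φ := h3
  have z2 : xq R 1 0 ∈ J2.comap φ := h32 h3
  have z1 : xq R 1 0 ∈ J1.comap φ := h21 (h32 h3)
  have key : ∀ {J : Subgroup G} (z : xq R 1 0 ∈ J.comap φ) {W : AddSubgroup V24}, wJ h _ z ≤ W → W ≤ WW →
      (∀ x ∈ W, ∀ y ∈ W, φ (xq R 0 x) ∉ J → φ (xq R 0 y) ∉ J → φ (xq R 0 x) * φ (xq R 0 y) ∈ J) →
      (wJ h _ z).index ≤ 2 * W.index := fun z W a b c => by
    have := index_le_two_mul (U := wJ h _ z) (W := W) fun x hx y hy x1 y1 => by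
      rw [mem_wJ h (add_mem (b hx) (b hy)), ← h.xq_mul 0 0 (b hx) (b hy), mem_comap, map_mul]
      exact c x hx y hy (fun k => x1 ((mem_wJ h (b hx)).2 k)) fun k => y1 ((mem_wJ h (b hy)).2 k)
    rwa [inf_eq_left.2 a] at this
  have i1 := key z1 (fun _ a => a.1) le_rfl fun x hx y hy =>
    p1 _ (m hx) _ (m hy) ((h.xq_comm_z 0 hx).map φ) ((h.xq_comm_z 0 hy).map φ)
  have i2 := key z2 (W := wJ h _ z1) (fun _ a => ⟨a.1, fun e => h21 (a.2 e)⟩) (fun _ a => a.1) fun x hx y hy =>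
    p2 _ (m hx.1) _ (m hy.1) (hx.2 0) (hy.2 0)
  have i3 := key z3 (W := wJ h _ z2) (fun _ a => ⟨a.1, fun e => h32 (a.2 e)⟩) (fun _ a => a.1) fun x hx y hy =>
    p3 _ (hx.2 0) _ (hy.2 0)
  have i0 : WW.index ≤ 4 := index_perp _ _
  obtain ⟨u, hu, v, hv, a, b, c⟩ := exists_hyp (U := wJ h _ z3) (by omega)
  refine ⟨_, hu.2 0, _, hv.2 0, ?_, ?_, ?_⟩
  · rw [← map_mul, h.xq_mul_self 0 hu.1, a, h.xq_zero, map_one]
  · rw [← map_mul, h.xq_mul_self 0 hv.1, b, h.xq_zero, map_one]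
  · rw [← map_mul, ← map_mul, h.xq_mul 0 0 hu.1 hv.1, h.xq_mul_self _ (add_mem hu.1 hv.1), qf_add, a, b, c, zero_add,
      zero_add]
    rfl

theorem Cov.out (h : Cov τ A R) {s : G} (hs : s ∈ normalizer (A : Set G)) (s2 : s * s = 1) {n : M}
    (n1 : n * π tK = π tK * n) (n2 : n * π tK1 * n⁻¹ = π tK * π tK1) (k : Ac R n s) {J : Subgroup G}
    (par : ∀ x y, Commute x s → Commute y s → x ∉ J → y ∉ J → x * y ∈ J) :
    ∃ r ∈ A, Commute (r * r) s ∧ Commute (r * s * r⁻¹) s ∧ r * s * r⁻¹ * s⁻¹ ∈ J ∧ r * s * r⁻¹ ≠ s := by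
  have hn : Nm π n := ⟨n1, Or.inr n2⟩
  have m := mem_of ((show Commute _ _ from n1).mul_left n1) (swap_mul n1 n2 n2)
  obtain ⟨x, hx⟩ := h.ex1 ⟨_, m⟩
  have e := h.inn (n := ⟨_, m⟩) (mul_mem hs hs) (k.mul (fun l => hn.mem) k) hx
  rw [s2, mul_one, inv_mem_iff, h.cen hx] at e
  obtain ⟨l, c, hc, e⟩ := h.conj_CK n1 n2 fun v => by
    obtain ⟨c1, c2⟩ := mem_cen2.1 v.2
    rcases e with e | e | e | e <;> rw [show n * n = _ from e]
    exacts [by simp, c1.symm, c2.symm, ((show Commute _ _ from c1).mul_right c2).symm]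
  obtain ⟨y, hy⟩ := h.ex1 l
  have cm : ∀ (k : LM π), ∀ v ∈ LM π, k.1 * v * k.1⁻¹ ∈ LM π := fun k v hv => mul_mem (mul_mem k.2 hv) (inv_mem k.2)
  let φ := (MulAut.conj y).toMonoidHom
  have es : φ (y⁻¹ * s * y) = s := by simp [φ, mul_assoc]
  obtain ⟨r, r1, r2, r3, r4, r5⟩ := out0 h (s := y⁻¹ * s * y) (J := J.comap φ)
    (by rw [← inv_inv y, inv_inv y⁻¹, conj_mul, s2, mul_one, mul_inv_cancel]) hc
    (by
      have := conj_a l⁻¹
      rw [e, mul_assoc _ l.1, show l.1 * π tK1 = _ from (mem_cen2.1 l.2).2]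
      calc _ = l.1⁻¹ * (n * π tK1 * n⁻¹) * l.1⁻¹⁻¹ := by group
        _ = _ := by rw [n2, ← conj_mul]; exact congrArg₂ _ (conj_t l⁻¹) (conj_a l⁻¹))
    (e ▸ ((ac_of_mem (inv hy)).mul (fun l => hn.mem) k).mul (cm l) (ac_of_mem hy))
    fun a b a1 b1 a2 b2 => by
      rw [mem_comap, map_mul]
      exact par _ _ (es ▸ a1.map φ) (es ▸ b1.map φ) a2 b2
  refine ⟨φ r, mul_mem (mul_mem (h.mem hy) r1) (inv_mem (h.mem hy)), ?_, ?_, ?_, fun e => r5 ((MulAut.conj y).injective ?_)⟩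
  · simpa only [map_mul, es] using r2.map φ
  · rw [← es, ← map_inv, ← map_mul, ← map_mul]; exact r3.map φ
  · rw [← es, ← map_inv, ← map_inv, ← map_mul, ← map_mul, ← map_mul]; exact r4
  · change φ _ = φ _
    rwa [map_mul φ _ r⁻¹, map_mul φ r, es, map_inv]

theorem Cov.out4 (h : Cov τ A R) (h1 : ∀ l, (l, 1) ∈ R → l = 1) {s : G} (hs : s ∈ normalizer (A : Set G))
    (s2 : s * s = 1) (h0 : s ∉ A ⊔ centralizer (A : Set G)) {J : Subgroup G}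
    (par : ∀ x y, Commute x s → Commute y s → x ∉ J → y ∉ J → x * y ∈ J) :
    ∃ r ∈ A, Commute (r * r) s ∧ Commute (r * s * r⁻¹) s ∧ r * s * r⁻¹ * s⁻¹ ∈ J ∧ r * s * r⁻¹ ≠ s := by
  have := h.finite
  obtain ⟨n, hn, k⟩ := h.act s hs
  have k2 := k.mul (fun l => mem_LM (inE_inv hn)) k
  have ew : ∀ x, InE π x ↔ x = 1 ∨ ∃ i, x = π (MonS.w3 i) := fun x => by
    rw [Fin.exists_fin_succ, Fin.exists_fin_two, InE, ← map_mul]
    change _ ↔ _ ∨ x = π (tK * tK1) ∨ x = π tK1 ∨ x = π tK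
    tauto
  have n1 : ∀ i, π (MonS.w3 i) ≠ 1 := fun i e => by
    obtain ⟨c, hc⟩ := MonS.conj_w3 (Equiv.swap i 2)
    exact Mon.Cov.tK_facts.1 (show MonS.w3 2 = 1 by simpa [(map_eq_one_iff π h.inj).1 e] using (hc i).symm)
  choose f hf using fun i => ((ew _).1 (hn _ ((ew _).2 (Or.inr ⟨i, rfl⟩)))).resolve_left fun e =>
    n1 i (by simpa using e)
  have ff : ∀ i, f (f i) = i := fun i => w3_inj (h.inj (by
    have m : ∀ i, π (MonS.w3 i) ∈ LM π := fun i => mem_of_inE ((ew _).2 (Or.inr ⟨i, rfl⟩))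
    obtain ⟨x, hx⟩ := h.ex1 ⟨_, m i⟩
    have := k2 _ ⟨_, m (f (f i))⟩ x ((hf _).symm.trans (by rw [← hf]; group)) hx
    rw [s2, one_mul, inv_one, mul_one] at this
    exact mul_inv_eq_one.1 (congrArg Subtype.val (h1 _ (mul_inv_cancel x ▸ mul this (inv hx))))))
  have nf : ¬ (f 1 = 1 ∧ f 2 = 2) := fun ⟨a, b⟩ => by
    have m := mem_of (π := π) (mul_inv_eq_iff_eq_mul.1 (b ▸ hf 2 :)) (a ▸ hf 1 :)
    obtain ⟨x, hx⟩ := h.ex1 ⟨n, m⟩
    exact h0 (mul_inv_cancel_left x s ▸ mul_mem (mem_sup_left (h.mem hx)) (mem_sup_right (h.inn hs k hx)))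
  obtain ⟨σ, a, b⟩ := (by decide : ∀ f : Fin 3 → Fin 3, (∀ i, f (f i) = i) → ¬ (f 1 = 1 ∧ f 2 = 2) →
    ∃ σ : Equiv.Perm (Fin 3), σ (f (σ.symm 2)) = 2 ∧ σ (f (σ.symm 1)) = 0) f ff nf
  obtain ⟨c, hc⟩ := MonS.conj_w3 σ
  have hc' : ∀ i, π c * π (MonS.w3 i) * (π c)⁻¹ = π (MonS.w3 (σ i)) := fun i => by
    rw [← map_inv, ← map_mul, ← map_mul, hc]
  obtain ⟨R', h', k'⟩ := twist h h1 (m := π c) fun x hx => (ew _).2 (((ew _).1 hx).imp (fun e => by simp [e])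
    fun ⟨i, e⟩ => ⟨σ i, e ▸ hc' i⟩)
  have e : ∀ i, π c * n * (π c)⁻¹ * π (MonS.w3 i) * (π c * n * (π c)⁻¹)⁻¹ = π (MonS.w3 (σ (f (σ.symm i)))) := fun i => by
    rw [← hc', ← hf]
    nth_rw 1 [← σ.apply_symm_apply i]
    rw [← hc']; group
  exact h'.out hs s2 (mul_inv_eq_iff_eq_mul.1 (a ▸ e 2 :)) ((e 1).trans (b ▸ map_mul π _ _)) (k' n s k) par

end CfsgLib.StdB
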