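import Mathlib
import Cfsg.Agent.Lib.StdB.Defs
import Cfsg.Agent.Lib.StdM.PW

/-! STDB, package SPAN (plans/STDB.md §SPAN). -/

set_option autoImplicit false

namespace CfsgLib.StdB

open Cfsg CfsgLib.Leech CfsgLib.Mon CfsgLib.DCX CfsgLib.StdM Subgroup

theorem Om_of_dot {u : leechLattice} (h1 : sqNorm u.1 = 32) (h2 : dotInt u.1 (dlL none (some 0)).1 = 16) :
    Om (k0.φ u) :=
  ⟨⟨u, h1, rfl⟩, u - dlL none (some 0), by rw [AddSubgroup.coe_sub, sqNorm_sub, h1, h2, sqNorm_tK]; rfl,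
    MonRec.φ_sub _ _⟩

theorem s1_vb : s1 = vb 0x477000 := φ_dl (i := 23) (j := 1) (by norm_num) (by norm_num)

namespace SpanP

/-- `x` is a lattice vector with code `m` -/
def Cd (x : GolayPt → ℤ) (m : ℕ) : Prop :=
  chk x = true ∧ ∀ j < 24, dotInt x (bcN j) / 8 % 2 = (m.testBit j).toNat

instance (x : GolayPt → ℤ) (m : ℕ) : Decidable (Cd x m) := inferInstanceAs (Decidable (_ ∧ _))

theorem Om_vb {x : GolayPt → ℤ} {m : ℕ} (h : Cd x m ∧ sqNorm x = 32 ∧ dotInt x (dlL none (some 0)).1 = 16) :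
    Om (vb m) := φ_eq_vb (v := ⟨x, mem_of_chk h.1.1⟩) h.1.2 ▸ Om_of_dot h.2.1 h.2.2

/-- an octad vector -/
def oc (p : ℕ) : GolayPt → ℤ := fun i =>
  if p.testBit (24 + Golay.ix i) then -2 else if p.testBit (Golay.ix i) then 2 else 0

/-- octads with signs -/
def PL : List ℕ := [0x38ea003, 0x20018ea003, 0x80018ea003, 0xa0038ea003, 0x200018ea003, 0x400018ea003, 0x800018ea003,
  0x3e0900b, 0x9e0900b, 0x1001e0900b, 0x200001e0900b, 0x3c12017, 0x5c12017, 0x11c12017, 0x382402f, 0x3d40063,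
  0x41d40063, 0x3907083, 0x3b30103, 0x3821253, 0x3a44413]

/-- their codes -/
def CL : List ℕ := [0x723003, 0x61f003, 0x2e7003, 0xbdb003, 0x598003, 0x6cc003, 0x4fb003, 0x69300b, 0x69900b, 0x20e00b,
  0x1f900b, 0x40b017, 0x40d017, 0x419017, 0x1fd02f, 0x6b9063, 0x6fb063, 0x26b083, 0x1ed103, 0x78d253, 0x2fd413]

/-- the projections of the basis vectors in terms of the codes -/
def ML : List ℕ := [0x0, 0x1b195, 0x0, 0xf3, 0x17a3, 0x1d947, 0xf6a6, 0x20075, 0x434f3, 0x8ca20, 0x11bb60, 0x0, 0x3494,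
  0x18547, 0x19d47, 0x184c7, 0x1ad47, 0x1ae12, 0x547, 0x19f1, 0x1ad6, 0x2fa1, 0x19b22, 0xf]

/-- a sum of codes -/
def xs (m : ℕ) : ℕ → ℕ
  | 0 => 0
  | n + 1 => xs m n ^^^ if m.testBit n then CL.getD n 0 else 0

theorem xs_mem {A : AddSubgroup V24} (m : ℕ) {n : ℕ} (h : ∀ j < n, vb (CL.getD j 0) ∈ A) : vb (xs m n) ∈ A := by
  have h0 : vb 0 ∈ A := vb_shift 0 ▸ zero_mem A
  induction n with
  | zero => exact h0
  | succ n ih =>
    rw [xs, vb_xor]
    refine add_mem (ih fun j hj => h j (by omega)) ?_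
    split_ifs
    exacts [h n (by omega), h0]

end SpanP

open SpanP

theorem wit_odd : ∃ u ∈ WW, Om u ∧ om u (w0 k0) = 1 :=
  ⟨lam k0 (some 0), ⟨by rw [lam, k0.om_φ]; decide +kernel, by rw [lam, k0.om_φ]; decide +kernel⟩,
    Om_of_dot (sqNorm_lamL _) (by decide +kernel), om_lam_w0 _⟩

theorem wit_out : ∃ u, Om u ∧ om u s1 = 1 :=
  ⟨vb 0x49e001, Om_vb (x := vec [-2, 0, 0, 0, 0, 0, 0, 0, 0, 0, 0, 0, -2, 0, 2, 0, 2, 2, 2, 0, 0, 0, 2, 2])
    (by decide +kernel), by rw [s1_vb]; decide +kernel⟩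

theorem wit_m : ∃ m ∈ WW, om m (w0 k0) = 0 ∧ qf m = 1 :=
  ⟨vb 0x1003, ⟨by rw [v0_vb]; decide +kernel, by rw [s1_vb]; decide +kernel⟩, by rw [w0_vb]; decide +kernel,
    by decide +kernel⟩

theorem span_U {A : AddSubgroup V24} (h : ∀ u ∈ WW, Om u → om u (w0 k0) = 0 → u ∈ A) {w : V24} (h1 : w ∈ WW)
    (h2 : om w (w0 k0) = 0) : w ∈ A := by
  have k0 : ∀ j < 21, vb (CL.getD j 0) ∈ A := fun j hj => h _
    ⟨by rw [v0_vb]; revert j; decide +kernel, by rw [s1_vb]; revert j; decide +kernel⟩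
    (Om_vb (x := oc (PL.getD j 0)) (by revert j; decide +kernel)) (by rw [w0_vb]; revert j; decide +kernel)
  let p : V24 → V24 := fun v => v + om v v0 • vb 5 + om v s1 • vb 1 + om v (w0 Mon.k0) • vb 2048
  have k1 : ∀ j < 24, p (vb (2 ^ j)) ∈ A := fun j hj => by
    convert xs_mem (ML.getD j 0) k0
    simp only [p, v0_vb, s1_vb, w0_vb]
    revert j; decide +kernel
  have k2 : ∀ v w, p v ∈ A → p w ∈ A → p (v + w) ∈ A := fun v w a b => by
    convert add_mem a b using 1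
    simp only [p, om_add_left, add_smul]; abel
  have : p w ∈ A := ww_induction (p := fun v => p v ∈ A) (by simp [p])
    (fun v i a => k2 _ _ a ((q_inj (qN_X i)).2 ▸ k1 i (by omega)))
    (fun v i a => k2 _ _ a ((q_inj (qN_Z i)).2 ▸ k1 (12 + i) (by omega))) w
  simpa [p, h1.1, h1.2, h2] using this

theorem span_W {A : AddSubgroup V24} (h : ∀ u ∈ WW, Om u → u ∈ A) {w : V24} (h1 : w ∈ WW) : w ∈ A := by
  obtain ⟨u, u1, u2, u3⟩ := wit_odd
  rcases z2_cases (om w (w0 k0)) with e | e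
  · exact span_U (fun u a b _ => h u a b) h1 e
  · exact (add_mem_cancel_right (h u u1 u2)).1 (span_U (fun u a b _ => h u a b) (add_mem h1 u1)
      (by rw [om_add_left, e, u3, z2_add_self]))

theorem span_P {A : AddSubgroup V24} (h : ∀ u, Om u → u ∈ A) {w : V24} (h1 : om w v0 = 0) : w ∈ A := by
  obtain ⟨u, u1, u2⟩ := wit_out
  rcases z2_cases (om w s1) with e | e
  · exact span_W (fun u _ b => h u b) ⟨h1, e⟩
  · exact (add_mem_cancel_right (h u u1)).1 (span_W (fun u _ b => h u b)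
      ⟨om_add0 h1 u1.perp, by rw [om_add_left, e, u2, z2_add_self]⟩)

theorem perp3 {m : V24} (h : ∀ u ∈ WW, om u (w0 k0) = 0 → om u m = 0) :
    Ev m 0 ∨ Ev m s1 ∨ Ev m (w0 k0) ∨ Ev m (s1 + w0 k0) := by
  obtain ⟨u, u1, -, u3⟩ := wit_odd
  have key : ∀ m, (∀ u ∈ WW, om u (w0 k0) = 0 → om u m = 0) → om u m = 0 → Ev m 0 ∨ Ev m s1 := fun m h e => by
    rcases perp_perp (u := v0) (w := s1) (x := m) fun y hy => by
      rcases z2_cases (om y (w0 k0)) with k | k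
      · exact h y hy k
      · have := h _ (add_mem hy u1) (by rw [om_add_left, k, u3, z2_add_self])
        rwa [om_add_left, e, add_zero] at this with k | k | k | k
    exacts [Or.inl (Or.inl k), Or.inl (Or.inr (k.trans (zero_add _).symm)), Or.inr (Or.inl k),
      Or.inr (Or.inr (k.trans (add_comm _ _)))]
  rcases z2_cases (om u m) with e | e
  · exact (key m h e).imp_right Or.inl
  · refine Or.inr (Or.inr ((key (m + w0 k0) (fun y a b => by rw [om_add_right, h y a b, b, add_zero])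
      (by rw [om_add_right, e, u3, z2_add_self])).imp (fun k => ?_) fun k => ?_))
    · simpa [XP.add_add] using k.add (Ev.refl (w0 k0))
    · simpa [XP.add_add] using k.add (Ev.refl (w0 k0))

theorem exists_y : ∃ (y : C k0) (u : V24), y ∈ CK ∧ cact y s1 = s1 + w0 k0 ∧ cact y (w0 k0) = w0 k0 ∧
    om u v0 = 0 ∧ (y, q k0 0 u) ∈ Gam k0 := by
  have hd : IsCW (Golay.ofMask 0x49f002) := isCW_ofMask (by decide +kernel)
  obtain ⟨Y, hY⟩ := std_k0.exists_Y 0 hd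
  have e : om (xv k0 (Golay.ofMask 0x49f002)) v0 = 0 := by
    rw [v0, φ_dlL, om_add_right, om_xv_lam hd, om_xv_lam hd]
    simp only [Golay.mem_ofMask]
    decide +kernel
  refine ⟨mk k0 Y, _, (Mult.gam_CK (gam_Y hY)).2 (q_mem_CK_iff.2 e), ?_, ?_, e, mk_xq (κ := k0) 0 _ ▸ gam_Y hY⟩
  · rw [cact_mk, hY.g_eq, s1, k0.act_φ, ← φ_e8 (some 1), ← map_add]
    refine congrArg _ (Subtype.ext (funext fun i => ?_))
    rw [sgnAut_smul_apply, AddSubgroup.coe_add, Pi.add_apply, dlL_apply, coe_e8, Pi.single_apply]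
    simp only [Golay.mem_ofMask]
    revert i; decide +kernel
  · rw [cact_mk]; exact act_w0_iff.2 hY.mono

theorem wit_x : ∃ u, ∃ c ∈ DK, Om u ∧ om u (s1 + w0 k0) = 0 ∧ om u s1 = 1 ∧
    om (cact c (u + (s1 + w0 k0))) (s1 + w0 k0) = 0 ∧ ¬ Om (cact c (u + (s1 + w0 k0)) + (s1 + w0 k0)) := by
  refine ⟨vb 0x154816, cT, cT_mem_DD, Om_vb (x := vec [-3, -1, -1, 1, -1, 1, 1, 1, 1, 1, 1, 1, -1, -1, -1, 1, 1, -1, -1,
    1, 1, 1, 1, 1]) (by decide +kernel), ?_⟩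
  rw [s1_vb, w0_vb, ← vb_xor, ← vb_xor, sm_cT.cact]
  refine ⟨by decide +kernel, by decide +kernel, by decide +kernel, fun h => Four.not_short ⟨⟨vec [-3, -5, -3, -1, 1, -1,
    1, 1, -1, 1, 1, -1, 1, -1, 1, -1, -1, -1, -1, -1, 1, 1, -1, 1], mem_of_chk (by decide +kernel)⟩,
    by decide +kernel, ?_⟩ h.1⟩
  rw [← vb_xor]
  exact φ_eq_vb (by decide +kernel)

end CfsgLib.StdB
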