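import Mathlib
import Cfsg.Agent.Lib.StdB.Fus
import Cfsg.Agent.Lib.StdB.Span

/-! STDB, package QQ (plans/STDB.md §QQ). -/

set_option autoImplicit false

namespace CfsgLib.StdB

open Cfsg CfsgLib.Leech CfsgLib.Mon CfsgLib.DCX CfsgLib.StdM Subgroup

variable {M G : Type*} [Group M] [Group G] {π : C k0 →* M} {τ : M} {φ : LM π →* G}

namespace QB

open XP (add_add add_add')

variable {e : ZMod 2} {v w : V24}

theorem qL_comm_a (e : ZMod 2) (hw : w ∈ WW) : Commute (qL φ e w) (φ (aL π)) := by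
  rw [qL_def e hw]; exact Emb.a_comm _

theorem qL_comm_z (e : ZMod 2) (hw : w ∈ WW) : Commute (qL φ e w) (φ (zL π)) := by
  rw [qL_def e hw]; exact ι_z _

theorem qL_comm (e e' : ZMod 2) (hv : v ∈ WW) (hw : w ∈ WW) (h : om v w = 0) : Commute (qL φ e v) (qL φ e' w) := by
  have := qL_conj (φ := φ) e e' hv hw
  rw [h, add_zero] at this
  exact mul_inv_eq_iff_eq_mul.1 this

theorem comm_az : Commute (φ (aL π)) (φ (zL π)) := (Emb.a_comm _).symm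

theorem qL_mem (e : ZMod 2) (hw : w ∈ WW) : qL φ e w ∈ φ.range := ⟨_, (qL_def e hw).symm⟩

theorem qL_ev (h : Emb τ φ) (k : Ev v w) (hw : w ∈ WW) (e : ZMod 2) : ∃ e', qL φ e v = qL φ e' w := by
  rcases k with rfl | rfl
  · exact ⟨e, rfl⟩
  · exact ⟨e + bet w v0, by
      rw [← mul_one (qL φ _ w), ← h.qL_t, qL_mul _ _ hw v0_mem, add_zero, add_assoc, z2_add_self, add_zero]⟩

theorem tau_conj (h : Emb τ φ) {a b : DK} (e : (a.1, b.1) ∈ Gam k0) :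
    φ ⟨τ, tau_mem h.am⟩ * φ (ιL π b) * (φ ⟨τ, tau_mem h.am⟩)⁻¹ = φ (ιL π a) := by
  rw [← map_inv, ← map_mul, ← map_mul]
  exact congrArg φ (Subtype.ext (h.am.conj e))

theorem tau_conj' (h : Emb τ φ) {e' : ZMod 2} (hv : v ∈ WW) (hw : w ∈ WW) (k : (q k0 e v, q k0 e' w) ∈ Gam k0) :
    φ ⟨τ, tau_mem h.am⟩ * qL φ e' w * (φ ⟨τ, tau_mem h.am⟩)⁻¹ = qL φ e v := by
  rw [qL_def e hv, qL_def e' hw]; exact tau_conj h k

/-- conjugation by an element centralizing `z` respects the signs -/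
theorem conj_sign {y : G} (hy : Commute y (φ (zL π))) (hv : v ∈ WW) (hw : w ∈ WW)
    (k : y * qL φ 0 v * y⁻¹ = qL φ e w) (f : ZMod 2) : y * qL φ f v * y⁻¹ = qL φ (e + f) w := by
  rcases z2_cases f with rfl | rfl
  · rw [k, add_zero]
  · rw [← qL_mul_z e hw, ← k, ← zero_add (1 : ZMod 2), ← qL_mul_z 0 hv]
    calc y * (qL φ 0 v * φ (zL π)) * y⁻¹ = y * qL φ 0 v * (φ (zL π) * y⁻¹) := by group
      _ = _ := by rw [← hy.inv_left.eq]; group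

theorem comm_conj {g a b : G} (h : Commute a b) : Commute (g * a * g⁻¹) (g * b * g⁻¹) := h.map (MulAut.conj g)

/-- the classes on which `y` acts trivially -/
def BB (φ : LM π →* G) (y : G) (hy : Commute y (φ (zL π))) : AddSubgroup V24 where
  carrier := {w | w ∈ WW ∧ ∃ e, y * qL φ 0 w * y⁻¹ = qL φ e w}
  zero_mem' := ⟨zero_mem _, 0, by rw [qL_zero, mul_one, mul_inv_cancel]⟩
  add_mem' := by
    rintro v w ⟨hv, e, k⟩ ⟨hw, e', k'⟩
    refine ⟨add_mem hv hw, e + e' + bet v w + (0 + 0 + bet v w), ?_⟩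
    have h1 : y * qL φ (0 + 0 + bet v w) (v + w) * y⁻¹ = qL φ (e + e' + bet v w) (v + w) := by
      rw [← qL_mul 0 0 hv hw, ← qL_mul e e' hv hw, ← k, ← k']; group
    rcases z2_cases (0 + 0 + bet v w) with b | b <;> rw [b] at h1 ⊢
    · rw [h1, add_zero]
    · rw [← qL_mul_z _ (add_mem hv hw), ← h1, ← z2_add_self 1, ← qL_mul_z 1 (add_mem hv hw)]
      calc y * (qL φ 1 (v + w) * φ (zL π)) * y⁻¹ = y * qL φ 1 (v + w) * (φ (zL π) * y⁻¹) := by group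
        _ = _ := by rw [← hy.inv_left.eq]; group
  neg_mem' := fun {x} hx => by rwa [neg_eq_of_add_eq_zero_right (ww_add_self x)]

theorem exists_g' (h : Emb τ φ) (az : IsConj (φ (aL π)) (φ (aL π) * φ (zL π))) {T : G} (ta : Commute T (φ (aL π)))
    (t1 : T * φ (zL π) * T⁻¹ = qL φ 0 (w0 k0)) (t2 : T * qL φ 0 (w0 k0) * T⁻¹ = qL φ 1 (w0 k0)) :
    ∃ g, Commute g (φ (zL π)) ∧ g * φ (aL π) * g⁻¹ = T * (φ (aL π) * φ (zL π)) * T⁻¹ ∧
      g * φ (aL π) * g⁻¹ = φ (aL π) * qL φ 0 (w0 k0) ∧ g⁻¹ * φ (aL π) * g ∈ φ.range := by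
  obtain ⟨m, hm, m0, m1⟩ := wit_m
  have x1 : T * (φ (aL π) * φ (zL π)) * T⁻¹ = φ (aL π) * qL φ 0 (w0 k0) := by
    rw [← t1, ← mul_assoc, ta.eq]; group
  have x2 : T * (φ (aL π) * qL φ 0 (w0 k0)) * T⁻¹ = φ (aL π) * qL φ 0 (w0 k0) * φ (zL π) := by
    rw [mul_assoc (φ (aL π)), qL_mul_z 0 w0_mem, zero_add, ← t2, ← mul_assoc T, ta.eq]; group
  have c1 : IsConj (φ (aL π)) (φ (aL π) * qL φ 0 (w0 k0)) := az.trans (isConj_iff.2 ⟨T, x1⟩)
  have sq : qL φ 0 m * qL φ 0 m = φ (zL π) := by rw [qL_mul_self 0 hm, m1, qL_z]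
  have i0 := h.inL_sq c1 ((qL_comm_a 0 hm).mul_right (qL_comm 0 0 hm w0_mem m0))
  rw [sq] at i0
  obtain ⟨g, g1, g2⟩ := h.tr (c1.trans (isConj_iff.2 ⟨T, x2⟩)) i0
  refine ⟨g, g1, g2.trans x1.symm, g2, h.inL_iff.1 ?_⟩
  have c2 := comm_conj (g := T) ((qL_comm_a (φ := φ) 0 hm).mul_right (qL_comm_z 0 hm))
  rw [x1] at c2
  have i1 := h.inL_sq c1 c2
  rw [show T * qL φ 0 m * T⁻¹ * (T * qL φ 0 m * T⁻¹) = T * (qL φ 0 m * qL φ 0 m) * T⁻¹ by group, sq, t1] at i1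
  have i2 := h.inL_mul (Emb.inL_self c1) i1.inv
  rwa [mul_inv_cancel_right, ← g2] at i2

/-- the conjugate `x = a z0` of `a` -/
theorem exists_g (h : Emb τ φ) (az : IsConj (φ (aL π)) (φ (aL π) * φ (zL π))) :
    ∃ g, Commute g (φ (zL π)) ∧
      g * φ (aL π) * g⁻¹ = φ ⟨τ, tau_mem h.am⟩ * (φ (aL π) * φ (zL π)) * (φ ⟨τ, tau_mem h.am⟩)⁻¹ ∧
      g * φ (aL π) * g⁻¹ = φ (aL π) * qL φ 0 (w0 k0) ∧ g⁻¹ * φ (aL π) * g ∈ φ.range := by
  have t1 := tau_conj' h w0_mem (zero_mem _) (e := 0) (e' := 1) (by rw [q_one_zero]; exact std_k0.gam_z'')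
  rw [qL_z] at t1
  exact exists_g' h az (Emb.a_comm _) t1 (tau_conj' h w0_mem w0_mem std_k0.gam_z')

theorem w0_ne (h : Emb τ φ) (e : ZMod 2) : qL φ e (w0 k0) ≠ 1 := fun k => by
  obtain ⟨u, hu, k1⟩ := exists_om_w0
  rcases h.qL_inj w0_mem (zero_mem _) (k.trans qL_zero.symm) with k | k
  · exact w0_ne_zero k.2
  · rw [k, zero_add, hu.1] at k1
    exact zero_ne_one k1

theorem exists_u (h : Emb τ φ) {g : G} (g1 : Commute g (φ (zL π)))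
    (g2 : g * φ (aL π) * g⁻¹ = φ (aL π) * qL φ 0 (w0 k0)) (hw : w ∈ WW) (k : g⁻¹ * φ (aL π) * g = qL φ e w) :
    ∃ u ∈ WW, om u w = 1 := by
  by_contra! n
  have k' : φ (aL π) = g * qL φ e w * g⁻¹ := by rw [← k]; group
  rcases h.cent (g := qL φ e w) fun u hu => (qL_comm 0 e hu hw ((z2_cases _).resolve_right (n u hu))).symm with
    e1 | e1 | e1 | e1 <;> rw [e1] at k'
  · exact h.ne.1 (by rw [k']; group)
  · exact h.ne.2.2 (by rw [k', g1.eq]; group)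
  · rw [g2, left_eq_mul] at k'
    exact w0_ne h 0 k'
  · rw [show g * (φ (aL π) * φ (zL π)) * g⁻¹ = g * φ (aL π) * (φ (zL π) * g⁻¹) by group, ← g1.inv_left.eq,
      ← mul_assoc, g2, mul_assoc, left_eq_mul, qL_mul_z 0 w0_mem] at k'
    exact w0_ne h _ k'

/-- the elements of `DK` in the conjugate of `L` which belongs to `s` -/
def SS (h : Emb τ φ) {s : G} (hs : IsConj (φ (aL π)) s) : Subgroup (C k0) where
  carrier := {c | ∃ hc : c ∈ DK, InL φ s (φ (ιL π ⟨c, hc⟩))}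
  one_mem' := ⟨one_mem _, by
    have := h.inL_mul (Emb.inL_self hs) (Emb.inL_self hs).inv
    rwa [mul_inv_cancel, ← map_one φ, ← map_one (ιL π)] at this⟩
  mul_mem' := fun ⟨a, b⟩ ⟨c, d⟩ => ⟨mul_mem a c, by
    have := h.inL_mul b d
    rwa [← map_mul, ← map_mul] at this⟩
  inv_mem' := fun ⟨a, b⟩ => ⟨inv_mem a, by
    have := b.inv
    rwa [← map_inv, ← map_inv] at this⟩

theorem inL_U (h : Emb τ φ) (az : IsConj (φ (aL π)) (φ (aL π) * φ (zL π))) (hw : w ∈ WW) (h0 : om w (w0 k0) = 0) :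
    InL φ (φ ⟨τ, tau_mem h.am⟩ * (φ (aL π) * φ (zL π)) * (φ ⟨τ, tau_mem h.am⟩)⁻¹) (qL φ 0 w) := by
  obtain ⟨b, hb, ⟨_, b1⟩, b2⟩ := eps (S := SS h az)
    (by
      rintro _ ⟨⟨e, u, rfl⟩, hu⟩
      exact ⟨hu, qL_def (φ := φ) e (q_mem_DK.1 hu) ▸ h.inL_az az e (q_mem_DK.1 hu)⟩)
    (fun a ha b hb h1 h2 => ⟨mul_mem ha hb, by
      have := h.inL_par az (ι_comm_az ⟨a, ha⟩) (ι_comm_az ⟨b, hb⟩) (fun k => h1 ⟨ha, k⟩) fun k => h2 ⟨hb, k⟩
      rwa [← map_mul φ (ιL π _), ← map_mul (ιL π)] at this⟩) 0 hw h0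
  rw [qL_def 0 hw, ← tau_conj h (a := ⟨_, q_mem_DK.2 hw⟩) (b := ⟨b, hb⟩) b2]
  exact b1.conj _

theorem star' (h : Emb τ φ) (az : IsConj (φ (aL π)) (φ (aL π) * φ (zL π))) {g : G} (g1 : Commute g (φ (zL π)))
    (hw : w ∈ WW) (o : Om w) (k : g * qL φ 0 w * g⁻¹ ∈ φ.range) :
    ∃ e, ∃ w' ∈ WW, Om w' ∧ g * qL φ 0 w * g⁻¹ = qL φ e w' := by
  refine h.star k ((g1.mul_left (qL_comm_z 0 hw)).mul_left g1.inv_left)
    ((h.isConj_Om az 0 hw o).trans (isConj_iff.2 ⟨g, rfl⟩))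
    ((h.isConj_Om az (0 + 1) hw o).trans (isConj_iff.2 ⟨g, ?_⟩))
  rw [← qL_mul_z 0 hw, mul_assoc _ g⁻¹, g1.inv_left.eq]; group

theorem odd_mem (h : Emb τ φ) {y : G} (hy : Commute y (φ (zL π)))
    (hU : ∀ u ∈ WW, om u (w0 k0) = 0 → u ∈ BB φ y hy) {u : V24} (hu : u ∈ WW) (o : Om u) (h1 : om u (w0 k0) = 1)
    (hw : w ∈ WW) (o' : Om w) (k : y * qL φ 0 u * y⁻¹ = qL φ e w) : u ∈ BB φ y hy := by
  have p : ∀ v ∈ WW, om v (w0 k0) = 0 → om v (w + u) = 0 := fun v hv h0 => by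
    obtain ⟨-, f, hf⟩ := hU v hv h0
    have e1 := conj_sign hy hu hw k (0 + om v u)
    rw [← qL_conj 0 0 hv hu, show ∀ a b : G, y * (a * b * a⁻¹) * y⁻¹ = y * a * y⁻¹ * (y * b * y⁻¹) * (y * a * y⁻¹)⁻¹
      from fun a b => by group, hf, k, qL_conj f e hv hw, zero_add] at e1
    rw [om_add_right, add_left_cancel (h.sign_inj hw e1), z2_add_self]
  have ev : ∀ {m}, Ev (w + u) m → Ev w (m + u) := fun k => by
    have := k.add (Ev.refl u)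
    rwa [add_add] at this
  have q0 := qf_of_short o'.1
  have q1 := qf_of_short o.1
  rcases perp3 p with k1 | k1 | k1 | k1 <;> replace k1 := ev k1
  · rw [zero_add] at k1
    obtain ⟨e', k2⟩ := qL_ev h k1 hu e
    exact ⟨hu, e', k.trans k2⟩
  · have o2 := o'.of_ev k1.symm
    refine absurd ?_ (not_short_three short_v0 short_s1 o.1 (add_comm s1 v0 ▸ Om_s1.2) (add_comm u v0 ▸ o.2) o2.1)
    rw [add_assoc, add_comm]; exact o2.2
  · rw [k1.qf (add_mem w0_mem hu).1, qf_add, qf_w0, q1, om_comm, h1] at q0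
    exact absurd q0 (by decide)
  · rw [k1.qf (add_mem (add_mem s1_mem w0_mem) hu).1, qf_add, qf_add, qf_w0, q1, qf_of_short short_s1, om_s1_w0,
      om_comm, om_add_right, hu.2, h1] at q0
    exact absurd q0 (by decide)

theorem exists_y1 (h : Emb τ φ) (az : IsConj (φ (aL π)) (φ (aL π) * φ (zL π))) :
    ∃ y : G, (y * y = 1 ∨ y * y = φ (zL π)) ∧ Commute y (φ (zL π)) ∧ y * φ (aL π) * y⁻¹ = φ (aL π) * φ (zL π) ∧
      ∀ w ∈ WW, ∃ e, y * qL φ 0 w * y⁻¹ = qL φ e w := by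
  obtain ⟨g, g1, g2, g3, g4⟩ := exists_g h az
  obtain ⟨e', w', hw', -, k⟩ := star' h az g1.inv_left s1_mem Om_s1 (by rwa [qL_a, inv_inv])
  rw [qL_a, inv_inv] at k
  obtain ⟨u', hu', k1⟩ := exists_u h g1 g3 hw' k
  have act : ∀ s e, ∀ w ∈ WW, g⁻¹ * s * g = qL φ e w → g * qL φ 0 u' * g⁻¹ * s * (g * qL φ 0 u' * g⁻¹)⁻¹ =
      g * qL φ (e + om u' w) w * g⁻¹ := fun s e w hw k => by
    rw [← qL_conj 0 e hu' hw, ← k]; group
  have gz : ∀ s e, ∀ w ∈ WW, g⁻¹ * s * g = qL φ e w → g * qL φ (e + 1) w * g⁻¹ = s * φ (zL π) := fun s e w hw k => by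
    rw [← qL_mul_z e hw, ← k, mul_assoc _ g, g1.eq]; group
  have hy : Commute (g * qL φ 0 u' * g⁻¹) (φ (zL π)) := (g1.mul_left (qL_comm_z 0 hu')).mul_left g1.inv_left
  have y2 : g * qL φ 0 u' * g⁻¹ * (g * qL φ 0 u' * g⁻¹) = 1 ∨
      g * qL φ 0 u' * g⁻¹ * (g * qL φ 0 u' * g⁻¹) = φ (zL π) := by
    rw [show ∀ a : G, g * a * g⁻¹ * (g * a * g⁻¹) = g * (a * a) * g⁻¹ from fun a => by group, qL_mul_self 0 hu']
    refine (z2_cases (qf u')).imp (fun e => ?_) fun e => ?_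
    · rw [e, qL_zero, mul_one, mul_inv_cancel]
    · rw [e, qL_z, g1.eq, mul_inv_cancel_right]
  have ya := act _ _ _ hw' k
  rw [k1, gz _ _ _ hw' k] at ya
  have hU : ∀ u ∈ WW, om u (w0 k0) = 0 → u ∈ BB φ _ hy := fun u hu h0 => span_U (fun w hw o h0 => by
    obtain ⟨e, w', hw', -, k⟩ := star' h az g1.inv_left hw o (by
      rw [inv_inv]; exact h.inL_iff.1 (g2 ▸ inL_U h az hw h0))
    rw [inv_inv] at k
    refine ⟨hw, om u' w', ?_⟩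
    rw [act _ _ _ hw' k]
    rcases z2_cases (om u' w') with b | b <;> rw [b]
    · rw [add_zero, ← k]; group
    · rw [gz _ _ _ hw' k, qL_mul_z 0 hw, zero_add]) hu h0
  generalize g * qL φ 0 u' * g⁻¹ = y at *
  refine ⟨y, y2, hy, ya, fun w hw => ?_⟩
  obtain ⟨u, hu, o, h1⟩ := wit_odd
  have yy : Commute (y * y) (φ (aL π)) := y2.elim (fun e => e ▸ Commute.one_left _) fun e => e ▸ comm_az.symm
  have yi : y⁻¹ * φ (aL π) * y⁻¹⁻¹ = φ (aL π) * φ (zL π) := by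
    rw [← ya]
    calc y⁻¹ * φ (aL π) * y⁻¹⁻¹ = y⁻¹ * (φ (aL π) * (y * y)) * y⁻¹ := by group
      _ = _ := by rw [← yy.eq]; group
  obtain ⟨e, w1, hw1, o1, k2⟩ := star' h az hy hu o (by
    have := h.inL_iff.1 (yi ▸ h.inL_az az 0 hu)
    rwa [inv_inv] at this)
  have hu1 := odd_mem h hy hU hu o h1 hw1 o1 k2
  rcases z2_cases (om w (w0 k0)) with b | b
  · exact (hU w hw b).2
  · have := add_mem (hU (w + u) (add_mem hw hu) (by rw [om_add_left, b, h1]; rfl)) hu1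
    rw [add_add] at this
    exact this.2

/-- extension of a homomorphism to an overgroup of index two -/
theorem exists_ext_two {C G : Type*} [Group C] [Group G] {K H : Subgroup C} (hle : K ≤ H) {s : C}
    (hs : s ∈ H) (hs' : s ∉ K) (s2 : s * s = 1) (hK : ∀ a ∈ H, a ∉ K → a * s ∈ K) (ι : K →* G)
    {g : G} (g2 : g * g = 1) (hact : ∀ k l : K, l.1 = s * k.1 * s → g * ι k = ι l * g) :
    ∃ ψ : H →* G, ∀ (a : H) (k : K), a.1 = k.1 → ψ a = ι k := by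
  classical
  have hcj : ∀ {a : C}, a ∈ K → s * a * s ∈ K := fun {a} ha =>
    hK _ (H.mul_mem hs (hle ha)) fun h => hs' ((K.mul_mem_cancel_right ha).1 h)
  let f : H → G := fun a => if ha : a.1 ∈ K then ι ⟨a.1, ha⟩ else ι ⟨a.1 * s, hK _ a.2 ha⟩ * g
  have f1 : ∀ (a : H) (k : K), a.1 = k.1 → f a = ι k := fun a k e => by
    have ha : a.1 ∈ K := e ▸ k.2
    rw [show f a = ι ⟨a.1, ha⟩ from dif_pos ha]
    exact congrArg ι (Subtype.ext e)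
  have f2 : ∀ (a : H) (k : K), a.1 = k.1 * s → f a = ι k * g := fun a k e => by
    have ha : a.1 ∉ K := fun h => hs' ((K.mul_mem_cancel_left k.2).1 (e ▸ h))
    rw [show f a = ι ⟨a.1 * s, hK _ a.2 ha⟩ * g from dif_neg ha]
    exact congrArg (ι · * g) (Subtype.ext (by
      show a.1 * s = k.1
      rw [e, mul_assoc, s2, mul_one]))
  have cs : ∀ a : H, (∃ k : K, a.1 = k.1) ∨ ∃ k : K, a.1 = k.1 * s := fun a => by
    by_cases ha : a.1 ∈ K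
    · exact Or.inl ⟨⟨_, ha⟩, rfl⟩
    · exact Or.inr ⟨⟨_, hK _ a.2 ha⟩, by
        show a.1 = a.1 * s * s
        rw [mul_assoc, s2, mul_one]⟩
  refine ⟨MonoidHom.mk' f fun a b => ?_, f1⟩
  rcases cs a with ⟨k, e⟩ | ⟨k, e⟩ <;> rcases cs b with ⟨l, e'⟩ | ⟨l, e'⟩
  · rw [f1 a k e, f1 b l e', ← map_mul]
    exact f1 _ _ (by rw [coe_mul, coe_mul, e, e'])
  · rw [f1 a k e, f2 b l e', ← mul_assoc, ← map_mul]
    exact f2 _ _ (by rw [coe_mul, coe_mul, e, e', mul_assoc])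
  · rw [f2 a k e, f1 b l e', mul_assoc, hact l ⟨_, hcj l.2⟩ rfl, ← mul_assoc, ← map_mul]
    refine f2 _ _ ?_
    show a.1 * b.1 = k.1 * (s * l.1 * s) * s
    rw [e, e']
    simp only [mul_assoc, s2, mul_one]
  · rw [f2 a k e, f2 b l e', mul_assoc, ← mul_assoc g, hact l ⟨_, hcj l.2⟩ rfl, mul_assoc, g2, mul_one,
      ← map_mul]
    refine f1 _ _ ?_
    show a.1 * b.1 = k.1 * (s * l.1 * s)
    rw [e, e']
    simp only [mul_assoc]

theorem exists_class (h : Emb τ φ) {y : G} (hy : Commute y (φ (zL π)))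
    (ya : y * φ (aL π) * y⁻¹ = φ (aL π) * φ (zL π)) (k : ∀ w ∈ WW, ∃ e, y * qL φ 0 w * y⁻¹ = qL φ e w) :
    ∃ u, om u v0 = 0 ∧ om u s1 = 1 ∧ qf u = 0 ∧ ∀ e, ∀ w ∈ WW, y * qL φ e w * y⁻¹ = qL φ (e + om u w) w := by
  choose! l hl using k
  obtain ⟨u, hu⟩ := exists_om_on WW (AddMonoidHom.mk' (fun w : WW => l w.1) fun v w => by
    have e1 := conj_sign hy (add_mem v.2 w.2) (add_mem v.2 w.2) (hl _ (add_mem v.2 w.2)) (0 + 0 + bet v.1 w.1)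
    rw [← qL_mul 0 0 v.2 w.2, show ∀ a b : G, y * (a * b) * y⁻¹ = y * a * y⁻¹ * (y * b * y⁻¹) from fun a b => by group,
      hl _ v.2, hl _ w.2, qL_mul _ _ v.2 w.2, zero_add, zero_add] at e1
    exact (add_right_cancel (h.sign_inj (add_mem v.2 w.2) e1)).symm)
  have h1 : ∀ e, ∀ w ∈ WW, y * qL φ e w * y⁻¹ = qL φ (e + om u w) w := fun e w hw => by
    rw [conj_sign hy hw hw (hl w hw), hu ⟨w, hw⟩, add_comm]; rfl
  have h2 : om u v0 = 0 := by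
    have := h1 0 v0 v0_mem
    rw [h.qL_t, mul_one, mul_inv_cancel, ← h.qL_t, zero_add] at this
    exact (h.sign_inj v0_mem this).symm
  have h3 : om u s1 = 1 := by
    have := h1 0 s1 s1_mem
    rw [qL_a, ya, ← qL_a, qL_mul_z 0 s1_mem, zero_add, zero_add] at this
    exact (h.sign_inj s1_mem this).symm
  rcases z2_cases (qf u) with b | b
  · exact ⟨u, h2, h3, b, h1⟩
  · refine ⟨u + s1, om_add0 h2 om_s1_v0, by rw [om_add_left, h3, om_self, add_zero],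
      by rw [qf_add, b, h3, qf_of_short short_s1]; rfl, fun e w hw => ?_⟩
    rw [h1 e w hw, om_add_left, om_comm s1, hw.2, add_zero]

theorem exists_iota (φ : LM π →* G) :
    ∃ ι : (Q k0 ⊓ DK : Subgroup (C k0)) →* G, ∀ c, ι c = φ (ιL π ⟨c.1, c.2.2⟩) :=
  ⟨φ.comp ((ιL π).comp (inclusion inf_le_right)), fun _ => rfl⟩

end QB

open QB

theorem Emb.exists_y0 (h : Emb τ φ) (az : IsConj (φ (aL π)) (φ (aL π) * φ (zL π))) :
    ∃ y : G, y * y = 1 ∧ Commute y (φ (zL π)) ∧ y * φ (aL π) * y⁻¹ = φ (aL π) * φ (zL π) ∧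
      ∀ w ∈ WW, ∃ e, y * qL φ 0 w * y⁻¹ = qL φ e w := by
  obtain ⟨y, y2 | y2, hy, ya, k⟩ := exists_y1 h az
  · exact ⟨y, y2, hy, ya, k⟩
  refine ⟨y * φ (aL π), ?_, hy.mul_left comm_az, by rw [← ya]; group, fun w hw => ?_⟩
  · calc y * φ (aL π) * (y * φ (aL π)) = y * φ (aL π) * y⁻¹ * (y * y) * φ (aL π) := by group
      _ = 1 := by rw [ya, y2, mul_assoc (φ (aL π)), Emb.z_sq, mul_one, Emb.a_sq]
  · obtain ⟨e, he⟩ := k w hw
    refine ⟨e, ?_⟩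
    rw [← he, mul_assoc y, ← (qL_comm_a 0 hw).eq]; group

theorem Emb.exists_ext (h : Emb τ φ) (az : IsConj (φ (aL π)) (φ (aL π) * φ (zL π))) : ∃ ρ, Ext τ φ ρ := by
  obtain ⟨y, y2, hy, ya, k⟩ := h.exists_y0 az
  obtain ⟨u, u1, u2, u3, k⟩ := exists_class h hy ya k
  have s2 : q k0 0 u * q k0 0 u = 1 := q_mul_self_eq_one.2 u3
  obtain ⟨ι, hι⟩ := exists_iota φ
  have a1 : q k0 0 u ∉ Q k0 ⊓ DK := fun k => zero_ne_one ((q_mem_DK.1 k.2).2.symm.trans u2)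
  have a2 : ∀ a ∈ RQ, a ∉ Q k0 ⊓ DK → a * q k0 0 u ∈ Q k0 ⊓ DK := fun a ha n => by
    obtain ⟨e, w, rfl⟩ := mem_Q.1 ha.1
    have hw' := q_mem_RQ.1 ha
    have := (z2_cases (om w s1)).resolve_left fun k => n ⟨q_mem_Q _ _, q_mem_DK.2 ⟨hw', k⟩⟩
    rw [q_mul]
    exact ⟨q_mem_Q _ _, q_mem_DK.2 ⟨om_add0 hw' u1, by rw [om_add_left, this, u2]; rfl⟩⟩
  have a3 : ∀ k l : (Q k0 ⊓ DK : Subgroup (C k0)), l.1 = q k0 0 u * k.1 * q k0 0 u → y * ι k = ι l * y :=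
    fun c l hl => by
      obtain ⟨e, w, hc⟩ := mem_Q.1 c.2.1
      have hw' : w ∈ WW := q_mem_DK.1 (hc ▸ c.2.2)
      have e1 : l.1 = q k0 (e + om u w) w := by
        have := conj_q (q k0 0 u) e w
        rwa [inv_eq_of_mul_eq_one_right s2, cε_q, cact_q, ← hc, ← hl] at this
      have e2 := k e w hw'
      rw [qL_eq (l := ιL π ⟨c.1, c.2.2⟩) (by rw [coe_ιL, ← hc]) hw',
        qL_eq (l := ιL π ⟨l.1, l.2.2⟩) (by rw [coe_ιL, ← e1]) hw', ← hι, ← hι] at e2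
      exact mul_inv_eq_iff_eq_mul.1 e2
  obtain ⟨ρ, hρ⟩ := exists_ext_two (H := RQ) (inf_le_inf_left _ DK_le_CK) (q_mem_RQ.2 u1) a1 s2 a2 ι y2 a3
  refine ⟨ρ, h, az, fun x l e => ?_⟩
  have m := mem_cen2.1 (e ▸ l.2)
  rw [hρ x ⟨x.1, x.2.1, mem_DK.2 ⟨h.comm_iff.1 m.1, h.comm_iff.1 m.2⟩⟩ rfl, hι]
  exact congrArg φ (Subtype.ext e.symm)

end CfsgLib.StdB
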