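import Mathlib
import Cfsg.Agent.Lib.StdB.Defs
import Cfsg.Agent.Lib.BabRec.Lat

/-! STDB, package GEN (plans/STDB.md §GEN). -/

set_option autoImplicit false

namespace CfsgLib.StdB

open Cfsg CfsgLib.Leech CfsgLib.Mon CfsgLib.DCX CfsgLib.StdM CfsgLib.MonRep

namespace GenP

theorem dot_dp (i j : GolayPt) (v : GolayPt → ℤ) : dotInt (dpL i j).1 v = 4 * (v i + v j) := by
  rw [show (dpL i j).1 = Pi.single i 4 + Pi.single j 4 from rfl, Leech.dotInt_add_left,
    dotInt_single_left, dotInt_single_left, mul_add]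

theorem tri {a b c : leechLattice} (ha : sqNorm a.1 = 32) (hb : sqNorm b.1 = 32) (hc : sqNorm c.1 = 32)
    (h : dotInt a.1 b.1 = 0) (h1 : dotInt a.1 c.1 = 16) (h2 : dotInt b.1 c.1 = 16) :
    ∃ g : Co0, g • a = Spor.leechU ∧ g • b = Spor.leechU' ∧ g • c = dlL none (some 1) := by
  obtain ⟨g, e1, e2⟩ := exists_orth_pair ha hb h
  rw [← dotInt_smul g, e1, dot_U] at h1
  rw [← dotInt_smul g, e2, dot_U'] at h2
  obtain ⟨p, hp, k⟩ := shape_four (v := g • c) (a := none) (by rwa [sqNorm_smul]) (by omega)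
  have p0 : p ≠ some 0 := by
    rintro rfl
    rcases k with k | k <;> simp [k] at h1 h2
  obtain ⟨σ, s1, s2, s3⟩ := exists_M24_three (a := none) (b := some 0) (c := p) (a' := none) (b' := some 0)
    (c' := some 1) (by simp [hp.symm, p0.symm]) (by decide)
  have key : ∀ n : Co0, n • e8 none = e8 none → n • e8 (some 0) = e8 (some 0) → n • g • c = dlL none (some 1) →
      ∃ g : Co0, g • a = Spor.leechU ∧ g • b = Spor.leechU' ∧ g • c = dlL none (some 1) := fun n k1 k2 k3 =>
    have := fix_U_U'.2 ⟨k1, k2⟩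
    ⟨n * g, by rw [mul_smul, e1, this.1], by rw [mul_smul, e2, this.2], by rwa [mul_smul]⟩
  rcases k with k | k
  · obtain ⟨d, hd, d1, d2, d3, -⟩ := MType.exists_cw_sep (i := some 1) (a := none) (b := some 0) (j := some 2)
      (by decide) (by decide) (by decide) (by decide) (by decide) (by decide)
    refine key (sgnAut d hd * permAut σ) (by rw [mono_smul_e8, s1, if_neg d2]) (by rw [mono_smul_e8, s2, if_neg d3]) ?_
    rw [show g • c = dpL none p from Subtype.ext k, mul_smul]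
    refine Subtype.ext (funext fun i => ?_)
    simp only [sgnAut_smul_apply, permAut_smul_apply, dlL_apply, dpL_apply, inv_smul_eq_iff, s1, s3]
    by_cases i1 : i = none
    · simp [i1, d2]
    · by_cases i2 : i = some 1 <;> simp [i1, i2, d1]
  · exact key (permAut σ) (by rw [permAut_smul_e8, s1]) (by rw [permAut_smul_e8, s2])
      (Subtype.ext (funext fun l => by
        simp only [show g • c = dlL none p from Subtype.ext k, permAut_smul_apply, dlL_apply, inv_smul_eq_iff, s1, s3]))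

theorem exists_coord {u : leechLattice} (hu : sqNorm u.1 = 32) (h : u.1 none - u.1 (some 0) = 4) :
    ∃ p, p ≠ none ∧ p ≠ some 0 ∧ (u.1 p = u.1 none ∨ u.1 p = -u.1 none ∨ u.1 p = u.1 (some 0) ∨ u.1 p = -u.1 (some 0)) := by
  by_contra! k
  have b : ∀ p, -6 < u.1 p ∧ u.1 p < 6 := fun p => by
    have := sum_sq_le_sqNorm u.1 {p}
    rw [Finset.sum_singleton] at this
    constructor <;> nlinarith
  have b1 := b none
  have b2 := b (some 0)
  by_cases h2 : u.1 none = 2
  · obtain ⟨p, p1, p2⟩ : ∃ p ∈ cw u.1, p ∉ ({none, some 0} : Finset GolayPt) := by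
      by_contra! l
      have := Finset.card_le_card l
      have := (isCW_cw u.2).eq_empty (this.trans_lt (by decide))
      exact Finset.notMem_empty none (this ▸ mem_cw.2 (by omega))
    simp only [Finset.mem_insert, Finset.mem_singleton, not_or] at p2
    have := k p p2.1 p2.2
    have := b p
    have := mem_cw.1 p1
    have := isEvenVec_of_even u.2 (i := none) (by omega) p
    omega
  · have := Finset.card_nsmul_le_sum ({none, some 0} : Finset GolayPt)ᶜ (fun i => u.1 i ^ 2) 4 fun p hp => by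
      simp only [Finset.mem_compl, Finset.mem_insert, Finset.mem_singleton, not_or] at hp
      have := k p hp.1 hp.2
      have : u.1 p ≤ -2 ∨ 2 ≤ u.1 p := by
        rcases even_or_odd u.2 with e | e <;> have := e p <;> have := e none <;> omega
      rcases this with l | l <;> nlinarith
    exact absurd (this.trans (sum_sq_le_sqNorm u.1 _)) (by rw [hu]; decide)

theorem orb {H : Subgroup Co0} (hS : ∀ g : Co0, g • dlL none (some 0) = dlL none (some 0) →
    g • dlL none (some 1) = dlL none (some 1) → g ∈ H) {y : Co0} (hy : y ∈ H)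
    (y1 : y • dlL none (some 0) = dlL none (some 0)) (y2 : dotInt (dlL none (some 1)).1 (y • dlL none (some 1)).1 = 0)
    {g : Co0} (hg : g • dlL none (some 0) = dlL none (some 0)) : g ∈ H := by
  set v := dlL none (some 0)
  set s := dlL none (some 1)
  have hv : sqNorm v.1 = 32 := sqNorm_dlL (by decide)
  have hs : sqNorm s.1 = 32 := sqNorm_dlL (by decide)
  have sv : dotInt s.1 v.1 = 16 := dot_dlL (by decide) (by decide) (by decide)
  have dv : ∀ {k : Co0} (x : leechLattice), k • v = v → dotInt (k • x).1 v.1 = dotInt x.1 v.1 := fun {k} x e => by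
    conv_lhs => rw [← e, dotInt_smul]
  let I : leechLattice → Prop := fun x => ∃ h ∈ H, h • v = v ∧ h • s = x
  have step : ∀ {x : leechLattice} (n : leechLattice), I x → sqNorm n.1 = 32 → dotInt v.1 n.1 = 16 → dotInt x.1 n.1 = 0 →
      I n := by
    rintro _ n ⟨h, h1, h2, rfl⟩ n1 n2 n3
    obtain ⟨a, a1, a2, a3⟩ := tri hs (by rwa [sqNorm_smul]) hv y2 sv (by rwa [dv _ y1])
    obtain ⟨b, b1, b2, b3⟩ := tri (b := h⁻¹ • n) hs (by rwa [sqNorm_smul]) hv
      (by rwa [← dotInt_smul h, smul_inv_smul]) sv (by rwa [dv _ (inv_smul_eq_iff.2 h2.symm), dotInt_comm])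
    have e1 : (b⁻¹ * a) • v = v := by rw [mul_smul, a3, ← b3, inv_smul_smul]
    exact ⟨h * (b⁻¹ * a) * y, mul_mem (mul_mem h1 (hS _ e1 (by rw [mul_smul, a1, ← b1, inv_smul_smul]))) hy,
      by rw [mul_smul, mul_smul, y1, e1, h2], by rw [mul_smul, mul_smul, mul_smul, a2, ← b2, inv_smul_smul, smul_inv_smul]⟩
  have hB : ∀ p q, p ≠ some 0 → q ≠ none → q ≠ some 0 → p ≠ q → I (dlL none p) →
      I (dlL q (some 0)) ∧ I (-dpL q (some 0)) := fun p q p2 q1 q2 pq h =>
    ⟨step _ h (sqNorm_dlL q2) (by simp [v, dot_dl, dlL_apply, q1.symm, q2.symm])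
      (by simp [dot_dl, dlL_apply, q1.symm, p2, pq]),
    step _ h ((sqNorm_neg _).trans (sqNorm_dpL q2)) (by simp [v, dot_dl, dpL_apply, q1.symm, q2.symm])
      (by simp [dot_dl, dpL_apply, q1.symm, p2, pq])⟩
  have hA : ∀ p, p ≠ none → p ≠ some 0 → I (dlL none p) ∧ I (dpL none p) := fun p p1 p2 => by
    obtain ⟨q, q1, q2, q3, q4⟩ := (by decide +kernel : ∀ p : GolayPt, ∃ q, q ≠ none ∧ q ≠ some 0 ∧ some 1 ≠ q ∧ q ≠ p) p
    have h := (hB _ q (by decide) q1 q2 q3 ⟨1, one_mem _, one_smul _ _, one_smul _ _⟩).1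
    exact ⟨step _ h (sqNorm_dlL p1.symm) (by simp [v, dot_dl, dlL_apply, p1.symm, p2.symm])
        (by simp [dot_dl, dlL_apply, q1, q4, p2.symm]),
      step _ h (sqNorm_dpL p1.symm) (by simp [v, dot_dl, dpL_apply, p1.symm, p2.symm])
        (by simp [dot_dl, dpL_apply, q1, q4, p2.symm])⟩
  have n1 : sqNorm (g • s).1 = 32 := by rwa [sqNorm_smul]
  have n2 : dotInt v.1 (g • s).1 = 16 := by rw [dotInt_comm, dv _ hg, sv]
  obtain ⟨h, h1, h2, h3⟩ : I (g • s) := by
    obtain ⟨p, p1, p2, k⟩ := exists_coord n1 (by have := (dot_dl (g • s).1).symm.trans n2; omega)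
    obtain ⟨q, q1, q2, -, q4⟩ := (by decide +kernel : ∀ p : GolayPt, ∃ q, q ≠ none ∧ q ≠ some 0 ∧ some 1 ≠ q ∧ q ≠ p) p
    have hb := hB q p q2 p1 p2 q4 (hA q q1 q2).1
    rcases k with k | k | k | k
    · exact step _ (hA p p1 p2).1 n1 n2 (by rw [dot_dl, k, sub_self, mul_zero])
    · exact step _ (hA p p1 p2).2 n1 n2 (by rw [dot_dp, k, add_neg_cancel, mul_zero])
    · exact step _ hb.1 n1 n2 (by rw [dot_dl, k, sub_self, mul_zero])
    · exact step _ hb.2 n1 n2 (by
        rw [AddSubgroup.coe_neg, Leech.dotInt_neg_left, dot_dp, k, neg_add_cancel, mul_zero, neg_zero])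
  exact (H.mul_mem_cancel_left (inv_mem h1)).1
    (hS _ (by rw [mul_smul, hg, inv_smul_eq_iff, h2]) (by rw [mul_smul, inv_smul_eq_iff, h3]))

end GenP

theorem gen_top {Y : Subgroup (C k0)} (h1 : DK ≤ Y) (h2 : RQ ≤ Y) {y : C k0} (hy : y ∈ Y) (hK : y ∈ CK)
    (h3 : cact y s1 = s1 + w0 k0) : CK ≤ Y := by
  obtain ⟨x, rfl, hx⟩ := BabRec.exists_lift_CK hK
  have hs : sqNorm (dlL none (some 1)).1 = 32 := sqNorm_dlL (by decide)
  have k : ∀ g : Co0, g • dlL none (some 0) = dlL none (some 0) → g ∈ img (Y ⊓ CK) := fun g =>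
    GenP.orb (fun g g1 g2 => img_mono (le_inf h1 DK_le_CK) (by
      rw [DK, DD, C1_eq, C1_eq]
      exact (mem_img_pair (sqNorm_dlL (by decide)) hs (dot_dlL (by decide) (by decide) (by decide))).2
        (Or.inl ⟨g1, g2⟩))) ⟨x, ⟨hy, hK⟩, rfl⟩ hx (by
      rw [cact_mk, k0.act_φ] at h3
      have e1 : MType.Cong (dlL none (some 1) + x.g • dlL none (some 1)) (e8 none) :=
        k0.φ_eq_iff.1 (by rw [map_add, h3, XP.add_add', φ_e8])
      have e2 : MType.Cong (dlL none (some 1) - x.g • dlL none (some 1)) (e8 none) :=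
        k0.φ_eq_iff.1 (by rw [sub_eq_add_neg, map_add, k0.φ_neg, h3, XP.add_add', φ_e8])
      have e3 := e1.sqNorm_eq
      have e4 := e2.sqNorm_eq
      rw [AddSubgroup.coe_add, sqNorm_add] at e3
      rw [AddSubgroup.coe_sub, sqNorm_sub] at e4
      rw [sqNorm_smul, hs, sqNorm_e8] at e3 e4
      show dotInt _ (x.g • dlL none (some 1)).1 = 0
      omega)
  refine (le_of_img inf_le_right (fun c hc => ⟨h2 ⟨hc.2, hc.1⟩, hc.1⟩) fun g hg => ?_).trans inf_le_left
  rw [CK, img_C1 (by decide)] at hg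
  rcases hg with hg | hg
  · exact k g hg
  · exact (Subgroup.mul_mem_cancel_right _ (neg_mem_img _)).1
      (k _ (by rw [mul_smul, negAut_smul, smul_neg, hg, neg_neg]))

end CfsgLib.StdB
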