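import Mathlib
import Cfsg.Agent.Lib.StdB.Defs
import Cfsg.Agent.Lib.Mon.CovL1

/-! STDB, package LEE (plans/STDB.md §LEE). -/

set_option autoImplicit false

namespace CfsgLib.StdB

open Cfsg CfsgLib.Leech CfsgLib.Mon CfsgLib.DCX CfsgLib.StdM Subgroup

namespace LeeP

/-- the vector under `v0` -/
abbrev vv : leechLattice := dlL none (some 0)

/-- the vector under `s1` -/
abbrev ss : leechLattice := dlL none (some 1)

theorem sq_ss : sqNorm ss.1 = 32 := sqNorm_dlL (by decide)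

theorem dot_vs : dotInt vv.1 ss.1 = 16 := dot_dlL (by decide) (by decide) (by decide)

theorem dot_dl (x : GolayPt → ℤ) (p r : GolayPt) : dotInt (dlL p r).1 x = 4 * x p - 4 * x r := by
  simp only [dlL, dotInt_sub_left, dotInt_single_left]

theorem eq_of_dot {a b : leechLattice} (ha : sqNorm a.1 = 32) (hb : sqNorm b.1 = 32) (h : dotInt a.1 b.1 = 32) :
    a = b := by
  have := sqNorm_sub a.1 b.1
  rw [ha, hb, h] at this
  exact Subtype.ext (sub_eq_zero.1 (sqNorm_eq_zero (by omega)))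

theorem om_of_dot {a : leechLattice} (ha : sqNorm a.1 = 32) (h : dotInt vv.1 a.1 = 16) : Om (k0.φ a) :=
  ⟨⟨a, ha, rfl⟩, a - vv, by rw [AddSubgroup.coe_sub, sqNorm_sub, ha, sqNorm_tK, dotInt_comm, h]; norm_num,
    MonRec.φ_sub _ _⟩

theorem Om.exists {w : V24} (h : Om w) : ∃ b : leechLattice, sqNorm b.1 = 32 ∧ k0.φ b = w ∧ dotInt vv.1 b.1 = 16 :=
  MonRec.exists_dot sqNorm_tK h.1 (add_comm w v0 ▸ h.2)

theorem exists_a {w : V24} (h1 : Om (s1 + w)) (h2 : om w s1 = 0) (h3 : ¬ Ev w 0) : ∃ a : leechLattice,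
    sqNorm a.1 = 32 ∧ dotInt vv.1 a.1 = 16 ∧ dotInt ss.1 a.1 = 0 ∧ Ev (k0.φ a) (s1 + w) := by
  obtain ⟨b, hb, e, d⟩ := Om.exists h1
  have k : dotInt ss.1 b.1 % 16 = 0 := by
    rw [← ipL_eq_zero, ← k0.om_φ, e, om_add_right, om_self, om_comm, h2, add_zero]
  have n1 : sqNorm (vv - b).1 = 32 := by rw [AddSubgroup.coe_sub, sqNorm_sub, hb, sqNorm_tK, d]; norm_num
  have n2 : dotInt ss.1 (vv - b).1 = 16 - dotInt ss.1 b.1 := by
    rw [AddSubgroup.coe_sub, dotInt_sub_right, dotInt_comm, dot_vs]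
  have n3 : k0.φ (vv - b) = s1 + w + v0 := by rw [MonRec.φ_sub, e, add_comm]
  rcases Leech.dot_cases sq_ss hb with c | c | c | c | c | c | c
  · rw [c] at e
    exact absurd (Or.inl (left_eq_add.1 e)) h3
  · rw [c, AddSubgroup.coe_neg, dotInt_neg_right, dot_vs] at d
    omega
  · rw [← eq_of_dot sq_ss n1 (by omega), add_assoc] at n3
    exact absurd (Or.inr ((eq_of_add_eq_zero' (left_eq_add.1 n3)).trans (zero_add _).symm)) h3
  · omega
  · exact ⟨b, hb, d, c, Or.inl e⟩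
  · omega
  · exact ⟨vv - b, n1, by rw [AddSubgroup.coe_sub, dotInt_sub_right, dotInt_self, sqNorm_tK, d]; norm_num,
      by omega, Or.inr n3⟩

theorem dot_a {a b : leechLattice} {w : V24} (ha : sqNorm a.1 = 32) (hb : sqNorm b.1 = 32)
    (a1 : dotInt vv.1 a.1 = 16) (b1 : dotInt vv.1 b.1 = 16) (a2 : dotInt ss.1 a.1 = 0) (b2 : dotInt ss.1 b.1 = 0)
    (e : Ev (k0.φ a + k0.φ b) w) (h0 : ¬ Ev w 0) (h1 : Om (s1 + w)) (h2 : om w s1 = 0) : dotInt a.1 b.1 = 0 := by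
  have q1 : qf w = 0 := by
    have := qf_of_short h1.1
    rwa [qf_add, qf_of_short short_s1, om_comm, h2, zero_add, add_zero] at this
  have q2 : om w v0 = 0 := by
    have := h1.perp
    rwa [om_add_left, om_s1_v0, zero_add] at this
  have k : dotInt a.1 b.1 % 16 = 0 := by
    have := (e.qf q2).trans q1
    rwa [qf_add, qf_of_short ⟨a, ha, rfl⟩, qf_of_short ⟨b, hb, rfl⟩, zero_add, zero_add, k0.om_φ,
      ipL_eq_zero] at this
  rcases Leech.dot_cases ha hb with c | c | c | c | c | c | c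
  · rw [c, ww_add_self] at e
    exact absurd e.symm h0
  · rw [c, AddSubgroup.coe_neg, dotInt_neg_right, a1] at b1
    omega
  · have := eq_of_dot (b := a + b) sqNorm_tK (by rw [AddSubgroup.coe_add, sqNorm_add, ha, hb, c]; norm_num)
      (by rw [AddSubgroup.coe_add, dotInt_add_right, a1, b1]; norm_num)
    have d := dot_vs
    rw [dotInt_comm, show vv = a + b from this, AddSubgroup.coe_add, dotInt_add_right] at d
    omega
  · omega
  · exact c
  · omega
  · exfalso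
    have n1 : sqNorm (a - b).1 = 32 := by rw [AddSubgroup.coe_sub, sqNorm_sub, ha, hb, c]; norm_num
    have n2 : dotInt ss.1 (a - b).1 = 0 := by rw [AddSubgroup.coe_sub, dotInt_sub_right, a2, b2, sub_zero]
    have n3 : dotInt vv.1 (a - b).1 = 0 := by rw [AddSubgroup.coe_sub, dotInt_sub_right, a1, b1, sub_self]
    rw [← MonRec.φ_sub] at e
    have f : Four (k0.φ (ss + (a - b))) :=
      ⟨_, by rw [AddSubgroup.coe_add, sqNorm_add, sq_ss, n1, n2]; norm_num, rfl⟩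
    rw [map_add] at f
    rcases e with e | e <;> rw [e] at f
    · exact f.not_short h1.1
    · exact f.not_short (add_assoc s1 w v0 ▸ h1.2)

theorem exists_notMem {U : AddSubgroup V24} (h : 8 < Nat.card U) (l : List V24) (hl : l.length ≤ 4) :
    ∃ w ∈ U, ∀ x ∈ l, ¬ Ev w x := by
  classical
  by_contra! k
  have : (U : Set V24) ⊆ (l ++ l.map (· + v0)).toFinset := fun w hw => by
    obtain ⟨x, hx, e | e⟩ := k w hw
    · simp [e, hx]
    · simp only [List.coe_toFinset, List.mem_append, List.mem_map, Set.mem_ofPred_eq]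
      exact Or.inr ⟨x, hx, e.symm⟩
  have h1 := Set.ncard_le_ncard this
  have h2 := List.toFinset_card_le (l ++ l.map (· + v0))
  rw [Set.ncard_coe_finset] at h1
  rw [List.length_append, List.length_map] at h2
  change 8 < (U : Set V24).ncard at h
  omega

theorem ev_add {w x : V24} (h : Ev (x + w) 0) : Ev w x := by
  have := (Ev.refl x).add h
  rwa [XP.add_add', add_zero] at this

/-- `b p` is the class of `4 e_∞ - 4 e_p` -/
noncomputable abbrev bb (p : GolayPt) : V24 := k0.φ (dlL none p)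

theorem Om_bb {p : GolayPt} (h1 : p ≠ none) (h2 : p ≠ some 0) : Om (bb p) :=
  om_of_dot (sqNorm_dlL h1.symm) (dot_dlL (by decide) h1.symm h2.symm)

theorem Om_bw {p : GolayPt} (h1 : p ≠ none) (h2 : p ≠ some 0) : Om (bb p + w0 k0) := by
  rw [← φ_e8 p, ← map_add]
  refine om_of_dot ?_ ?_
  · rw [AddSubgroup.coe_add, sqNorm_add, sqNorm_dlL h1.symm, sqNorm_e8, dotInt_e8, dlL_apply, if_neg h1, if_pos rfl]
    norm_num
  · rw [AddSubgroup.coe_add, dotInt_add_right, dot_dlL (by decide) h1.symm h2.symm, dotInt_e8, dlL_apply, if_neg h1,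
      if_neg h2]
    norm_num

theorem rel (f : V24 →+ ZMod 2) : ∃ p, p ≠ none ∧ p ≠ some 0 ∧ f (bb p) = 0 := by
  obtain ⟨O, h1, h2, h3, h4⟩ := Cov.exists_octad_sep {none} {some 0} (by decide) (by simp)
  have hn : none ∈ O := h3 _ (by simp)
  have e : ∑ p ∈ O.erase none, dlL none p = (e8 none + e8 none - tw O) + (e8 none + e8 none - tw O) := by
    refine Subtype.ext (funext fun i => ?_)
    simp only [AddSubgroup.val_finsetSum, Finset.sum_apply, dlL_apply, Finset.sum_sub_distrib, Finset.sum_const,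
      Finset.card_erase_of_mem hn, h2, Finset.sum_ite_eq, Finset.mem_erase, AddSubgroup.coe_add, AddSubgroup.coe_sub,
      Pi.add_apply, Pi.sub_apply, coe_e8, Pi.single_apply, tw_apply h1]
    by_cases a : i = none
    · simp [a, hn]
    · by_cases b : i ∈ O <;> simp [a, b]
  by_contra! k
  have := congrArg (fun x => f (k0.φ x)) e
  simp only [map_sum, map_add k0.φ (e8 none + e8 none - tw O), ww_add_self, map_zero] at this
  rw [Finset.sum_congr rfl fun p hp => (z2_cases _).resolve_left (k p (Finset.mem_erase.1 hp).1 fun e' =>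
    h4 _ (by simp) (e' ▸ (Finset.mem_erase.1 hp).2)), Finset.sum_const, Finset.card_erase_of_mem hn, h2] at this
  exact absurd this (by decide)

theorem exists_fun {U : AddSubgroup V24} {x : V24} (hx : x ∉ U) :
    ∃ f : V24 →+ ZMod 2, (∀ u ∈ U, f u = 0) ∧ f x = 1 := by
  obtain ⟨f, f1, f2⟩ := Submodule.exists_le_ker_of_notMem (p := AddSubgroup.toZModSubmodule 2 U) (v := x) hx
  exact ⟨f.toAddMonoidHom, fun u hu => f2 hu, (z2_cases _).resolve_left f1⟩

theorem not_two {U : AddSubgroup V24} {x y : V24} (hx : x ∉ U) (hy : y ∉ U) :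
    ∃ p, p ≠ none ∧ p ≠ some 0 ∧ bb p + x ∉ U ∧ bb p + y ∉ U := by
  obtain ⟨f, f0, f1, f2⟩ : ∃ f : V24 →+ ZMod 2, (∀ u ∈ U, f u = 0) ∧ f x = 1 ∧ f y = 1 := by
    obtain ⟨f, a1, a2⟩ := exists_fun hx
    obtain ⟨g, b1, b2⟩ := exists_fun hy
    rcases z2_cases (f y) with c | c
    · rcases z2_cases (g x) with d | d
      · exact ⟨f + g, fun u hu => by simp [a1 u hu, b1 u hu], by simp [a2, d], by simp [b2, c]⟩
      · exact ⟨g, b1, d, b2⟩
    · exact ⟨f, a1, a2, c⟩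
  obtain ⟨p, h1, h2, e⟩ := rel f
  refine ⟨p, h1, h2, fun k => ?_, fun k => ?_⟩ <;> have := f0 _ k
  · rw [map_add, e, f1] at this; exact absurd this (by decide)
  · rw [map_add, e, f2] at this; exact absurd this (by decide)

theorem dep3 {U : AddSubgroup V24} (h1 : ∀ w ∈ U, om w v0 = 0) (h : U.index < 16) {x y u : V24} (hx : om x v0 = 0)
    (hy : om y v0 = 0) (hu : om u v0 = 0) (a1 : x ∉ U) (a2 : y ∉ U) (a3 : u ∉ U) (a4 : x + y ∉ U) (a5 : x + u ∉ U)
    (a6 : y + u ∉ U) : x + y + u ∈ U := by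
  by_contra a7
  obtain ⟨m, hm⟩ := exists_om_one XP.v0_ne
  have hF : Function.Injective fun p : ZMod 2 × ZMod 2 × ZMod 2 × ZMod 2 =>
      (QuotientAddGroup.mk (p.1 • x + p.2.1 • y + p.2.2.1 • u + p.2.2.2 • m) : V24 ⧸ U) := by
    rintro ⟨a, b, c, d⟩ ⟨a', b', c', d'⟩ e
    have e1 : (a' - a) • x + (b' - b) • y + (c' - c) • u + (d' - d) • m ∈ U := by
      convert QuotientAddGroup.eq.1 e using 1
      simp only [sub_smul]
      abel
    have e2 := h1 _ e1
    simp only [om_add_left, om_smul', hx, hy, hu, hm, mul_zero, zero_add, mul_one] at e2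
    rw [e2, zero_smul, add_zero] at e1
    rcases z2_cases (a' - a) with k1 | k1 <;> rcases z2_cases (b' - b) with k2 | k2 <;>
      rcases z2_cases (c' - c) with k3 | k3 <;> rw [k1, k2, k3] at e1 <;>
      simp only [zero_smul, one_smul, zero_add, add_zero] at e1 <;> try contradiction
    rw [sub_eq_zero] at k1 k2 k3 e2
    rw [k1, k2, k3, e2]
  have := Nat.card_le_card_of_injective _ hF
  simp only [Nat.card_prod, Nat.card_zmod] at this
  exact absurd (this.trans_lt h) (by norm_num)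

theorem om_of_oct {O : Finset GolayPt} (h2 : O.card = 8) {a : leechLattice}
    (h : ∀ i, a.1 i ^ 2 = if i ∈ O then 4 else 0) (a1 : a.1 none = 2) (a2 : a.1 (some 0) = -2) : Om (k0.φ a) := by
  refine om_of_dot ?_ (by rw [dot_dl, a1, a2]; norm_num)
  simp [sqNorm, h, h2]

end LeeP

open LeeP

theorem orth8 {U : AddSubgroup V24} (h1 : ∀ w ∈ U, Om (s1 + w)) (h2 : ∀ w ∈ U, om w s1 = 0) : Nat.card U ≤ 8 := by
  by_contra! h
  obtain ⟨w1, m1, n1⟩ := exists_notMem h [0] (by simp)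
  obtain ⟨w2, m2, n2⟩ := exists_notMem h [0, w1] (by simp)
  obtain ⟨w3, m3, n3⟩ := exists_notMem h [0, w1, w2] (by simp)
  obtain ⟨w4, m4, n4⟩ := exists_notMem h [0, w1, w2, w3] (by simp)
  simp only [List.forall_mem_cons] at n1 n2 n3 n4
  obtain ⟨a1, p1, q1, r1, e1⟩ := exists_a (h1 _ m1) (h2 _ m1) n1.1
  obtain ⟨a2, p2, q2, r2, e2⟩ := exists_a (h1 _ m2) (h2 _ m2) n2.1
  obtain ⟨a3, p3, q3, r3, e3⟩ := exists_a (h1 _ m3) (h2 _ m3) n3.1
  obtain ⟨a4, p4, q4, r4, e4⟩ := exists_a (h1 _ m4) (h2 _ m4) n4.1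
  have key : ∀ {a b : leechLattice} {w w' : V24}, w ∈ U → w' ∈ U → ¬ Ev w' w → sqNorm a.1 = 32 → sqNorm b.1 = 32 →
      dotInt vv.1 a.1 = 16 → dotInt vv.1 b.1 = 16 → dotInt ss.1 a.1 = 0 → dotInt ss.1 b.1 = 0 →
      Ev (k0.φ a) (s1 + w) → Ev (k0.φ b) (s1 + w') → dotInt a.1 b.1 = 0 ∧ dotInt b.1 a.1 = 0 :=
    fun {a b w w'} m m' n ha hb a1 b1 a2 b2 e e' => by
      have := e.add e'
      rw [add_add_add_comm, ww_add_self, zero_add] at this
      have k := dot_a ha hb a1 b1 a2 b2 this (fun e => n (ev_add e)) (h1 _ (add_mem m m')) (h2 _ (add_mem m m'))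
      exact ⟨k, (dotInt_comm _ _).trans k⟩
  have d12 := key m1 m2 n2.2.1 p1 p2 q1 q2 r1 r2 e1 e2
  have d13 := key m1 m3 n3.2.1 p1 p3 q1 q3 r1 r3 e1 e3
  have d14 := key m1 m4 n4.2.1 p1 p4 q1 q4 r1 r4 e1 e4
  have d23 := key m2 m3 n3.2.2.1 p2 p3 q2 q3 r2 r3 e2 e3
  have d24 := key m2 m4 n4.2.2.1 p2 p4 q2 q4 r2 r4 e2 e4
  have d34 := key m3 m4 n4.2.2.2.1 p3 p4 q3 q4 r3 r4 e3 e4
  have z : vv.1 + vv.1 - (a1.1 + a2.1 + (a3.1 + a4.1)) = 0 := sqNorm_eq_zero (by
    simp only [sqNorm_sub, sqNorm_add, Leech.dotInt_add_left, dotInt_add_right, dotInt_self, sqNorm_tK, p1, p2, p3, p4,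
      q1, q2, q3, q4, d12.1, d13.1, d14.1, d23.1, d24.1, d34.1]
    norm_num)
  have := congrArg (dotInt ss.1) (sub_eq_zero.1 z)
  simp only [dotInt_add_right, r1, r2, r3, r4, dotInt_comm ss.1 vv.1, dot_vs] at this
  omega

theorem free16 {U : AddSubgroup V24} (h0 : v0 ∈ U) (h1 : ∀ w ∈ U, om w v0 = 0) (h2 : ∀ w ∈ U, ¬ Om w) :
    16 ≤ U.index := by
  by_contra! h
  have nb : ∀ {p}, p ≠ none → p ≠ some 0 → bb p ∉ U := fun a b k => h2 _ k (Om_bb a b)
  have nw : ∀ {p}, p ≠ none → p ≠ some 0 → bb p + w0 k0 ∉ U := fun a b k => h2 _ k (Om_bw a b)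
  have pb : ∀ {p}, p ≠ none → p ≠ some 0 → om (bb p) v0 = 0 := fun a b => (Om_bb a b).perp
  have c1 : (some 1 : GolayPt) ≠ none := by decide
  have c2 : (some 1 : GolayPt) ≠ some 0 := by decide
  have hw : w0 k0 ∈ U := by
    by_contra hw
    obtain ⟨p, a, b, k1, k2⟩ := not_two (nb c1 c2) (nw c1 c2)
    exact k2 (add_assoc (bb p) _ _ ▸ dep3 h1 h (pb a b) (pb c1 c2) XP.om_w0_v0 (nb a b) (nb c1 c2) hw k1 (nw a b)
      (nw c1 c2))
  obtain ⟨p, p1, p2, k1, -⟩ := not_two (nb c1 c2) (nb c1 c2)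
  obtain ⟨r, r1, r2, k2, k3⟩ := not_two (nb c1 c2) (nb p1 p2)
  have ne : ∀ {x y}, bb x + bb y ∉ U → x ≠ y := fun k e => k (by rw [e, ww_add_self]; exact zero_mem _)
  have k4 := dep3 h1 h (pb r1 r2) (pb p1 p2) (pb c1 c2) (nb r1 r2) (nb p1 p2) (nb c1 c2) k3 k2 k1
  obtain ⟨O, o1, o2, o3, -⟩ := Cov.exists_octad_sep {none, some 0, some 1, p, r} ∅ (by simp)
    (Finset.card_le_five.trans (by simp))
  simp only [Finset.mem_insert, Finset.mem_singleton, forall_eq_or_imp, forall_eq] at o3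
  obtain ⟨m1, m2, m3, m4, m5⟩ := o3
  have f : ∀ x y, k0.φ (dlL x y + e8 y) = bb x + bb y + w0 k0 := fun x y => by
    rw [map_add, φ_e8, φ_dlL, bb, bb, φ_dlL, φ_dlL, add_add_add_comm, ww_add_self, zero_add]
  have nt : ∀ {x}, x ≠ none → x ≠ some 0 → x ∈ O → k0.φ (tw O) + bb x ∉ U := fun {x} a b c k => by
    refine h2 _ ?_ (om_of_oct o2 (a := tw O - (dlL (some 0) x + e8 x)) (fun i => ?_) ?_ ?_)
    · rw [MonRec.φ_sub, f]
      convert add_mem (add_mem k h0) hw using 1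
      abel
    all_goals simp only [AddSubgroup.coe_sub, AddSubgroup.coe_add, Pi.sub_apply, Pi.add_apply, tw_apply o1, dlL_apply,
      coe_e8, Pi.single_apply]
    · split_ifs <;> simp_all
    · simp [m1, a.symm]
    · simp [m2, b.symm]
  have n0 : k0.φ (tw O) ∉ U := fun k => by
    have d1 := ne k1
    have d2 := ne k2
    have d3 := ne k3
    refine h2 _ ?_ (om_of_oct o2 (a := tw O - (dlL (some 0) (some 1) + e8 (some 1)) - (dlL p r + e8 r))
      (fun i => ?_) ?_ ?_)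
    · rw [MonRec.φ_sub, MonRec.φ_sub, f, f]
      convert add_mem (add_mem (add_mem (add_mem k h0) hw) hw) k4 using 1
      abel
    all_goals simp only [AddSubgroup.coe_sub, AddSubgroup.coe_add, Pi.sub_apply, Pi.add_apply, tw_apply o1, dlL_apply,
      coe_e8, Pi.single_apply]
    · split_ifs <;> simp_all
    · simp [m1, p1.symm, r1.symm]
    · simp [m2, p2.symm, r2.symm, c2.symm]
  have pt : om (k0.φ (tw O)) v0 = 0 := by
    rw [om_comm, k0.om_φ, ipL_eq_zero, dot_dl, tw_apply o1, tw_apply o1, if_pos m1, if_pos m2]; rfl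
  have k5 := dep3 h1 h pt (pb p1 p2) (pb c1 c2) n0 (nb p1 p2) (nb c1 c2) (nt p1 p2 m4) (nt c1 c2 m3) k1
  refine nt r1 r2 m5 ?_
  convert add_mem k5 k4 using 1
  rw [add_assoc _ (bb p), add_assoc _ (bb p), add_add_add_comm, ww_add_self, add_zero]

theorem exists_Om_perp (w : V24) : ∃ u, Om u ∧ om w u = 0 := by
  obtain ⟨p, h1, h2, e⟩ := rel (omL w)
  exact ⟨_, Om_bb h1 h2, (om_comm _ _).trans e⟩

theorem Om.conj {w : V24} (h : Om w) (e : ZMod 2) : ∃ c ∈ CK, c * tK1 * c⁻¹ = q k0 e w := by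
  obtain ⟨b, hb, rfl, d⟩ := Om.exists h
  obtain ⟨c, e1, e2⟩ := conj_pair (κ := k0) sqNorm_tK sq_ss sqNorm_tK hb (dot_vs.trans d.symm)
    (φ_add_ne_zero sqNorm_tK hb d) 0 0 0 e
  exact ⟨c, mem_CK.2 (mul_inv_eq_iff_eq_mul.1 (tK_eq ▸ e1)), tK1_eq ▸ e2⟩

theorem ncard_Om : {x : C k0 | ∃ e w, Om w ∧ x = q k0 e w}.ncard = 9200 := by
  have := finite_C (κ := k0)
  have h1 := ncard_isConj_mul (⟨tK1, tK1_mem_CK⟩ : CK)
  have h2 := (DK.subgroupOf CK).index_mul_card
  have e1 : centralizer {(⟨tK1, tK1_mem_CK⟩ : CK)} = DK.subgroupOf CK := by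
    ext c
    rw [mem_centralizer_singleton_iff, mem_subgroupOf, mem_DK, and_iff_right (mem_CK.1 c.2), Subtype.ext_iff]
    rfl
  have e2 : {x : C k0 | ∃ e w, Om w ∧ x = q k0 e w} = Subtype.val '' {y : CK | IsConj ⟨tK1, tK1_mem_CK⟩ y} := by
    ext x
    constructor
    · rintro ⟨e, w, hw, rfl⟩
      obtain ⟨c, hc, e⟩ := hw.conj e
      exact ⟨_, isConj_iff.2 ⟨⟨c, hc⟩, rfl⟩, e⟩
    · rintro ⟨y, hy, rfl⟩
      obtain ⟨c, rfl⟩ := isConj_iff.1 hy
      exact ⟨_, _, Om_s1.cact c.2, by rw [← conj_q, ← a_eq]; rfl⟩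
  rw [e2, Set.ncard_image_of_injective _ Subtype.val_injective]
  rw [← relIndex, relIndex_DD (by decide) (by decide) (by decide), ← h1, e1] at h2
  exact (Nat.eq_of_mul_eq_mul_right Nat.card_pos h2).symm

end CfsgLib.StdB
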