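import Mathlib
import Cfsg.Agent.Lib.StdB.Fus

/-! STDB, package NRM (plans/STDB.md §NRM). -/

set_option autoImplicit false

namespace CfsgLib.StdB

open Cfsg CfsgLib.Leech CfsgLib.Mon CfsgLib.DCX CfsgLib.StdM Subgroup

variable {M G : Type*} [Group M] [Group G] {π : C k0 →* M} {τ : M} {φ : LM π →* G} {ρ : RQ →* G}

theorem Nrm.conj_e {g : G} (h1 : Commute g (qG ρ 1 0)) {w w' : V24} (hw : om w v0 = 0) (hw' : om w' v0 = 0)
    {e' : ZMod 2} (k : g * qG ρ 0 w * g⁻¹ = qG ρ e' w') (e : ZMod 2) : g * qG ρ e w * g⁻¹ = qG ρ (e' + e) w' := by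
  rcases z2_cases e with rfl | rfl
  · rw [k, add_zero]
  · rw [← qG_mul_zero _ _ hw', ← k, ← zero_add (1 : ZMod 2), ← qG_mul_zero _ _ hw, zero_add, mul_assoc _ g⁻¹,
      h1.inv_left.eq]
    simp only [mul_assoc]

theorem Acts.perp {g : G} {c : C k0} (h : Acts ρ g c) {w : V24} (hw : om w v0 = 0) : om (cact c w) v0 = 0 :=
  (om_act h.mem w).trans hw

theorem Acts.conj' {g : G} {c : C k0} (h : Acts ρ g c) {w : V24} (hw : om w v0 = 0) :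
    ∃ e', ∀ e, g * qG ρ e w * g⁻¹ = qG ρ (e' + e) (cact c w) := by
  obtain ⟨e', k⟩ := h.act w hw
  exact ⟨e', Nrm.conj_e h.z hw (h.perp hw) k⟩

theorem Acts.conj {g : G} {c : C k0} (h : Acts ρ g c) (e : ZMod 2) {w : V24} (hw : om w v0 = 0) :
    ∃ e', g * qG ρ e w * g⁻¹ = qG ρ e' (cact c w) :=
  let ⟨_, k⟩ := h.conj' hw; ⟨_, k e⟩

theorem Acts.mul {g g' : G} {c c' : C k0} (h : Acts ρ g c) (h' : Acts ρ g' c') : Acts ρ (g * g') (c * c') := by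
  refine ⟨mul_mem h.mem h'.mem, (show Commute g _ from h.z).mul_left h'.z, fun w hw => ?_⟩
  obtain ⟨e, k⟩ := h'.act w hw
  obtain ⟨e', k'⟩ := h.conj e (h'.perp hw)
  exact ⟨e', by rw [cact_mul, ← k', ← k]; group⟩

theorem Acts.inv {g : G} {c : C k0} (h : Acts ρ g c) : Acts ρ g⁻¹ c⁻¹ := by
  refine ⟨inv_mem h.mem, (show Commute g _ from h.z).inv_left, fun w hw => ?_⟩
  obtain ⟨e, k⟩ := h.conj' ((om_act (inv_mem h.mem) w).trans hw)
  have := k e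
  rw [z2_add_self, cact_cact_inv] at this
  exact ⟨e, by rw [← this]; group⟩

theorem Acts.mem_normalizer {g : G} {c : C k0} (h : Acts ρ g c) : g ∈ normalizer (ρ.range : Set G) := by
  have k : ∀ {g : G} {c : C k0}, Acts ρ g c → ∀ x ∈ ρ.range, g * x * g⁻¹ ∈ ρ.range := fun h x hx => by
    obtain ⟨e, w, hw, rfl⟩ := mem_range_iff.1 hx
    obtain ⟨e', k⟩ := h.conj e hw
    rw [k]
    exact qG_mem _ _
  refine mem_normalizer_iff.2 fun x => ⟨k h x, fun hx => ?_⟩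
  have := k h.inv _ hx
  rwa [show g⁻¹ * (g * x * g⁻¹) * g⁻¹⁻¹ = x by group] at this

theorem Ext.mem_of_triv (h : Ext τ φ ρ) {g : G} (h1 : Commute g (qG ρ 1 0))
    (h2 : ∀ w ∈ WW, ∃ e, g * qG ρ 0 w * g⁻¹ = qG ρ e w) : g ∈ ρ.range := by
  choose! l hl using h2
  have add : ∀ w ∈ WW, ∀ w' ∈ WW, l (w + w') = l w + l w' := fun w hw w' hw' => by
    have m : om (w + w') v0 = 0 := om_add0 hw.1 hw'.1
    have e := Nrm.conj_e h1 m m (hl _ (add_mem hw hw')) (0 + 0 + bet w w')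
    rw [← qG_mul 0 0 hw.1 hw'.1, ← conj_mul, hl _ hw, hl _ hw', qG_mul _ _ hw.1 hw'.1, add_zero, zero_add] at e
    exact (add_right_cancel (h.sign_inj m e)).symm
  obtain ⟨u, hu⟩ : ∃ u, ∀ w ∈ WW, om u w = l w :=
    let ⟨u, hu⟩ := exists_om_on WW (AddMonoidHom.mk' (fun w => l w.1) fun w w' => add _ w.2 _ w'.2)
    ⟨u, fun w hw => hu ⟨w, hw⟩⟩
  have u0 : om u v0 = 0 := by
    have e : qG ρ 0 v0 = qG ρ (l v0) v0 := by rw [← hl _ v0_mem, h.t_eq, mul_one, mul_inv_cancel]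
    exact (hu _ v0_mem).trans (h.sign_inj (om_self _) e).symm
  have k := h.cent (g := (qG ρ 0 u)⁻¹ * g) fun w hw => by
    have e := qG_conj (ρ := ρ) 0 0 u0 hw.1
    rw [zero_add, hu w hw, ← hl w hw, h.qG_ι 0 hw] at e
    refine mul_inv_eq_iff_eq_mul.1 ?_
    calc _ = (qG ρ 0 u)⁻¹ * (g * qL φ 0 w * g⁻¹) * qG ρ 0 u := by group
      _ = _ := by rw [← e]; group
  have ma : φ (aL π) ∈ ρ.range := h.a_eq ▸ qG_mem 0 s1
  have mz : φ (zL π) ∈ ρ.range := h.z_eq ▸ qG_mem 1 0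
  have m : (qG ρ 0 u)⁻¹ * g ∈ ρ.range := by
    rcases k with k | k | k | k <;> rw [k]
    exacts [one_mem _, mz, ma, mul_mem ma mz]
  exact (mul_mem_cancel_left (inv_mem (qG_mem 0 u))).1 m

theorem Ext.acts_eq (h : Ext τ φ ρ) {g : G} {c c' : C k0} (ha : Acts ρ g c) (ha' : Acts ρ g c') :
    c⁻¹ * c' ∈ Q k0 := by
  refine mem_Q_of_W (mul_mem (inv_mem ha.mem) ha'.mem) fun w hw => ?_
  obtain ⟨e, k⟩ := ha.act w hw.1
  obtain ⟨e', k'⟩ := ha'.act w hw.1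
  have := (h.qG_inj (ha'.perp hw.1) (ha.perp hw.1) (k'.symm.trans k)).cact (inv_mem ha.mem)
  rwa [cact_inv_cact, ← cact_mul] at this

theorem Ext.mem_iff (h : Ext τ φ ρ) {g : G} {c : C k0} (ha : Acts ρ g c) : g ∈ ρ.range ↔ c ∈ Q k0 := by
  refine ⟨fun hg => ?_, fun hc => h.mem_of_triv ha.z fun w hw => ?_⟩
  · obtain ⟨e, w, hw, rfl⟩ := mem_range_iff.1 hg
    simpa using mul_mem (q_mem_Q e w) (h.acts_eq (acts_qG e hw) ha)
  · simpa only [mem_Q_iff_cact.1 hc] using ha.act w hw.1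

theorem Nrm.key (h : Ext τ φ ρ) {g : G} {c : C k0} (hc : c ∈ CK) (hs : Ev (cact c s1) s1)
    (h1 : Commute g (qG ρ 1 0)) (h2 : ∀ e, ∀ w ∈ WW, g * qL φ e w * g⁻¹ = qL φ (e + cε c w) (cact c w)) :
    Acts ρ g c := by
  have os : ∀ w, om w v0 = 0 → om (cact c w) s1 = om w s1 := fun w hw => by
    rw [← om_cact c w s1, om_comm _ (cact c s1), hs.om ((om_act hc w).trans hw), om_comm]
  refine ⟨hc, h1, fun u hu => ?_⟩
  have cu := (om_act hc u).trans hu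
  rcases z2_cases (om u s1) with us | us
  · exact ⟨_, by rw [h.qG_ι 0 ⟨hu, us⟩, h2 0 u ⟨hu, us⟩, h.qG_ι _ ⟨cu, (os u hu).trans us⟩]⟩
  have k := h.cent (g := (qG ρ 0 (cact c u))⁻¹ * (g * qG ρ 0 u * g⁻¹)) fun w hw => by
    obtain ⟨w, rfl⟩ : ∃ w', cact c w' = w := ⟨_, cact_cact_inv c w⟩
    have w1 : om w v0 = 0 := (om_act hc w).symm.trans hw.1
    have w2 : w ∈ WW := ⟨w1, (os w w1).symm.trans hw.2⟩
    have e1 := h2 (cε c w) w w2
    have e2 := h2 (cε c w + om u w) w w2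
    rw [z2_add_self] at e1
    have e3 := qG_conj (ρ := ρ) 0 0 cu hw.1
    have e4 := qG_conj (ρ := ρ) 0 (cε c w) hu w1
    rw [om_cact, h.qG_ι _ hw, h.qG_ι _ hw] at e3
    rw [h.qG_ι _ w2, h.qG_ι _ w2] at e4
    rw [add_right_comm, z2_add_self, ← e3, ← e4] at e2
    refine mul_inv_eq_iff_eq_mul.1 ?_
    calc _ = (qG ρ 0 (cact c u))⁻¹ * (g * (qG ρ 0 u * (g⁻¹ * qL φ 0 (cact c w) * g) * (qG ρ 0 u)⁻¹) * g⁻¹) *
          qG ρ 0 (cact c u) := by group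
      _ = _ := by rw [show g⁻¹ * qL φ 0 (cact c w) * g = qL φ (cε c w) w by rw [← e1]; group, e2]; group
  have n : ∀ e, g * qG ρ 0 u * g⁻¹ ≠ qG ρ e (cact c u + s1) := fun e k => by
    have := congrArg (fun x => x * x) k
    simp only [conj_mul] at this
    rw [qG_mul_self _ hu, qG_mul_self _ (om_add0 cu om_s1_v0), Nrm.conj_e h1 (om_zero_left _) (om_zero_left _)
      (by rw [qG_zero, mul_one, mul_inv_cancel]), zero_add] at this
    have := h.sign_inj (om_zero_left _) this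
    rw [qf_add, qf_cact, qf_of_short short_s1, os u hu, us, add_zero, left_eq_add] at this
    exact one_ne_zero this
  rw [← h.a_eq, ← h.z_eq] at k
  simp only [inv_mul_eq_iff_eq_mul] at k
  rcases k with k | k | k | k
  · exact ⟨0, by rw [k, mul_one]⟩
  · exact ⟨_, by rw [k, qG_mul_zero _ _ cu]⟩
  · exact absurd (k.trans (qG_mul _ _ cu om_s1_v0)) (n _)
  · rw [qG_mul_zero _ _ om_s1_v0] at k
    exact absurd (k.trans (qG_mul _ _ cu om_s1_v0)) (n _)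

theorem Nrm.conj_D (c : DK) (e : ZMod 2) {w : V24} (hw : w ∈ WW) : cact c.1 w ∈ WW ∧
    φ (ιL π c) * qL φ e w * (φ (ιL π c))⁻¹ = qL φ (e + cε c.1 w) (cact c.1 w) := by
  have hc := mem_DK_iff.1 c.2
  have m : cact c.1 w ∈ WW := ⟨(om_act hc.1 w).trans hw.1, by rw [← hc.2.2, om_cact]; exact hw.2⟩
  refine ⟨m, ?_⟩
  rw [qL_def e hw, ← map_inv, ← map_mul, ← map_mul, ← map_inv, ← map_mul, ← map_mul]
  exact (qL_eq (congrArg π (conj_q _ _ _)) m).symm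

theorem Ext.acts_D (h : Ext τ φ ρ) (c : DK) : Acts ρ (φ (ιL π c)) c := by
  exact Nrm.key h (DK_le_CK c.2) (Or.inl (mem_DK_iff.1 c.2).2.2) (h.z_eq ▸ ι_z c) fun e w hw => (Nrm.conj_D c e hw).2

theorem Ext.acts_N (h : Ext τ φ ρ) {g : G} (h1 : Commute g (qG ρ 1 0)) {e : ZMod 2}
    (h2 : g * qG ρ 0 s1 * g⁻¹ = qG ρ e s1) : ∃ c, Acts ρ g c := by
  obtain ⟨u, u0, u1⟩ := exists_om_two XP.v0_ne (MonRec.Sv.ne short_s1)
    (add_comm v0 s1 ▸ MonRec.Sv.ne Om_s1.2) 0 e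
  have z1 : Commute (qG ρ 0 u * g) (qG ρ 1 0) := (show Commute _ _ from (acts_qG 0 u0).z).mul_left h1
  obtain ⟨c, hc, k1, -, k2⟩ := h.act_z (g := qG ρ 0 u * g) (by
    refine mul_inv_eq_iff_eq_mul.1 ?_
    rw [← h.a_eq, show qG ρ 0 u * g * qG ρ 0 s1 * (qG ρ 0 u * g)⁻¹ = qG ρ 0 u * (g * qG ρ 0 s1 * g⁻¹) * (qG ρ 0 u)⁻¹
      by group, h2, qG_conj _ _ u0 om_s1_v0, u1, z2_add_self]) (h.z_eq ▸ z1)
  have hs : Ev (cact c s1) s1 := by
    rw [StdB.a_eq, tK_eq, q_mul] at k1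
    exact k1.imp (fun k => (eq_of_conj_q k.1).2) fun k => (eq_of_conj_q k).2.trans (add_comm _ _)
  exact ⟨_, by simpa using (acts_qG (ρ := ρ) 0 u0).inv.mul (Nrm.key h hc hs z1 fun e w hw => (k2 e w hw).2)⟩

theorem Nrm.dich (h : Ext τ φ ρ) (b : DK) : ∃ δ : ZMod 2, ∀ f u, om u v0 = 0 →
    φ (ιL π b) * qG ρ f u * (φ (ιL π b))⁻¹ = qG ρ (f + cε b.1 u + δ * om u s1) (cact b.1 u) := by
  obtain ⟨u0, a0, a1⟩ := exists_om_two XP.v0_ne (MonRec.Sv.ne short_s1)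
    (add_comm v0 s1 ▸ MonRec.Sv.ne Om_s1.2) 0 1
  have ha := h.acts_D b
  obtain ⟨e0, k0⟩ := ha.conj' a0
  refine ⟨e0 + cε b.1 u0, fun f u hu => ?_⟩
  rcases z2_cases (om u s1) with us | us
  · obtain ⟨m, k⟩ := Nrm.conj_D (φ := φ) b f ⟨hu, us⟩
    rw [us, mul_zero, add_zero, h.qG_ι _ ⟨hu, us⟩, h.qG_ι _ m, k]
  obtain ⟨w, rfl⟩ : ∃ w, u = u0 + w := ⟨u0 + u, (XP.add_add' u0 u).symm⟩
  have hw : w ∈ WW := ⟨by rwa [om_add_left, a0, zero_add] at hu, by rwa [om_add_left, a1, add_eq_left] at us⟩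
  obtain ⟨m, k⟩ := Nrm.conj_D (φ := φ) b 0 hw
  rw [← h.qG_ι _ hw, ← h.qG_ι _ m] at k
  have e1 : qG ρ f (u0 + w) = qG ρ (f + bet u0 w) u0 * qG ρ 0 w := by
    rw [qG_mul _ _ a0 hw.1, add_zero, add_assoc, z2_add_self, add_zero]
  have e2 : ∀ a b c d e x y z : ZMod 2, a + b = c + d + e → x + (y + b) + (0 + d) + e = y + a + (x + c) * 1 := by
    decide
  rw [e1, ← conj_mul, k0, k, qG_mul _ _ (ha.perp a0) m.1, map_add, us, e2 _ _ _ _ _ _ _ 0 (cε_add b.1 u0 w)]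

/-- the elements which the triality moves into `Q` act exactly -/
theorem Ext.exact (h : Ext τ φ ρ) (e : ZMod 2) {w : V24} (hw : w ∈ WW) (h0 : om w (w0 k0) = 0) :
    ∃ b : DK, (q k0 e w, b.1) ∈ Gam k0 ∧ ∀ f u, om u v0 = 0 →
      φ (ιL π b) * qG ρ f u * (φ (ιL π b))⁻¹ = qG ρ (f + cε b.1 u) (cact b.1 u) := by
  let S : Subgroup (C k0) :=
    { carrier := {b | ∃ hb : b ∈ DK, ∀ f u, om u v0 = 0 →
        φ (ιL π ⟨b, hb⟩) * qG ρ f u * (φ (ιL π ⟨b, hb⟩))⁻¹ = qG ρ (f + cε b u) (cact b u)}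
      one_mem' := ⟨one_mem _, fun f u _ => by
        rw [show (⟨1, _⟩ : DK) = 1 from rfl, map_one, map_one, cε_one, cact_one, add_zero]; group⟩
      mul_mem' := by
        rintro a b ⟨ha, ka⟩ ⟨hb, kb⟩
        refine ⟨mul_mem ha hb, fun f u hu => ?_⟩
        rw [show (⟨a * b, _⟩ : DK) = ⟨a, ha⟩ * ⟨b, hb⟩ from rfl, map_mul, map_mul, cε_mul, cact_mul, ← add_assoc,
          ← ka _ _ ((om_act (DK_le_CK hb) u).trans hu), ← kb _ _ hu]
        group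
      inv_mem' := by
        rintro a ⟨ha, ka⟩
        refine ⟨inv_mem ha, fun f u hu => ?_⟩
        have := ka (f + cε a⁻¹ u) _ ((om_act (inv_mem (DK_le_CK ha)) u).trans hu)
        rw [add_assoc, ← cε_mul, mul_inv_cancel, cε_one, add_zero, cact_cact_inv] at this
        rw [show (⟨a⁻¹, _⟩ : DK) = ⟨a, ha⟩⁻¹ from rfl, map_inv, map_inv, ← this]
        group }
  obtain ⟨b, hb, ⟨_, k⟩, hg⟩ := eps (S := S) (by
    rintro _ ⟨⟨f, x, rfl⟩, hx⟩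
    refine ⟨hx, fun f' u hu => ?_⟩
    have m := q_mem_DK.1 hx
    rw [← qL_def f m, ← h.qG_ι f m, qG_conj _ _ m.1 hu, cε_q, cact_q]) (fun a ha b hb na nb => by
    obtain ⟨δ, k⟩ := Nrm.dich h ⟨a, ha⟩
    obtain ⟨δ', k'⟩ := Nrm.dich h ⟨b, hb⟩
    rcases z2_cases δ with rfl | rfl
    · exact absurd ⟨ha, fun f u hu => by rw [k f u hu, zero_mul, add_zero]⟩ na
    rcases z2_cases δ' with rfl | rfl
    · exact absurd ⟨hb, fun f u hu => by rw [k' f u hu, zero_mul, add_zero]⟩ nb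
    refine ⟨mul_mem ha hb, fun f u hu => ?_⟩
    have e1 := k (f + cε b u + 1 * om u s1) _ ((om_act (DK_le_CK hb) u).trans hu)
    have e2 : om (cact b u) s1 = om u s1 := by conv_lhs => rw [← (mem_DK_iff.1 hb).2.2, om_cact]
    rw [e2, add_right_comm _ (1 * _), add_assoc _ (1 * _), z2_add_self, add_zero, ← k' f u hu] at e1
    rw [show (⟨a * b, _⟩ : DK) = ⟨a, ha⟩ * ⟨b, hb⟩ from rfl, map_mul, map_mul, cε_mul, cact_mul, ← add_assoc, ← e1]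
    group) e hw h0
  exact ⟨⟨b, hb⟩, hg, k⟩

end CfsgLib.StdB
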