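import Mathlib
import Cfsg.Agent.Lib.StdB.Nrm
import Cfsg.Agent.Lib.StdB.Span

/-! STDB, package X (plans/STDB.md §X). -/

set_option autoImplicit false

namespace CfsgLib.StdB

open Cfsg CfsgLib.Leech CfsgLib.Mon CfsgLib.DCX CfsgLib.StdM Subgroup

variable {M G : Type*} [Group M] [Group G] {π : C k0 →* M} {τ : M} {φ : LM π →* G} {ρ : RQ →* G}

namespace XB

open XP (add_add add_add')

theorem gam_DK {a b : C k0} (e : (a, b) ∈ Gam k0) (ha : a ∈ DK) : b ∈ DK := by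
  refine ⟨(Mult.gam_CK e).1 ha.1, ?_⟩
  have h := ha.2
  rw [C1_eq] at h ⊢
  refine (Mult.gam_Cq std_k0 e ?_).1 h
  rw [φ_dlL, ← std_k0.xI_mul]; exact std_k0.isE_xI_mul _ _

theorem tau_conj (h : Emb τ φ) {a b : DK} (e : (a.1, b.1) ∈ Gam k0) :
    φ ⟨τ, tau_mem h.am⟩ * φ (ιL π b) * (φ ⟨τ, tau_mem h.am⟩)⁻¹ = φ (ιL π a) := by
  rw [← map_inv, ← map_mul, ← map_mul]
  exact congrArg φ (Subtype.ext (h.am.conj e))

theorem qf_zero' : qf (0 : V24) = 0 := by simp [Mon.qf]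

theorem qf_s1 : qf s1 = 0 := qf_of_short short_s1

theorem xb_mem : s1 + w0 k0 ∈ WW := add_mem s1_mem w0_mem

theorem om_xb_w0 : om (s1 + w0 k0) (w0 k0) = 0 := by rw [om_add_left, om_s1_w0, om_self, add_zero]

theorem qf_xb : qf (s1 + w0 k0) = 0 := by rw [qf_add, qf_s1, qf_w0, om_s1_w0]; rfl

theorem qG_split (e : ZMod 2) {w : V24} (hw : om w v0 = 0) : qG ρ e w = qG ρ e 0 * qG ρ 0 w := by
  rw [qG_mul e 0 (om_zero_left _) hw, bet_zero_left, add_zero, add_zero, zero_add]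

/-- `y` fixes `v0`, `w0` and interchanges `s1` and `s1 + w0` -/
structure Sw (y : C k0) : Prop where
  k : y ∈ CK
  s : cact y s1 = s1 + w0 k0
  w : cact y (w0 k0) = w0 k0

theorem Sw.xb {y : C k0} (h : Sw y) : cact y (s1 + w0 k0) = s1 := by rw [map_add, h.s, h.w, add_add]

theorem Sw.mem {y : C k0} (h : Sw y) {u : V24} (hu : u ∈ WW) (h0 : om u (w0 k0) = 0) :
    cact y u ∈ WW ∧ om (cact y u) (w0 k0) = 0 :=
  ⟨⟨(om_act h.k u).trans hu.1, by rw [← h.xb, om_cact, om_add_right, hu.2, h0, add_zero]⟩,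
    by rw [← h.w, om_cact, h0]⟩

theorem Sw.inv_mem {y : C k0} (h : Sw y) {u : V24} (hu : u ∈ WW) (h0 : om u (w0 k0) = 0) :
    cact y⁻¹ u ∈ WW ∧ om (cact y⁻¹ u) (w0 k0) = 0 :=
  ⟨⟨(om_act (CK.inv_mem h.k) u).trans hu.1,
      by rw [← om_cact y, cact_cact_inv, h.s, om_add_right, hu.2, h0, add_zero]⟩,
    by rw [← om_cact y, cact_cact_inv, h.w, h0]⟩

theorem conj_u (h : Ext τ φ ρ) {u : V24} (hu : om u v0 = 0) {b b2 : DK}
    (e : b2.1 = q k0 0 u * b.1 * (q k0 0 u)⁻¹)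
    (k : φ (ιL π b) * qG ρ 0 u * (φ (ιL π b))⁻¹ = qG ρ (0 + cε b.1 u) (cact b.1 u)) :
    qG ρ 0 u * φ (ιL π b) * (qG ρ 0 u)⁻¹ = φ (ιL π b2) := by
  have h1 : om (cact b.1 u) v0 = 0 := (om_act (DK_le_CK b.2) u).trans hu
  have h2 : qG ρ 0 u * (qG ρ (0 + cε b.1 u) (cact b.1 u))⁻¹ = φ (ιL π (b2 * b⁻¹)) := by
    rw [qG_def 0 hu, qG_def _ h1, ← map_inv, ← map_mul]
    refine h.ext _ _ (congrArg π ?_)
    show b2.1 * b.1⁻¹ = q k0 0 u * (q k0 _ _)⁻¹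
    rw [e, ← conj_q]; group
  rw [map_mul, map_mul, map_inv, map_inv, ← k] at h2
  calc _ = qG ρ 0 u * (φ (ιL π b) * qG ρ 0 u * (φ (ιL π b))⁻¹)⁻¹ * φ (ιL π b) := by group
    _ = _ := by rw [h2]; group

end XB

open XB

theorem Ext.exists_x (h : Ext τ φ ρ) : ∃ (x : G) (y : C k0), y ∈ CK ∧ cact y s1 = s1 + w0 k0 ∧
    cact y (w0 k0) = w0 k0 ∧ ∀ w ∈ WW, om w (w0 k0) = 0 → ∀ e, x * qG ρ e w * x⁻¹ = qG ρ (e + cε y w) (cact y w) := by
  obtain ⟨y, u, y1, y2, y3, hu, hg⟩ := exists_y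
  have hy : Sw y := ⟨y1, y2, y3⟩
  refine ⟨φ ⟨τ, tau_mem h.am⟩ * qG ρ 0 u * (φ ⟨τ, tau_mem h.am⟩)⁻¹, y, y1, y2, y3, fun w hw h0 e => ?_⟩
  obtain ⟨b, hb, hb'⟩ := h.exact e hw h0
  have h2 : (q k0 (e + cε y w) (cact y w), q k0 0 u * b.1 * (q k0 0 u)⁻¹) ∈ Gam k0 := by
    rw [← conj_q]; exact (Gam k0).mul_mem ((Gam k0).mul_mem hg hb) ((Gam k0).inv_mem hg)
  have h3 : q k0 (e + cε y w) (cact y w) ∈ DK := q_mem_DK.2 (hy.mem hw h0).1
  have k1 := tau_conj h.toEmb (a := ⟨_, q_mem_DK.2 hw⟩) (b := b) hb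
  have k2 := tau_conj h.toEmb (a := ⟨_, h3⟩) (b := ⟨_, gam_DK h2 h3⟩) h2
  rw [← qL_def e hw, ← h.qG_ι e hw] at k1
  rw [← qL_def _ (hy.mem hw h0).1, ← h.qG_ι _ (hy.mem hw h0).1,
    ← conj_u h hu (b := b) (b2 := ⟨_, gam_DK h2 h3⟩) rfl (hb' 0 u hu)] at k2
  rw [← k1, ← k2]
  group

namespace XB

open XP (add_add add_add')

/-- the classes orthogonal to `v0`, `s1` and `w0` -/
noncomputable def U3 : AddSubgroup V24 := WW ⊓ (omL (w0 k0)).ker

theorem index_U3 : U3.index ≤ 8 := by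
  have h1 : (omL (w0 k0)).ker.index ≤ 2 := by
    rw [AddSubgroup.index_ker]
    refine (AddSubgroup.card_le_card_addGroup _).trans ?_
    rw [Nat.card_zmod]
  exact AddSubgroup.index_inf_le.trans (Nat.mul_le_mul (index_perp v0 s1) h1)

theorem card_map_le {U : AddSubgroup V24} {c : C k0} (h : ∀ w ∈ U, Ev (cact c w) w) :
    Nat.card (U.map (cact c + AddMonoidHom.id V24)) ≤ 16 := by
  have : ((U.map (cact c + AddMonoidHom.id V24) : AddSubgroup V24) : Set V24) ⊆ {0, v0} := by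
    rintro _ ⟨x, hx, rfl⟩
    show cact c x + x ∈ ({0, v0} : Set V24)
    rcases h x hx with e | e <;> rw [e]
    · exact Or.inl (ww_add_self x)
    · right
      show x + v0 + x = v0
      rw [add_right_comm, ww_add_self, zero_add]
  refine (Set.ncard_le_ncard this).trans ((Set.ncard_insert_le _ _).trans ?_)
  simp

/-- the data of `exists_x` -/
structure XD (ρ : RQ →* G) (x : G) (y : C k0) : Prop extends Sw y where
  act : ∀ w ∈ WW, om w (w0 k0) = 0 → ∀ e, x * qG ρ e w * x⁻¹ = qG ρ (e + cε y w) (cact y w)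

variable {x : G} {y : C k0}

theorem XD.zero (d : XD ρ x y) (e : ZMod 2) : x * qG ρ e 0 * x⁻¹ = qG ρ e 0 := by
  rw [d.act 0 (zero_mem _) (om_zero_left _), cε_zero, map_zero, add_zero]

theorem XD.norm (d : XD ρ x y) (h : Ext τ φ ρ) (u : V24) (hu : om u v0 = 0) :
    ∃ e w, om w v0 = 0 ∧ x * qG ρ 0 u * x⁻¹ = qG ρ e w := by
  have k : ∀ w ∈ WW, om w (w0 k0) = 0 → ∀ e,
      x * qG ρ 0 u * x⁻¹ * qG ρ (e + cε y w) (cact y w) * (x * qG ρ 0 u * x⁻¹)⁻¹ =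
      qG ρ (e + om u w + cε y w) (cact y w) := fun w hw h0 e => by
    rw [← d.act w hw h0, ← d.act w hw h0, ← qG_conj 0 e hu hw.1]; group
  obtain ⟨c, hc⟩ := h.acts_N (g := x * qG ρ 0 u * x⁻¹)
    (e := cε y (s1 + w0 k0) + om u (s1 + w0 k0) + cε y (s1 + w0 k0))
    (by
      have := k 0 (zero_mem _) (om_zero_left _) 1
      rw [cε_zero, map_zero, om_zero_right, add_zero, add_zero] at this
      exact mul_inv_eq_iff_eq_mul.1 this)
    (by
      have := k _ xb_mem om_xb_w0 (cε y (s1 + w0 k0))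
      rwa [z2_add_self, d.toSw.xb] at this)
  have h2 : c * c ∈ Q k0 := (h.mem_iff (hc.mul hc)).1 (by
    have : x * qG ρ 0 u * x⁻¹ * (x * qG ρ 0 u * x⁻¹) = qG ρ (qf u) 0 := by
      rw [← d.zero, ← qG_mul_self 0 hu]; group
    rw [this]; exact qG_mem _ _)
  refine mem_range_iff.1 ((h.mem_iff hc).2 (mem_Q_of_rk h2 index_U3 (card_map_le fun w hw => ?_)))
  obtain ⟨h3, h4⟩ := d.toSw.inv_mem hw.1 hw.2
  have h5 := k _ h3 h4 0
  obtain ⟨e', h6⟩ := hc.conj (0 + cε y (cact y⁻¹ w)) hw.1.1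
  rw [cact_cact_inv, h6] at h5
  exact h.qG_inj ((om_act hc.mem w).trans hw.1.1) hw.1.1 h5

/-- `x` acts on `ρ.range` by `X` and the signs `ε` -/
structure XA (ρ : RQ →* G) (x : G) (y : C k0) (ε : V24 → ZMod 2) (X : V24 → V24) : Prop extends XD ρ x y where
  inj : ∀ {e e' v w}, om v v0 = 0 → om w v0 = 0 → qG ρ e v = qG ρ e' w → Ev v w
  sgn : ∀ {e e' w}, om w v0 = 0 → qG ρ e w = qG ρ e' w → e = e'
  mem : ∀ u, om u v0 = 0 → om (X u) v0 = 0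
  eq : ∀ u, om u v0 = 0 → x * qG ρ 0 u * x⁻¹ = qG ρ (ε u) (X u)

variable {ε : V24 → ZMod 2} {X : V24 → V24}

theorem conj_mul' (x a b : G) : x * (a * b) * x⁻¹ = x * a * x⁻¹ * (x * b * x⁻¹) := by group

theorem XA.eq' (d : XA ρ x y ε X) (e : ZMod 2) {u : V24} (hu : om u v0 = 0) :
    x * qG ρ e u * x⁻¹ = qG ρ (e + ε u) (X u) := by
  rw [qG_split e hu, conj_mul', d.toXD.zero, d.eq u hu, qG_mul _ _ (om_zero_left _) (d.mem u hu), bet_zero_left,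
    add_zero, zero_add]

theorem XA.add (d : XA ρ x y ε X) {u v : V24} (hu : om u v0 = 0) (hv : om v v0 = 0) : Ev (X (u + v)) (X u + X v) := by
  have := d.eq' (0 + 0 + bet u v) (om_add0 hu hv)
  rw [← qG_mul 0 0 hu hv, conj_mul', d.eq u hu, d.eq v hv, qG_mul _ _ (d.mem u hu) (d.mem v hv)] at this
  exact d.inj (d.mem _ (om_add0 hu hv)) (om_add0 (d.mem u hu) (d.mem v hv)) this.symm

theorem XA.qf (d : XA ρ x y ε X) {u : V24} (hu : om u v0 = 0) : qf (X u) = qf u := by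
  have := d.toXD.zero (Mon.qf u)
  rw [← qG_mul_self 0 hu, conj_mul', d.eq u hu, qG_mul_self _ (d.mem u hu), qG_mul_self _ hu] at this
  exact d.sgn (om_zero_left _) this

theorem XA.om (d : XA ρ x y ε X) {u v : V24} (hu : om u v0 = 0) (hv : om v v0 = 0) :
    om (X u) (X v) = om u v := by
  have := d.qf (om_add0 hu hv)
  rw [(d.add hu hv).qf (om_add0 (d.mem u hu) (d.mem v hv)), qf_add, qf_add, d.qf hu, d.qf hv] at this
  exact add_left_cancel this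

theorem XA.surj (d : XA ρ x y ε X) {w : V24} (hw : Mon.om w v0 = 0) : ∃ u, Mon.om u v0 = 0 ∧ Ev (X u) w := by
  have : Finite ρ.range := Finite.of_surjective (fun p : ZMod 2 × V24 => (⟨qG ρ p.1 p.2, qG_mem _ _⟩ : ρ.range))
    fun r => by
      obtain ⟨e, w, -, k⟩ := mem_range_iff.1 r.2
      exact ⟨(e, w), Subtype.ext k.symm⟩
  have k : ∀ r : ρ.range, x * r.1 * x⁻¹ ∈ ρ.range := fun r => by
    obtain ⟨e, w, h1, k⟩ := mem_range_iff.1 r.2
    rw [k, d.eq' e h1]; exact qG_mem _ _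
  obtain ⟨r, hr⟩ := Finite.surjective_of_injective (f := fun r : ρ.range => (⟨_, k r⟩ : ρ.range))
    (fun r s e => Subtype.ext (by simpa using congrArg Subtype.val e)) ⟨_, qG_mem 0 w⟩
  obtain ⟨e, u, h1, h2⟩ := mem_range_iff.1 r.2
  have h3 : x * r.1 * x⁻¹ = qG ρ 0 w := congrArg Subtype.val hr
  rw [h2, d.eq' e h1] at h3
  exact ⟨u, h1, d.inj (d.mem u h1) hw h3⟩

theorem XA.perp (d : XA ρ x y ε X) {u : V24} (hu : u ∈ WW) (h0 : Mon.om u (w0 k0) = 0) : Ev (X u) (cact y u) :=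
  d.inj (d.mem u hu.1) (d.toSw.mem hu h0).1.1 ((d.eq u hu.1).symm.trans (d.act u hu h0 0))

/-- the defect `y⁻¹ X u + u` -/
theorem XA.lam (d : XA ρ x y ε X) : ∃ l : V24 → V24, (∀ u, X u = cact y (u + l u)) ∧
    (∀ u v, Mon.om u v0 = 0 → Mon.om v v0 = 0 → Ev (l (u + v)) (l u + l v)) ∧
    (∀ u ∈ WW, Mon.om u (w0 k0) = 0 → Ev (l u) 0) ∧ (∀ u, Mon.om u v0 = 0 → Mon.om u (l u) = 0) ∧
    ∀ u, Mon.om u v0 = 0 → Ev (l u) 0 ∨ Ev (l u) s1 ∨ Ev (l u) (w0 k0) ∨ Ev (l u) (s1 + w0 k0) := by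
  have h5 : ∀ u, Mon.om u v0 = 0 → Ev (u + cact y⁻¹ (X u)) 0 ∨ Ev (u + cact y⁻¹ (X u)) s1 ∨
      Ev (u + cact y⁻¹ (X u)) (w0 k0) ∨ Ev (u + cact y⁻¹ (X u)) (s1 + w0 k0) := fun u hu => perp3 fun w hw h0 => by
    rw [om_add_right, ← om_cact y w (cact _ _), cact_cact_inv, ← (d.perp hw h0).om (d.mem u hu), d.om hw.1 hu,
      z2_add_self]
  refine ⟨fun u => u + cact y⁻¹ (X u), fun u => by rw [add_add', cact_cact_inv], fun u v hu hv => ?_,
    fun u hu h0 => ?_, fun u hu => ?_, h5⟩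
  · have := (Ev.refl (u + v)).add ((d.add hu hv).cact (inv_mem d.k))
    rwa [map_add, add_add_add_comm] at this
  · have := (Ev.refl u).add ((d.perp hu h0).cact (inv_mem d.k))
    rwa [cact_inv_cact, ww_add_self] at this
  · have h2 := qf_add u (u + cact y⁻¹ (X u))
    have h3 : Mon.qf (u + cact y⁻¹ (X u)) = 0 := by
      rcases h5 u hu with e | e | e | e
      exacts [(e.qf (om_zero_left _)).trans qf_zero', (e.qf om_s1_v0).trans qf_s1, (e.qf w0_mem.1).trans qf_w0,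
        (e.qf xb_mem.1).trans qf_xb]
    rw [add_add', qf_cact, d.qf hu, h3, add_zero] at h2
    exact left_eq_add.1 h2

theorem XA.cases (d : XA ρ x y ε X) : (∀ u, Mon.om u v0 = 0 → Ev (X u) (cact y u)) ∨
    ∀ u ∈ WW, Mon.om u (w0 k0) = 1 → Ev (X u) (cact y u + (s1 + w0 k0)) := by
  obtain ⟨l, h1, h2, h3, h4, h5⟩ := d.lam
  have k : ∀ u ∈ WW, ∀ m, Mon.om m v0 = 0 → Mon.om u (w0 k0) = 1 → Mon.om u (l m) = 0 → Ev (l m) 0 ∨ Ev (l m) s1 :=
    fun u a m hm b c => by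
    rw [om_comm] at c
    rcases h5 m hm with e | e | e | e
    exacts [Or.inl e, Or.inr e, absurd ((e.om a.1).symm.trans c) (by rw [om_comm, b]; decide),
      absurd ((e.om a.1).symm.trans c) (by rw [om_comm, om_add_right, a.2, b]; decide)]
  by_cases hA : ∃ u ∈ WW, Mon.om u (w0 k0) = 1 ∧ Ev (l u) 0
  · obtain ⟨u, a, b, c⟩ := hA
    refine Or.inl fun m hm => ?_
    have e0 : Ev (l (m + u)) (l m) := by
      have := (h2 m u hm a.1).trans ((Ev.refl _).add c)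
      rwa [add_zero] at this
    have e1 := h4 (m + u) (om_add0 hm a.1)
    rw [om_comm, e0.om (om_add0 hm a.1), om_comm, om_add_left, h4 m hm, zero_add] at e1
    have : Ev (l m) 0 := by
      refine (k u a m hm b e1).elim id fun e => ?_
      have e2 := h4 m hm
      rw [om_comm, e.om hm, om_comm] at e2
      rcases z2_cases (Mon.om m (w0 k0)) with e3 | e3
      · exact h3 m ⟨hm, e2⟩ e3
      · exact e0.symm.trans (h3 (m + u) (add_mem ⟨hm, e2⟩ a) (by rw [om_add_left, e3, b]; rfl))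
    have e4 := ((Ev.refl m).add this).cact d.k
    rwa [add_zero, ← h1] at e4
  · refine Or.inr fun u a b => ?_
    have e4 := ((Ev.refl u).add ((k u a u a.1 b (h4 u a.1)).resolve_left fun e => hA ⟨u, a, b, e⟩)).cact d.k
    rwa [← h1, map_add, d.s] at e4

theorem XA.not_two (d : XA ρ x y ε X) (h : Ext τ φ ρ)
    (k : ∀ u ∈ WW, Mon.om u (w0 k0) = 1 → Ev (X u) (cact y u + (s1 + w0 k0))) : False := by
  obtain ⟨a, c, hc, a1, a2, a3, a5, a6⟩ := wit_x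
  have hc' := mem_DK_iff.1 hc
  have b0 : Om (cact y⁻¹ a) := a1.cact (inv_mem d.k)
  have b1 : cact y⁻¹ a ∈ WW := ⟨b0.perp, by rw [← om_cact y, cact_cact_inv, d.s, a2]⟩
  have b2 : Mon.om (cact y⁻¹ a) (w0 k0) = 1 := by
    rw [← om_cact y, cact_cact_inv, d.w]
    rw [om_add_right, a3] at a2
    revert a2; generalize Mon.om a (w0 k0) = t; revert t; decide
  have he := h.toEmb.isConj_Om h.az 0 b1 b0
  rw [← h.qG_ι 0 b1] at he
  have t1 := he.trans (isConj_iff.2 ⟨x, d.eq _ b1.1⟩)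
  have e1 := k _ b1 b2
  rw [cact_cact_inv] at e1
  obtain ⟨f, hf⟩ := (h.acts_D ⟨c, hc⟩).conj (ε (cact y⁻¹ a)) (d.mem _ b1.1)
  have t2 := t1.trans (isConj_iff.2 ⟨_, hf⟩)
  have e2 : Ev (cact c (X (cact y⁻¹ a))) (cact c (a + (s1 + w0 k0))) := e1.cact hc'.1
  have p0 : Mon.om (cact c (a + (s1 + w0 k0))) v0 = 0 := (om_act hc'.1 _).trans (om_add0 a1.perp xb_mem.1)
  obtain ⟨a', c0, ha'⟩ := d.surj p0
  have c1 : Mon.om a' s1 = 0 := by
    rw [← d.om c0 om_s1_v0, ha'.om (d.mem _ om_s1_v0), om_comm, (d.perp s1_mem om_s1_w0).om p0, d.s, om_comm, a5]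
  have c2 : Mon.om a' (w0 k0) = 1 := by
    have e1 : Mon.om (cact c (a + (s1 + w0 k0))) s1 = 1 := by
      have := om_cact c (a + (s1 + w0 k0)) s1
      rw [hc'.2.2] at this
      rw [this, om_add_left, xb_mem.2, add_zero, a3]
    rw [om_add_right, e1] at a5
    rw [← d.om c0 w0_mem.1, ha'.om (d.mem _ w0_mem.1), om_comm, (d.perp w0_mem (om_self _)).om p0, d.w, om_comm]
    revert a5; generalize Mon.om _ (w0 k0) = t; revert t; decide
  obtain ⟨f', hf'⟩ := h.qG_ev (e2.trans ha'.symm) (d.mem a' c0) f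
  have t3 : IsConj (qG ρ (f' + ε a') a') (qG ρ f' (X a')) :=
    isConj_iff.2 ⟨x, by rw [d.eq' _ c0, add_assoc, z2_add_self, add_zero]⟩
  have t4 := t2.trans (hf' ▸ t3.symm)
  rw [h.qG_ι _ ⟨c0, c1⟩] at t4
  have o := (h.toEmb.Om_of ⟨c0, c1⟩ t4).cact d.k
  have e3 := (ha'.symm.trans (k a' ⟨c0, c1⟩ c2)).add (Ev.refl (s1 + w0 k0))
  rw [add_add] at e3
  exact a6 (o.of_ev e3)

end XB

theorem Ext.exists_acts (h : Ext τ φ ρ) : ∃ x y, Acts ρ x y ∧ cact y s1 = s1 + w0 k0 := by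
  obtain ⟨x, y, h0, h1, h2, hx⟩ := h.exists_x
  have d : XD ρ x y := ⟨⟨h0, h1, h2⟩, hx⟩
  choose! ε X hX0 hX using d.norm h
  have d' : XA ρ x y ε X := ⟨d, h.qG_inj, h.sign_inj, hX0, hX⟩
  refine ⟨x, y, ⟨h0, mul_inv_eq_iff_eq_mul.1 (d.zero 1), fun w hw => ?_⟩, h1⟩
  rw [hX w hw]
  exact h.qG_ev (d'.cases.resolve_right (d'.not_two h) w hw) ((om_act h0 w).trans hw) _

end CfsgLib.StdB
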