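import Mathlib
import Cfsg.Agent.Lib.BabRec.Lat
import Cfsg.Agent.Lib.StdB.X
import Cfsg.Agent.Lib.StdB.Gen
import Cfsg.Agent.Lib.StdB.Lee
import Cfsg.Agent.Lib.BabRec.Fix

/-! STDB, package ACT (plans/STDB.md §ACT). -/

set_option autoImplicit false

namespace CfsgLib.StdB

open Cfsg CfsgLib.Leech CfsgLib.Mon CfsgLib.DCX CfsgLib.StdM Subgroup

variable {M G : Type*} [Group M] [Group G] {π : C k0 →* M} {τ : M} {φ : LM π →* G} {ρ : RQ →* G}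

theorem Ext.all_acts (h : Ext τ φ ρ) {c : C k0} (hc : c ∈ CK) : ∃ g, Acts ρ g c := by
  let Y : Subgroup (C k0) :=
    { carrier := {c | ∃ g, Acts ρ g c}
      one_mem' := ⟨_, q_zero (κ := k0) ▸ acts_qG 0 (om_zero_left _)⟩
      mul_mem' := fun ⟨_, a⟩ ⟨_, b⟩ => ⟨_, a.mul b⟩
      inv_mem' := fun ⟨_, a⟩ => ⟨_, a.inv⟩ }
  obtain ⟨x, y, h1, h2⟩ := h.exists_acts
  refine gen_top (Y := Y) (fun c hc => ⟨_, h.acts_D ⟨c, hc⟩⟩) ?_ ⟨x, h1⟩ h1.mem h2 hc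
  rintro _ ⟨⟨e, w, rfl⟩, k⟩
  exact ⟨_, acts_qG e (q_mem_CK_iff.1 k)⟩

theorem Ext.exists_conj (h : Ext τ φ ρ) (e : ZMod 2) {w : V24} (hw : Om w) :
    ∃ g c, Acts ρ g c ∧ g * qG ρ 0 s1 * g⁻¹ = qG ρ e w := by
  obtain ⟨u, u0, u1⟩ := exists_om_two XP.v0_ne (MonRec.Sv.ne hw.1) (add_comm v0 w ▸ MonRec.Sv.ne hw.2) 0 1
  obtain ⟨c, hc, k0⟩ := hw.conj e
  obtain ⟨g, hg⟩ := h.all_acts hc
  obtain ⟨e', k⟩ := hg.act s1 om_s1_v0
  rw [StdB.a_eq] at k0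
  rw [(eq_of_conj_q k0).2] at k
  by_cases e1 : e' = e
  · exact ⟨g, c, hg, e1 ▸ k⟩
  · refine ⟨_, _, (acts_qG 0 u0).mul hg, ?_⟩
    rw [(by decide : ∀ e e' : ZMod 2, e' ≠ e → e = e' + 1) e e' e1, ← u1, ← qG_conj 0 _ u0 hw.perp, ← k]; group

theorem Ext.isConj_iff (h : Ext τ φ ρ) {e : ZMod 2} {w : V24} (hw : om w v0 = 0) :
    IsConj (qG ρ 0 s1) (qG ρ e w) ↔ Om w := by
  refine ⟨fun k => ?_, fun hw => let ⟨g, _, _, k⟩ := h.exists_conj e hw; _root_.isConj_iff.2 ⟨g, k⟩⟩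
  obtain ⟨u, hu, k1⟩ := exists_Om_perp w
  obtain ⟨c, hc, k2⟩ := hu.conj 0
  obtain ⟨g, hg⟩ := h.all_acts (inv_mem hc)
  obtain ⟨e', k3⟩ := hg.conj e hw
  rw [StdB.a_eq] at k2
  have m : cact c⁻¹ w ∈ WW := ⟨hg.perp hw, by rw [← om_cact c, cact_cact_inv, (eq_of_conj_q k2).2, k1]⟩
  rw [h.a_eq] at k
  have := (h.Om_of m (e := e') (k.trans (_root_.isConj_iff.2 ⟨g, k3.trans (h.qG_ι e' m)⟩))).cact hc
  rwa [cact_cact_inv] at this

theorem Ext.acts_of_norm (h : Ext τ φ ρ) {g : G} (hz : Commute g (qG ρ 1 0))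
    (hn : g ∈ normalizer (ρ.range : Set G)) : ∃ c, Acts ρ g c := by
  obtain ⟨e, w, hw, k⟩ := mem_range_iff.1 ((mem_normalizer_iff.1 hn _).1 (qG_mem 0 s1))
  obtain ⟨g', c, ha, k'⟩ := h.exists_conj e ((h.isConj_iff hw).1 (_root_.isConj_iff.2 ⟨g, k⟩))
  obtain ⟨d, hd⟩ := h.acts_N (g := g'⁻¹ * g) (e := 0) ((show Commute g'⁻¹ _ from ha.inv.z).mul_left hz) (by
    rw [show g'⁻¹ * g * qG ρ 0 s1 * (g'⁻¹ * g)⁻¹ = g'⁻¹ * (g * qG ρ 0 s1 * g⁻¹) * g' by group, k, ← k']; group)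
  have := ha.mul hd
  rw [mul_inv_cancel_left] at this
  exact ⟨_, this⟩

theorem Ext.es (h : Ext τ φ ρ) : ExtraTwo.ES ρ.range (qG ρ 1 0) := by
  have cm : ∀ {e e' v w}, om v v0 = 0 → om w v0 = 0 →
      qG ρ e v * qG ρ e' w = qG ρ (om v w) 0 * (qG ρ e' w * qG ρ e v) := fun {e e' v w} hv hw => by
    rw [← mul_assoc, ← mul_inv_eq_iff_eq_mul, qG_conj e e' hv hw, qG_mul _ _ (om_zero_left _) hw]
    simp [add_comm]
  refine ⟨h.z_ne, by rw [qG_mul_zero _ _ (om_zero_left _), z2_add_self, qG_zero], qG_mem _ _, ?_, fun x hx k => ?_,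
    fun x hx y hy => ?_, ?_⟩
  · rintro _ ⟨x, rfl⟩
    exact qG_z x
  · obtain ⟨e, w, hw, rfl⟩ := mem_range_iff.1 hx
    have : ∀ y, om y v0 = 0 → om y w = 0 := fun y hy => by
      have h1 := qG_conj (ρ := ρ) 0 e hy hw
      rw [k _ (qG_mem _ _), mul_inv_cancel_right] at h1
      exact left_eq_add.1 (h.sign_inj hw h1)
    have ev : Ev w 0 := by
      rcases perp_perp (u := v0) (w := v0) (fun y hy => this y hy.1) with e | e | e | e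
      exacts [Or.inl e, Or.inr (e.trans (zero_add _).symm), Or.inr (e.trans (zero_add _).symm),
        Or.inl (e.trans (ww_add_self _))]
    obtain ⟨e', k⟩ := h.qG_ev ev (om_zero_left _) e
    rw [k]
    exact (z2_cases e').imp (fun e => by rw [e, qG_zero]) fun e => by rw [e]
  · obtain ⟨e, v, hv, rfl⟩ := mem_range_iff.1 hx
    obtain ⟨e', w, hw, rfl⟩ := mem_range_iff.1 hy
    rw [cm hv hw]
    exact (z2_cases (om v w)).imp (fun e => by rw [e, qG_zero, one_mul]) fun e => by rw [e]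
  · obtain ⟨u, u0, u1⟩ := exists_om_two XP.v0_ne (MonRec.Sv.ne short_s1)
      (add_comm v0 s1 ▸ MonRec.Sv.ne Om_s1.2) 0 1
    refine ⟨_, qG_mem 0 u, _, qG_mem 0 s1, fun k => h.z_ne ?_⟩
    rwa [cm u0 om_s1_v0, u1, mul_eq_right] at k

theorem Ext.ncard_pre (h : Ext τ φ ρ) {S : Set G} (hS : S ⊆ ρ.range) : (ρ ⁻¹' S).ncard = 2 * S.ncard := by
  let t : RQ := ⟨q k0 0 v0, q_mem_RQ.2 (om_self _)⟩
  have t1 : ρ t = 1 := (qG_def 0 (om_self _)).symm.trans h.t_eq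
  have t2 : t ≠ 1 := fun e => XP.v0_ne (q_inj ((congrArg Subtype.val e).trans q_zero.symm)).2
  have ker : ∀ x : RQ, ρ x = 1 → x = 1 ∨ x = t := by
    intro x k1
    obtain ⟨e, w, hx⟩ := x.2.1
    have hw : om w v0 = 0 := q_mem_CK_iff.1 (hx ▸ x.2.2 :)
    have k2 : qG ρ e w = qG ρ 0 0 :=
      ((qG_def e hw).trans ((congrArg ρ (Subtype.ext hx.symm)).trans k1)).trans qG_zero.symm
    rcases h.qG_inj hw (om_zero_left _) k2 with k3 | k3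
    · rw [k3] at k2 hx
      rw [h.sign_inj (om_zero_left _) k2, q_zero] at hx
      exact Or.inl (Subtype.ext hx)
    · rw [zero_add] at k3
      rw [k3] at k2 hx
      rw [h.sign_inj (om_self _) (k2.trans (qG_zero.trans h.t_eq.symm))] at hx
      exact Or.inr (Subtype.ext hx)
  obtain ⟨f, hf⟩ : ∃ f : G → RQ, ∀ {y}, y ∈ S → ρ (f y) = y := by
    choose! f hf using fun y (hy : y ∈ S) => (hS hy : ∃ x, ρ x = y)
    exact ⟨f, fun hy => hf _ hy⟩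
  have e : ρ ⁻¹' S = (fun p : Bool × G => bif p.1 then f p.2 * t else f p.2) '' (Set.univ ×ˢ S) := by
    ext x
    constructor
    · intro hx
      rcases ker ((f (ρ x))⁻¹ * x) (by rw [map_mul, map_inv, hf hx, inv_mul_cancel]) with k | k
      · exact ⟨(false, ρ x), ⟨trivial, hx⟩, inv_mul_eq_one.1 k⟩
      · exact ⟨(true, ρ x), ⟨trivial, hx⟩, (inv_mul_eq_iff_eq_mul.1 k).symm⟩
    · rintro ⟨⟨_ | _, y⟩, ⟨-, hy⟩, rfl⟩
      · show ρ (f y) ∈ S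
        rwa [hf hy]
      · show ρ (f y * t) ∈ S
        rwa [map_mul, t1, mul_one, hf hy]
  rw [e, Set.InjOn.ncard_image, Set.ncard_prod, Set.ncard_univ, Nat.card_eq_fintype_card, Fintype.card_bool]
  rintro ⟨a, x⟩ ⟨-, hx⟩ ⟨b, y⟩ ⟨-, hy⟩ k
  obtain rfl : x = y := by
    have := congrArg ρ k
    cases a <;> cases b <;> simpa only [cond_true, cond_false, map_mul, t1, mul_one, hf hx, hf hy] using this
  cases a <;> cases b
  exacts [rfl, absurd (left_eq_mul.1 k) t2, absurd (mul_eq_left.1 k) t2, rfl]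

theorem Ext.card_range (h : Ext τ φ ρ) : Nat.card ρ.range = 2 ^ 23 := by
  have h1 := h.ncard_pre (S := ρ.range) subset_rfl
  rw [show ρ ⁻¹' (ρ.range : Set G) = Set.univ from Set.eq_univ_of_forall fun x => ⟨x, rfl⟩, Set.ncard_univ,
    ← Nat.card_coe_set_eq, SetLike.coe_sort_coe] at h1
  have h2 : RQ.relIndex (Q k0) = 2 := by
    obtain ⟨u, hu⟩ := exists_om_one XP.v0_ne
    refine relIndex_eq_two_iff.2 ⟨_, q_mem_Q 0 u, ?_⟩
    rintro _ ⟨e, w, rfl⟩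
    rw [q_mul, q_mem_RQ, q_mem_RQ, om_add_left, hu]
    generalize om w v0 = a
    revert a; decide
  have h3 := Core.card_mul_relIndex_of_le (show RQ ≤ Q k0 from inf_le_left)
  rw [h2, card_Q, h1] at h3
  omega

theorem Ext.bs (h : Ext τ φ ρ) (hn : ∀ g, Commute g (qG ρ 1 0) → g ∈ normalizer (ρ.range : Set G)) :
    ∃ e, BabRec.BS ρ.range (qG ρ 1 0) e := by
  obtain ⟨σ, h1, -, h3⟩ := BabRec.exists_σ
  choose c hc using fun g : centralizer ({qG ρ 1 0} : Set G) =>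
    h.acts_of_norm (mem_centralizer_singleton_iff.1 g.2) (hn _ (mem_centralizer_singleton_iff.1 g.2))
  have eq : ∀ {g a b} (ha : Acts ρ g a) (hb : Acts ρ g b), σ ⟨a, ha.mem⟩ = σ ⟨b, hb.mem⟩ := fun ha hb => by
    rw [← inv_mul_eq_one, ← map_inv, ← map_mul, h3]
    exact h.acts_eq ha hb
  refine ⟨BabRec.RR.subtype.comp (MonoidHom.mk' (fun g => σ ⟨c g, (hc g).mem⟩) fun a b => by
      rw [← map_mul]; exact eq (hc (a * b)) ((hc a).mul (hc b))),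
    ⟨h.es, fun g hg => h.es.center g (h.mem_of_triv (hg _ (qG_mem _ _)).symm fun w _ =>
      ⟨0, by rw [← hg _ (qG_mem _ _), mul_inv_cancel_right]⟩) hg,
      fun g hg x => (mem_normalizer_iff.1 (hn g hg) x).1⟩, h.card_range, le_antisymm ?_ fun x hx => ?_, fun g => ?_⟩
  · rintro _ ⟨g, rfl⟩
    exact (σ _).2
  · obtain ⟨d, hd⟩ := h1 ⟨x, hx⟩
    obtain ⟨g, hg⟩ := h.all_acts d.2
    exact ⟨⟨g, mem_centralizer_singleton_iff.2 hg.z⟩, congrArg Subtype.val ((eq (hc _) hg).trans hd)⟩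
  · exact (OneMemClass.coe_eq_one.trans (h3 _)).trans (h.mem_iff (hc g)).symm

theorem Ext.conj_z (h : Ext τ φ ρ) :
    ∃ g : G, g * qG ρ 1 0 * g⁻¹ ∈ ρ.range ∧ g * qG ρ 1 0 * g⁻¹ ≠ qG ρ 1 0 := by
  have k : φ ⟨τ, tau_mem h.am⟩ * qG ρ 1 0 * (φ ⟨τ, tau_mem h.am⟩)⁻¹ = qG ρ 0 (w0 k0) := by
    rw [h.z_eq, ← map_inv, ← map_mul, ← map_mul]
    exact (h.qG_eq h.am.conj_z XP.om_w0_v0).symm
  refine ⟨φ ⟨τ, tau_mem h.am⟩, by rw [k]; exact qG_mem _ _, fun e => ?_⟩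
  rcases h.qG_inj XP.om_w0_v0 (om_zero_left _) (k.symm.trans e) with e | e
  · exact w0_ne_zero e
  · exact Four.not_short (w := w0 k0) ⟨_, sqNorm_e8 none, rfl⟩ (by rw [e, zero_add]; exact short_v0)

end CfsgLib.StdB
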