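import Mathlib
import Cfsg.Agent.Lib.StdB.Act
import Cfsg.Agent.Lib.StdM.TI

/-! STDB, package TIG (plans/STDB.md §TIG). -/

set_option autoImplicit false

namespace CfsgLib.StdB

open Cfsg CfsgLib.Leech CfsgLib.Mon CfsgLib.DCX CfsgLib.StdM Subgroup

variable {M G : Type*} [Group M] [Group G] {π : C k0 →* M} {τ : M} {φ : LM π →* G} {ρ : RQ →* G}

namespace Tig

theorem idx2 {A B : AddSubgroup V24} (h : A ≤ B) (h2 : ∀ x ∈ B, ∀ y ∈ B, x ∉ A → y ∉ A → x + y ∈ A) :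
    A.index ≤ 2 * B.index := by
  rw [← AddSubgroup.relIndex_mul_index h]
  refine Nat.mul_le_mul_right _ ?_
  by_cases k : B ≤ A
  · rw [AddSubgroup.relIndex_eq_one.2 k]; omega
  obtain ⟨a, ha, na⟩ := SetLike.not_le_iff_exists.1 k
  refine (AddSubgroup.relIndex_eq_two_iff.2 ⟨a, ha, fun b hb => ?_⟩).le
  by_cases e : b ∈ A
  · exact Or.inr ⟨e, fun k => na ((add_mem_cancel_left e).1 k)⟩
  · exact Or.inl ⟨h2 b hb a ha e na, e⟩

theorem comm0 {g : G} (hg : Commute g (qG ρ 1 0)) (e : ZMod 2) : Commute g (qG ρ e 0) := by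
  rcases z2_cases e with rfl | rfl
  · rw [qG_zero]; exact Commute.one_right g
  · exact hg

theorem split (e f : ZMod 2) {w : V24} (hw : om w v0 = 0) : qG ρ f w = qG ρ e w * qG ρ (e + f) 0 := by
  rw [qG_mul_zero _ _ hw, ← add_assoc, z2_add_self, zero_add]

theorem uq (h : Ext τ φ ρ) {g : G} (hg : Commute g (qG ρ 1 0)) {x y w : V24} {e e' f f' : ZMod 2}
    (hx : om x v0 = 0) (hw : om w v0 = 0) (hy : om y v0 = 0) (k : g * qG ρ e x * g⁻¹ = qG ρ e' w)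
    (k' : g * qG ρ f x * g⁻¹ = qG ρ f' y) : Ev w y := by
  rw [split e f hx, ← conj_mul, k, (comm0 hg _).eq, mul_inv_cancel_right, qG_mul_zero _ _ hw] at k'
  exact h.qG_inj hw hy k'

theorem a_sq : qG ρ 0 s1 * qG ρ 0 s1 = 1 := by rw [qG_mul_self _ om_s1_v0, qf_of_short short_s1, qG_zero]

theorem exists_az (ρ : RQ →* G) : ∃ u, om u v0 = 0 ∧ qG ρ 0 u * qG ρ 0 s1 * (qG ρ 0 u)⁻¹ = qG ρ 0 s1 * qG ρ 1 0 := by
  obtain ⟨u, u0, u1⟩ := exists_om_two XP.v0_ne (MonRec.Sv.ne short_s1) (add_comm v0 s1 ▸ MonRec.Sv.ne Om_s1.2) 0 1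
  exact ⟨u, u0, by rw [qG_conj _ _ u0 om_s1_v0, u1, qG_mul_zero _ _ om_s1_v0]⟩

theorem neg_eq (x : V24) : -x = x := neg_eq_of_add_eq_zero_right (ww_add_self x)

end Tig

open Tig in
theorem Ext.three (h : Ext τ φ ρ) {g : G} (hg : Commute g (qG ρ 1 0))
    (hn : g * qG ρ 0 s1 * g⁻¹ ∈ normalizer (ρ.range : Set G)) : g * qG ρ 0 s1 * g⁻¹ ∈ ρ.range := by
  have s2 : g * qG ρ 0 s1 * g⁻¹ * (g * qG ρ 0 s1 * g⁻¹) = 1 := by rw [conj_mul, a_sq, mul_one, mul_inv_cancel]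
  have az : Commute (qG ρ 0 s1) (qG ρ 1 0) := (acts_qG 0 om_s1_v0).z
  have h2 : Commute (g * qG ρ 0 s1 * g⁻¹) (qG ρ 1 0) := (hg.mul_left az).mul_left hg.inv_left
  have h3 : IsConj (φ (aL π)) (g * qG ρ 0 s1 * g⁻¹) := h.a_eq ▸ _root_.isConj_iff.2 ⟨g, rfl⟩
  have h4 : IsConj (φ (aL π)) (g * qG ρ 0 s1 * g⁻¹ * qG ρ 1 0) := h.az.trans (_root_.isConj_iff.2 ⟨g, by
    rw [← h.a_eq, ← h.z_eq, ← conj_mul, hg.eq, mul_inv_cancel_right]⟩)
  have iff : ∀ x, InL φ (g * qG ρ 0 s1 * g⁻¹) x ↔ g⁻¹ * x * g ∈ φ.range := fun x => h.a_eq ▸ h.inL_iff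
  have hs' : g * qG ρ 0 s1 * g⁻¹ = g * φ (aL π) * g⁻¹ := by rw [h.a_eq]
  generalize g * qG ρ 0 s1 * g⁻¹ = s at *
  have lz : ∀ e, InL φ s (qG ρ e 0) := fun e => (iff _).2 (by
    rw [mul_assoc, ← (comm0 hg e).eq, inv_mul_cancel_left, h.qG_ι e (zero_mem _), qL_def e (zero_mem _)]
    exact ⟨_, rfl⟩)
  obtain ⟨c, hc⟩ := h.acts_of_norm h2 hn
  have c2 : c * c ∈ Q k0 := (h.mem_iff (hc.mul hc)).1 (s2 ▸ one_mem _)
  have cc : ∀ u, cact c (cact c u) = u := fun u => by rw [← cact_mul, mem_Q_iff_cact.1 c2]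
  obtain ⟨N, hN⟩ : ∃ N : V24 →+ V24, N = cact c + AddMonoidHom.id V24 := ⟨_, rfl⟩
  have eN : ∀ u, N u = cact c u + u := fun u => by rw [hN]; rfl
  have N0 : ∀ {u}, om u v0 = 0 → om (N u) v0 = 0 := fun hu => by rw [eN]; exact om_add0 (hc.perp hu) hu
  have om0 : ∀ u u', om (N u) (N u') = 0 := fun u u' => by
    rw [eN, eN, om_add_left, om_add_right, om_add_right, om_cact, ← om_cact c u (cact c u'), cc]
    generalize om u u' = a
    generalize om (cact c u) u' = b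
    revert a b; decide
  have zeta : ∀ u, om u v0 = 0 → ∃ e, (qG ρ 0 u)⁻¹ * s * qG ρ 0 u = qG ρ e (N u) * s := fun u hu => by
    obtain ⟨e, k⟩ := hc.act u hu
    refine ⟨e + bet u (N u), ?_⟩
    have e1 : qG ρ 0 u * qG ρ (e + bet u (N u)) (N u) = qG ρ e (cact c u) := by
      rw [qG_mul _ _ hu (N0 hu), zero_add, add_assoc, z2_add_self, add_zero, eN, add_comm (cact c u), XP.add_add']
    rw [← mul_right_inj (qG ρ 0 u), ← mul_assoc _ _ s, e1, ← k]
    group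
  have cj : ∀ {x}, IsConj (φ (aL π)) x → ∀ r, IsConj (φ (aL π)) (r⁻¹ * x * r) := fun k r =>
    k.trans (_root_.isConj_iff.2 ⟨r⁻¹, by rw [inv_inv]⟩)
  have cm : ∀ u, om u v0 = 0 → qf (N u) = 0 → Commute (qG ρ 0 (N u)) s := fun u hu hq => by
    obtain ⟨e, k⟩ := zeta u hu
    have q2 : qG ρ e (N u) * qG ρ e (N u) = 1 := by rw [qG_mul_self _ (N0 hu), hq, qG_zero]
    have : qG ρ e (N u) * s * (qG ρ e (N u) * s) = 1 := by
      rw [← k, show (qG ρ 0 u)⁻¹ * s * qG ρ 0 u * ((qG ρ 0 u)⁻¹ * s * qG ρ 0 u) =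
        (qG ρ 0 u)⁻¹ * (s * s) * qG ρ 0 u by group, s2, mul_one, inv_mul_cancel]
    have c1 : Commute (qG ρ e (N u)) s := by
      rw [Commute, SemiconjBy, ← inv_eq_of_mul_eq_one_right this, mul_inv_rev, inv_eq_of_mul_eq_one_right s2,
        inv_eq_of_mul_eq_one_right q2]
    rw [split e 0 (N0 hu)]
    exact c1.mul_left (comm0 h2 _).symm
  have sum : ∀ {u v}, om u v0 = 0 → om v v0 = 0 →
      qG ρ 0 (N (u + v)) = qG ρ 0 (N u) * qG ρ 0 (N v) * qG ρ (bet (N u) (N v)) 0 := fun hu hv => by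
    rw [qG_mul _ _ (N0 hu) (N0 hv), qG_mul_zero _ _ (om_add0 (N0 hu) (N0 hv)), add_assoc, z2_add_self (bet _ _),
      add_zero, add_zero, map_add]
  have qs : ∀ u v, qf (N (u + v)) = qf (N u) + qf (N v) := fun u v => by rw [map_add, qf_add, om0, add_zero]
  let U2 : AddSubgroup V24 :=
    { carrier := {u | om u v0 = 0}
      zero_mem' := om_zero_left _
      add_mem' := om_add0
      neg_mem' := fun {x} hx => by rwa [neg_eq] }
  let U1 : AddSubgroup V24 :=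
    { carrier := {u | om u v0 = 0 ∧ qf (N u) = 0}
      zero_mem' := ⟨om_zero_left _, by rw [map_zero]; simp [qf]⟩
      add_mem' := fun a b => ⟨om_add0 a.1 b.1, by rw [qs, a.2, b.2, add_zero]⟩
      neg_mem' := fun {x} hx => by rwa [neg_eq] }
  let U0 : AddSubgroup V24 :=
    { carrier := {u | (om u v0 = 0 ∧ qf (N u) = 0) ∧ InL φ s (qG ρ 0 (N u))}
      zero_mem' := ⟨U1.zero_mem, by rw [map_zero]; exact lz 0⟩
      add_mem' := fun a b => ⟨U1.add_mem a.1 b.1, by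
        rw [sum a.1.1 b.1.1]; exact h.inL_mul (h.inL_mul a.2 b.2) (lz _)⟩
      neg_mem' := fun {x} hx => by rwa [neg_eq] }
  have z1 : ∀ a b : ZMod 2, a ≠ 0 → b ≠ 0 → a + b = 0 := by decide
  have i2 := idx2 (A := U2) (B := ⊤) le_top fun x _ y _ a b => (om_add_left _ _ _).trans (z1 _ _ a b)
  have i1 := idx2 (A := U1) (B := U2) (fun _ a => a.1) fun x hx y hy a b =>
    ⟨om_add0 hx hy, (qs x y).trans (z1 _ _ (fun e => a ⟨hx, e⟩) fun e => b ⟨hy, e⟩)⟩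
  have i0 := idx2 (A := U0) (B := U1) (fun _ a => a.1) fun x hx y hy a b => ⟨U1.add_mem hx hy, by
    rw [sum hx.1 hy.1]
    exact h.inL_mul (h.inL_par h3 (cm x hx.1 hx.2) (cm y hy.1 hy.2) (fun e => a ⟨hx, e⟩) fun e => b ⟨hy, e⟩) (lz _)⟩
  rw [AddSubgroup.index_top] at i2
  have key : ∀ u ∈ U0, ∃ x ∈ WW, Om (s1 + x) ∧ ∃ e e', g * qG ρ e x * g⁻¹ = qG ρ e' (N u) := fun u hu => by
    obtain ⟨e, k⟩ := zeta u hu.1.1
    have cu : Commute (qG ρ 0 u) (qG ρ 1 0) := (acts_qG 0 hu.1.1).z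
    have a1 := cj (cj h3 (qG ρ 0 u)) g
    have a2 := cj (cj h4 (qG ρ 0 u)) g
    have e2 : g⁻¹ * ((qG ρ 0 u)⁻¹ * (s * qG ρ 1 0) * qG ρ 0 u) * g =
        g⁻¹ * ((qG ρ 0 u)⁻¹ * s * qG ρ 0 u) * g * qG ρ 1 0 := by
      rw [mul_assoc _ g, hg.eq]
      simp only [mul_assoc]
      rw [← mul_assoc (qG ρ 1 0), ← cu.eq, mul_assoc]
    rw [e2, h.z_eq] at a2
    obtain ⟨e3, x, hx, ox, k3⟩ := h.star ((iff _).1 (by
      rw [k, split 0 e (N0 hu.1.1)]
      exact h.inL_mul (h.inL_mul hu.2 (lz _)) (Emb.inL_self h3))) (by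
      rw [← h.z_eq]
      exact (hg.inv_left.mul_left ((cu.inv_left.mul_left h2).mul_left cu)).mul_left hg) a1 a2
    refine ⟨x + s1, add_mem hx s1_mem, by rwa [add_comm x, XP.add_add'], e3 + 0 + bet x s1, e, ?_⟩
    rw [← qG_mul e3 0 hx.1 om_s1_v0, h.qG_ι _ hx, ← k3, k, ← conj_mul, h.a_eq, ← hs',
      show g * (g⁻¹ * (qG ρ e (N u) * s) * g) * g⁻¹ * s = qG ρ e (N u) * (s * s) by group, s2, mul_one]
  let S : AddSubgroup V24 :=
    { carrier := {x | x ∈ WW ∧ ∃ u ∈ U0, ∃ e e', g * qG ρ e x * g⁻¹ = qG ρ e' (N u)}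
      zero_mem' := ⟨zero_mem _, 0, zero_mem _, 0, 0, by rw [map_zero, qG_zero, mul_one, mul_inv_cancel]⟩
      add_mem' := by
        rintro x y ⟨hx, u, h1, e, e', k⟩ ⟨hy, v, h2, f, f', k'⟩
        exact ⟨add_mem hx hy, u + v, add_mem h1 h2, _, _, by
          rw [map_add, ← qG_mul e f hx.1 hy.1, ← conj_mul, k, k', qG_mul _ _ (N0 h1.1.1) (N0 h2.1.1)]⟩
      neg_mem' := fun {x} hx => by rwa [neg_eq] }
  have h8 := orth8 (U := S) (by
    rintro x ⟨hx, u, h1, e, e', k⟩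
    obtain ⟨y, hy, oy, f, f', k'⟩ := key u h1
    exact oy.of_ev ((Ev.refl s1).add (uq h hg.inv_left (e := e') (e' := e) (f := f') (f' := f) (N0 h1.1.1) hx.1 hy.1
      (by rw [← k]; group) (by rw [← k']; group)))) fun x hx => hx.1.2
  refine (h.mem_iff hc).2 (mem_Q_of_rk c2 (U := U0) (by omega) ?_)
  rw [← hN]
  have h7 : ∀ w : U0.map N, om w.1 v0 = 0 ∧ ∃ x : S, ∃ e e', g * qG ρ e x * g⁻¹ = qG ρ e' w := by
    rintro ⟨_, u, hu, rfl⟩
    obtain ⟨x, hx, -, e, e', k⟩ := key u hu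
    exact ⟨N0 hu.1.1, ⟨x, hx, u, hu, _, _, k⟩, _, _, k⟩
  choose hw F e e' hF using h7
  obtain ⟨m, hm⟩ := exists_om_one XP.v0_ne
  have h9 := Nat.card_le_card_of_injective (fun w => ((om m w.1, F w) : ZMod 2 × S)) fun a b k => by
    have k1 : om m a.1 = om m b.1 := congrArg Prod.fst k
    have k2 : F a = F b := congrArg Prod.snd k
    refine Subtype.ext ((uq h hg (F a).2.1.1 (hw a) (hw b) (hF a) (k2 ▸ hF b)).resolve_right fun e => ?_)
    rw [e, om_add_right, hm, add_eq_left] at k1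
    exact one_ne_zero k1
  rw [Nat.card_prod, Nat.card_zmod] at h9
  omega

attribute [local irreducible] qG in
theorem Ext.norm [Finite G] (h : Ext τ φ ρ) (g : G) (hz : Commute g (qG ρ 1 0)) :
    g ∈ normalizer (ρ.range : Set G) := by
  let D := centralizer ({qG ρ 1 0} : Set G)
  have mD : ∀ x : D, Commute x.1 (qG ρ 1 0) := fun x => mem_centralizer_singleton_iff.1 x.2
  have QD : ρ.range ≤ D := fun x hx => mem_centralizer_singleton_iff.2 (h.es.comm_z x hx)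
  let T : Set D := {s | ∃ g : D, g.1 * qG ρ 0 s1 * g.1⁻¹ = s.1}
  have hT : ∀ x : D, x ∈ T ∩ ρ.range.subgroupOf D ↔ ∃ e w, Om w ∧ x.1 = qG ρ e w := fun x => by
    constructor
    · rintro ⟨⟨a, h1⟩, h2⟩
      obtain ⟨e, w, hw, k⟩ := mem_range_iff.1 (mem_subgroupOf.1 h2)
      exact ⟨e, w, (h.isConj_iff hw).1 (_root_.isConj_iff.2 ⟨a.1, h1.trans k⟩), k⟩
    · rintro ⟨e, w, hw, k⟩
      obtain ⟨a, c, ha, k'⟩ := h.exists_conj e hw
      exact ⟨⟨⟨a, mem_centralizer_singleton_iff.2 ha.z⟩, k'.trans k.symm⟩, mem_subgroupOf.2 (k ▸ qG_mem e w)⟩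
  have hN := subgroupOf_normalizer_eq QD
  have H : TIG (⟨qG ρ 1 0, QD h.es.mem⟩ : D) T (ρ.range.subgroupOf D) 2 := by
    refine ⟨le_rfl, orderOf_eq_prime (Subtype.ext (by rw [pow_two]; exact h.es.mul_self))
      fun e => h.es.ne_one (congrArg Subtype.val e), fun g => Subtype.ext (mD g), ?_, ?_, ?_, ?_,
      h.es.mem, fun a ha => ?_, fun a ha k => (h.es.center a ha fun b hb => ?_).imp Subtype.ext Subtype.ext,
      fun a ha => ?_, fun s hs hQ x hx => ?_, ?_, ?_, fun W h1 _ h3 => ?_⟩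
    · rintro s ⟨a, k⟩
      exact Subtype.ext (by rw [coe_mul, ← k, conj_mul, Tig.a_sq, mul_one, mul_inv_cancel]; rfl)
    · rintro s ⟨a, k⟩
      obtain ⟨u, hu, k'⟩ := Tig.exists_az ρ
      refine ⟨a * ⟨_, QD (qG_mem 0 u)⟩, ?_⟩
      change a.1 * qG ρ 0 u * qG ρ 0 s1 * (a.1 * qG ρ 0 u)⁻¹ = s.1 * qG ρ 1 0
      rw [show a.1 * qG ρ 0 u * qG ρ 0 s1 * (a.1 * qG ρ 0 u)⁻¹ =
        a.1 * (qG ρ 0 u * qG ρ 0 s1 * (qG ρ 0 u)⁻¹) * a.1⁻¹ by group, k', ← conj_mul, k, (mD a).eq,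
        mul_inv_cancel_right]
    · rintro s ⟨a, k⟩ b
      exact ⟨b * a, by simp only [coe_mul, coe_inv, ← k]; group⟩
    · rintro s ⟨a, k⟩ s' ⟨b, k'⟩
      exact _root_.isConj_iff.2 ⟨b * a⁻¹, Subtype.ext (by simp only [coe_mul, coe_inv, ← k, ← k']; group)⟩
    · obtain ⟨e, w, hw, k⟩ := mem_range_iff.1 (mem_subgroupOf.1 ha)
      refine (z2_cases (qf w)).imp (fun e => Subtype.ext ?_) fun e => Subtype.ext ?_ <;>
        rw [coe_mul, k, qG_mul_self _ hw, e]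
      exact qG_zero
    · exact congrArg Subtype.val (k ⟨b, QD hb⟩ hb).symm
    · let K := (closure (T ∩ ρ.range.subgroupOf D)).map D.subtype
      have mK : ∀ e w, Om w → qG ρ e w ∈ K := fun e w hw =>
        mem_map_of_mem (x := ⟨qG ρ e w, QD (qG_mem e w)⟩) D.subtype
          (subset_closure ((hT ⟨qG ρ e w, QD (qG_mem e w)⟩).2 ⟨e, w, hw, Eq.refl (qG ρ e w)⟩))
      let A : AddSubgroup V24 :=
        { carrier := {w | om w v0 = 0 ∧ ∀ e, qG ρ e w ∈ K}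
          zero_mem' := ⟨om_zero_left _, fun e => by
            have k1 := mK (0 + e) s1 Om_s1
            rw [← qG_mul_zero _ _ om_s1_v0] at k1
            exact (K.mul_mem_cancel_left (mK 0 s1 Om_s1)).1 k1⟩
          add_mem' := fun {v w} a b => ⟨om_add0 a.1 b.1, fun e => by
            have := mul_mem (a.2 (e + bet v w)) (b.2 0)
            rwa [qG_mul _ _ a.1 b.1, add_zero, add_assoc, z2_add_self, add_zero] at this⟩
          neg_mem' := fun {x} hx => by rwa [Tig.neg_eq] }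
      obtain ⟨e, w, hw, k⟩ := mem_range_iff.1 (mem_subgroupOf.1 ha)
      obtain ⟨b, hb, k'⟩ := (span_P (A := A) (fun u hu => ⟨hu.perp, fun e => mK e u hu⟩) hw).2 e
      rwa [show a = b from Subtype.ext (k.trans k'.symm)]
    · obtain ⟨e, w, hw, k⟩ := (hT s).1 ⟨hs, hQ⟩
      obtain ⟨a, c, ha, k'⟩ := h.exists_conj e hw
      have za : Commute a (qG ρ 1 0) := ha.z
      have e1 : a⁻¹ * x * a * qG ρ 0 s1 * (a⁻¹ * x * a)⁻¹ = a⁻¹ * (x * s * x⁻¹ : D) * a := by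
        rw [coe_mul, coe_mul, coe_inv, k, ← k']; group
      obtain ⟨d, hd⟩ : ∃ d, Acts ρ (a⁻¹ * x * a) d := by
        have hc := (za.inv_left.mul_left (mD x)).mul_left za
        rcases hx with e2 | e2
        · exact h.acts_N hc (e := 0) (by rw [e1, e2, k, ← k']; group)
        · refine h.acts_N hc (e := 0 + 1) ?_
          rw [e1, e2, coe_mul, k, ← k', ← qG_mul_zero _ _ om_s1_v0]
          change a⁻¹ * (a * qG ρ 0 s1 * a⁻¹ * qG ρ 1 0) * a = _
          rw [mul_assoc _ a⁻¹, za.inv_left.eq]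
          group
      have := ((ha.mul hd).mul ha.inv).mem_normalizer
      rw [show a * (a⁻¹ * x * a) * a⁻¹ = x by group] at this
      exact hN.le this
    · rintro s ⟨a, k⟩ hn
      have := h.three (mD a) (by rw [k]; exact hN.ge hn)
      rwa [k] at this
    · have e1 := h.ncard_pre (S := D.subtype '' (T ∩ ρ.range.subgroupOf D)) (by rintro _ ⟨x, hx, rfl⟩; exact hx.2)
      have e2 : ρ ⁻¹' (D.subtype '' (T ∩ ρ.range.subgroupOf D)) =
          RQ.subtype ⁻¹' {x | ∃ e w, Om w ∧ x = q k0 e w} := by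
        ext x
        obtain ⟨e, w, hx⟩ := x.2.1
        have hw : om w v0 = 0 := q_mem_CK_iff.1 (hx ▸ x.2.2 :)
        have k : ρ x = qG ρ e w := (congrArg ρ (Subtype.ext hx)).trans (qG_def e hw).symm
        constructor
        · rintro ⟨y, hy, k1⟩
          obtain ⟨e', w', hw', k2⟩ := (hT y).1 hy
          exact ⟨e, w, hw'.of_ev (h.qG_inj hw hw'.perp (k.symm.trans (k1.symm.trans k2))), hx⟩
        · rintro ⟨e', w', hw', k1⟩
          have k2 : w = w' := (q_inj (hx.symm.trans k1)).2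
          exact ⟨⟨_, QD ⟨x, rfl⟩⟩, (hT _).2 ⟨e, w, k2 ▸ hw', k⟩, rfl⟩
      rw [e2, Set.ncard_image_of_injective _ (subtype_injective _),
        Set.ncard_preimage_of_injective_subset_range (subtype_injective _)
          (by rintro _ ⟨e, w, hw, rfl⟩; exact ⟨⟨_, q_mem_RQ.2 hw.perp⟩, rfl⟩), ncard_Om] at e1
      omega
    · let U : AddSubgroup V24 :=
        { carrier := {w | om w v0 = 0 ∧ ∃ e, qG ρ e w ∈ W.map D.subtype}
          zero_mem' := ⟨om_zero_left _, 0, by rw [qG_zero]; exact one_mem _⟩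
          add_mem' := fun ⟨a0, e, a⟩ ⟨b0, f, b⟩ => ⟨om_add0 a0 b0, _, by
            rw [← qG_mul e f a0 b0]; exact mul_mem a b⟩
          neg_mem' := fun {x} hx => by rwa [Tig.neg_eq] }
      have h4 := free16 (U := U) ⟨om_self _, 0, by rw [h.t_eq]; exact one_mem _⟩ (fun _ a => a.1) (by
        rintro u ⟨-, e, y, hy, k⟩ hu
        exact h3 y hy ((hT y).2 ⟨e, u, hu, k⟩).1)
      have h5 := U.index_mul_card
      have e1 := h.ncard_pre (S := W.map D.subtype) (by rintro _ ⟨x, hx, rfl⟩; exact h1 hx)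
      have h7 : ∀ a : ρ ⁻¹' (W.map D.subtype : Set G), ∃ p : ZMod 2 × U, a.1.1 = q k0 p.1 p.2 := fun a => by
        obtain ⟨e, w, hx⟩ := a.1.2.1
        have hw : om w v0 = 0 := q_mem_CK_iff.1 (hx ▸ a.1.2.2 :)
        have k : ρ a.1 = qG ρ e w := (congrArg ρ (Subtype.ext hx)).trans (qG_def e hw).symm
        exact ⟨(e, ⟨w, hw, e, k ▸ a.2⟩), hx⟩
      choose F hF using h7
      have h6 := Nat.card_le_card_of_injective F fun a b k => Subtype.ext (Subtype.ext (by rw [hF, hF, k]))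
      rw [Nat.card_prod, Nat.card_zmod, Nat.card_coe_set_eq, e1, ← Nat.card_coe_set_eq, SetLike.coe_sort_coe,
        card_map_of_injective (subtype_injective _)] at h6
      rw [Core.card_subgroupOf_of_le QD, h.card_range]
      have := Nat.mul_le_mul_right (Nat.card U) h4
      rw [h5, card_V24] at this
      omega
  have := H.normal
  exact mem_subgroupOf.1 (hN.ge ((normalizer_eq_top _).ge (mem_top (⟨g, mem_centralizer_singleton_iff.2 hz⟩ : D))))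

end CfsgLib.StdB
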