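import Mathlib
import Cfsg.Agent.Lib.StdB.Tig
import Cfsg.Agent.Lib.StdB.QQ
import Cfsg.Agent.Lib.StdB.F2
import Cfsg.Agent.Lib.ZStar.Main

/-! STDB, package MAIN (plans/STDB.md §MAIN). -/

set_option autoImplicit false

namespace CfsgLib.StdB

open Cfsg CfsgLib.Leech CfsgLib.Mon CfsgLib.DCX CfsgLib.StdM Subgroup

variable {M G : Type*} [Group M] [Group G] {π : C k0 →* M} {τ : M} {φ : LM π →* G}

theorem Emb.not_comm (h : Emb τ φ) : ¬ IsMulCommutative G := fun k => by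
  obtain ⟨u, hu, h1⟩ := exists_om_w0
  have := qL_conj (φ := φ) 0 0 hu w0_mem
  rw [k.is_comm.comm (qL φ 0 u), mul_inv_cancel_right] at this
  exact zero_ne_one ((h.sign_inj w0_mem this).trans (by rw [h1, zero_add]))

/-- the centralizer of `z` has the shape `2^(1+22).Co₂` -/
theorem Emb.bs [Finite G] [IsSimpleGroup G] (h : Emb τ φ) : ∃ (Q : Subgroup G) (z : G) (e : _), BabRec.BS Q z e ∧
    ∃ g : G, g * z * g⁻¹ ∈ Q ∧ g * z * g⁻¹ ≠ z := by
  have ni := ZStar.not_isolated_of_simple h.not_comm (φ (aL π))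
  rw [IsIsolatedInvolution, not_and, not_forall] at ni
  obtain ⟨g, hg⟩ := ni (orderOf_eq_prime (by rw [pow_two, Emb.a_sq]) h.ne.1)
  obtain ⟨g1, g2⟩ := Classical.not_imp.1 hg
  obtain ⟨ρ, k⟩ := h.exists_ext (h.isConj_az (isConj_iff.2 ⟨g, rfl⟩) g1.symm g2)
  obtain ⟨e, m⟩ := k.bs k.norm
  exact ⟨_, _, e, m, k.conj_z⟩

end CfsgLib.StdB
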