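import Mathlib
import Cfsg.Agent.Lib.StdB.Defs

/-! STDB, package SPT (plans/STDB-STD.md). -/

set_option autoImplicit false

namespace CfsgLib.StdB

open Cfsg CfsgLib.Leech CfsgLib.Mon CfsgLib.DCX CfsgLib.StdM Subgroup

namespace SPt

/-- a fixed short vector has a fixed short neighbour -/
def Nb (g : Co0) : Prop := ∀ a : leechLattice, sqNorm a.1 = 32 → g • a = a →
  ∃ b : leechLattice, sqNorm b.1 = 32 ∧ g • b = b ∧ dotInt b.1 a.1 = 16

theorem Nb.conj {t : Co0} (h : Nb t) (γ : Co0) : Nb (γ * t * γ⁻¹) := fun a ha e => by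
  obtain ⟨b, b1, b2, b3⟩ := h (γ⁻¹ • a) (by rwa [sqNorm_smul]) (by
    conv_rhs => rw [← e, mul_smul, mul_smul, inv_smul_smul])
  refine ⟨γ • b, by rwa [sqNorm_smul], by rw [mul_smul, mul_smul, inv_smul_smul, b2], ?_⟩
  rw [← b3, ← dotInt_smul γ b, smul_inv_smul]

theorem exists_two {i j : GolayPt} (h : i ≠ j) {s t : ℤ} (hs : s = 4 ∨ s = -4) (ht : t = 4 ∨ t = -4) :
    ∃ b : leechLattice, sqNorm b.1 = 32 ∧ ∀ l, b.1 l = (if l = i then s else 0) + if l = j then t else 0 := by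
  rcases hs with rfl | rfl <;> rcases ht with rfl | rfl
  · exact ⟨dpL i j, sqNorm_dpL h, dpL_apply i j⟩
  · exact ⟨dlL i j, sqNorm_dlL h, fun l => by rw [dlL_apply]; split_ifs <;> rfl⟩
  · exact ⟨dlL j i, sqNorm_dlL h.symm, fun l => by rw [dlL_apply]; split_ifs <;> rfl⟩
  · exact ⟨-dpL i j, by rw [AddSubgroup.coe_neg, sqNorm_neg, sqNorm_dpL h], fun l => by
      rw [AddSubgroup.coe_neg, Pi.neg_apply, dpL_apply]; split_ifs <;> rfl⟩

theorem nb_sgn {d : Finset GolayPt} (hd : IsCW d) (h1 : 0 < d.card) (h2 : d.card ≤ 16) : Nb (sgnAut d hd) := by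
  intro a ha e
  have z : ∀ i, a.1 i ≠ 0 → i ∉ d := fun i k hi => by
    have := congrArg (fun v : leechLattice => v.1 i) e
    simp only [sgnAut_smul_apply, if_pos hi] at this
    omega
  suffices k : ∃ i j s t, i ≠ j ∧ i ∉ d ∧ j ∉ d ∧ (s = 4 ∨ s = -4) ∧ (t = 4 ∨ t = -4) ∧
      s * a.1 i + t * a.1 j = 16 by
    obtain ⟨i, j, s, t, k1, k2, k3, k4, k5, k6⟩ := k
    obtain ⟨b, b1, b2⟩ := exists_two k1 k4 k5
    refine ⟨b, b1, Subtype.ext (funext fun l => ?_), ?_⟩
    · rw [sgnAut_smul_apply]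
      split_ifs with hl
      · rw [b2, if_neg (fun k : l = i => k2 (k ▸ hl)), if_neg (fun k : l = j => k3 (k ▸ hl))]; rfl
      · rfl
    · simp only [dotInt, b2, add_mul, ite_mul, zero_mul, Finset.sum_add_distrib, Finset.sum_ite_eq',
        Finset.mem_univ, if_true, k6]
  have k4 : ∀ i j, i ≠ j → (a.1 i = 4 ∨ a.1 i = -4) → (∀ l, l ≠ i → l ≠ j → a.1 l = 0) → ∃ i j s t, i ≠ j ∧
      i ∉ d ∧ j ∉ d ∧ (s = 4 ∨ s = -4) ∧ (t = 4 ∨ t = -4) ∧ s * a.1 i + t * a.1 j = 16 := fun i j _ hi hl => by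
    obtain ⟨k, hk⟩ : ∃ k, k ∉ insert i (insert j d) := by
      by_contra! n
      have c1 := Finset.card_insert_le i (insert j d)
      have c2 := Finset.card_insert_le j d
      rw [Finset.eq_univ_of_forall n, Finset.card_univ, card_pt] at c1
      omega
    simp only [Finset.mem_insert, not_or] at hk
    refine ⟨i, k, a.1 i, 4, Ne.symm hk.1, z i (by omega), hk.2.2, hi, Or.inl rfl, ?_⟩
    rw [hl k hk.1 hk.2.1]
    rcases hi with hi | hi <;> rw [hi] <;> rfl
  rcases short_shape ha with ⟨i, j, h, rfl | rfl | rfl⟩ | ⟨o, δ, o1, o2, o3, rfl⟩ | ⟨i, e', he, rfl⟩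
  · exact k4 i j h (by simp [dlL_apply, h]) fun l a b => by simp [dlL_apply, a, b]
  · exact k4 i j h (by simp [dpL_apply, h]) fun l a b => by simp [dpL_apply, a, b]
  · exact k4 i j h (by simp [dpL_apply, h]) fun l a b => by simp [dpL_apply, a, b]
  · obtain ⟨i, hi, j, hj, h⟩ := Finset.one_lt_card.1 (show 1 < o.card by omega)
    have k : ∀ i ∈ o, (ov o δ).1 i = 2 ∨ (ov o δ).1 i = -2 := fun i hi => by
      rw [ov_apply o1 o3, if_pos hi]; split_ifs <;> simp
    have a1 := k i hi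
    have a2 := k j hj
    refine ⟨i, j, 2 * (ov o δ).1 i, 2 * (ov o δ).1 j, h, z i (by omega), z j (by omega), by omega, by omega, ?_⟩
    rcases a1 with a1 | a1 <;> rcases a2 with a2 | a2 <;> rw [a1, a2] <;> rfl
  · obtain ⟨p, hp⟩ := Finset.card_pos.1 h1
    refine absurd hp (z p ?_)
    rw [sgnAut_smul_apply, lamL_apply]
    split_ifs <;> decide

theorem nb_of {d : Finset GolayPt} (hd : IsCW d) (h : d.card = 8 ∨ d.card = 12) {t : Co0}
    (k : IsConj (sgnAut d hd : Spor.Co1) t) : Nb t ∧ Nb (t * negAut) := by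
  refine MonRec.wc_transport (P := fun t => Nb t ∧ Nb (t * negAut)) (fun γ t ht => ⟨ht.1.conj γ, ?_⟩)
    (fun t ht => ⟨ht.2, ?_⟩) k ⟨nb_sgn hd (by omega) (by omega), ?_⟩
  · have := ht.2.conj γ
    intro a ha e
    obtain ⟨b, b1, b2, b3⟩ := this a ha (by simpa only [mul_smul, negAut_smul, smul_neg] using e)
    exact ⟨b, b1, by simpa only [mul_smul, negAut_smul, smul_neg] using b2, b3⟩
  · intro a ha e
    obtain ⟨b, b1, b2, b3⟩ := ht.1 a ha (by simpa only [mul_smul, negAut_smul, smul_neg, neg_neg] using e)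
    exact ⟨b, b1, by simpa only [mul_smul, negAut_smul, smul_neg, neg_neg] using b2, b3⟩
  · have c : dᶜ.card = 24 - d.card := by rw [Finset.card_compl, card_pt]
    have : sgnAut d hd * negAut = sgnAut dᶜ hd.compl := co0_ext fun v => Subtype.ext (funext fun i => by
      by_cases hi : i ∈ d <;> simp [mul_smul, negAut_smul, sgnAut_smul_apply, hi])
    rw [this]
    exact nb_sgn _ (by omega) (by omega)

end SPt

open SPt in
/-- an involution of `Co₂` fixes one of the 2300 points -/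
theorem exists_fix_Om {c : C k0} (hc : c ∈ CK) (h2 : c * c ∈ Q k0) : ∃ w, Om w ∧ Ev (cact c w) w := by
  by_cases h1 : c ∈ Q k0
  · exact ⟨s1, Om_s1, Or.inl (mem_Q_iff_cact.1 h1 _)⟩
  obtain ⟨x, rfl⟩ := mk_surjective c
  have hp := (mem_CK_iff.1 hc).2
  rw [cact_mk, act_φ_eq_iff (by rw [sqNorm_tK]; norm_num), MType.mem_pm] at hp
  rw [← toCo1_eq_one] at h1 h2
  rw [map_mul] at h2
  rw [toCo1_mk] at h1 h2
  have key : Nb x.g ∧ Nb (x.g * negAut) := by
    obtain ⟨d, hd, h8⟩ := exists_oct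
    rcases Co1Rec.inv3 h2 h1 with k | k | k
    · exact nb_of hd (Or.inl h8) ((Co1Rec.conj_oct hd (Or.inl h8)).symm.trans k)
    · have hd : IsCW (Golay.ofMask 340831) := isCW_ofMask (by decide +kernel)
      have h12 : (Golay.ofMask 340831).card = 12 := by decide +kernel
      exact nb_of hd (Or.inr h12) ((Co1Rec.conj_dod hd h12).symm.trans k)
    · have := congrArg (· • dlL none (some 0)) (Co1Rec.conj_uu k)
      simp only [mul_smul, negAut_smul] at this
      refine absurd ?_ (ne_neg_self (u := dlL none (some 0)) (by decide))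
      rcases hp with p | p
      exacts [by rwa [p, p] at this, by rwa [p, smul_neg, p, neg_neg] at this]
  have om' : ∀ {u : leechLattice}, sqNorm u.1 = 32 → dotInt u.1 (dlL none (some 0)).1 = 16 → Om (k0.φ u) :=
    fun {u} h1 h2 => ⟨⟨u, h1, rfl⟩, u - dlL none (some 0),
      by rw [AddSubgroup.coe_sub, sqNorm_sub, h1, h2, sqNorm_tK]; rfl, MonRec.φ_sub _ _⟩
  rcases hp with p | p
  · obtain ⟨b, b1, b2, b3⟩ := key.1 _ sqNorm_tK p
    exact ⟨_, om' b1 b3, Or.inl (by rw [cact_mk, k0.act_φ, b2])⟩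
  · obtain ⟨b, b1, b2, b3⟩ := key.2 _ sqNorm_tK (by rw [mul_smul, negAut_smul, smul_neg, p, neg_neg])
    refine ⟨_, om' b1 b3, Or.inl ?_⟩
    conv_rhs => rw [← b2, mul_smul, negAut_smul, smul_neg, k0.φ_neg]
    rw [cact_mk, k0.act_φ]

end CfsgLib.StdB
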