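import Mathlib
import Cfsg.Agent.Lib.StdB.Tig
import Cfsg.Agent.Lib.StdB.SPt
import Cfsg.Agent.Lib.StdInt.Half
import Cfsg.Agent.Lib.LAE.Sylow

/-! STDB, package STC, first part: lifting `Q` from `N(θ)/θ` (plans/STDB-STD.md). -/

set_option autoImplicit false

namespace CfsgLib.StdB

open Cfsg CfsgLib.Leech CfsgLib.Mon CfsgLib.DCX CfsgLib.StdM Subgroup
open CfsgLib.StdInt (Two two_conj eq_one_of_odd_two odd_of_pow mem_of_pow_odd odd_of_mem)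

variable {M G X : Type*} [Group M] [Group G] [Group X] {π : C k0 →* M} {τ : M} {φ : LM π →* X} {ρ : RQ →* X}

/-- `X = N(θ)/θ` contains the configuration, `θ` has odd order -/
structure Qt (τ : M) (φ : LM π →* X) (ρ : RQ →* X) (θ : Subgroup G) (f : normalizer (θ : Set G) →* X)
    (a : normalizer (θ : Set G)) : Prop extends Ext τ φ ρ where
  odd : Odd (Nat.card θ)
  surj : Function.Surjective f
  fker : ∀ x, f x = 1 ↔ x.1 ∈ θ
  fa : f a = φ (aL π)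
  a2 : a * a = 1
  ca : ∀ g : G, Commute g a → g ∈ normalizer (θ : Set G)
  lift : ∀ l, ∃ x, f x = φ l ∧ x.1 ∈ centralizer (θ : Set G)

namespace STc

theorem two_mul' {x y : G} (c : Commute x y) (hx : Two x) (hy : Two y) : Two (x * y) :=
  let ⟨k, a⟩ := hx; let ⟨l, b⟩ := hy
  ⟨k + l, by rw [c.mul_pow, pow_add, pow_mul, a, one_pow, one_mul, mul_comm (2 ^ k), pow_mul, b, one_pow]⟩

theorem two_inv {x : G} (hx : Two x) : Two x⁻¹ := hx.imp fun k a => by rw [inv_pow, a, inv_one]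

theorem two_of_mul_self {x : G} (hx : Two (x * x)) : Two x :=
  let ⟨k, a⟩ := hx; ⟨k + 1, by rw [pow_succ', pow_mul, pow_two, a]⟩

theorem two_of_sq {x : G} (hx : x * x = 1) : Two x := ⟨1, by rw [pow_one, pow_two, hx]⟩

theorem eq_one_of_tw {η x μ : G} {m : ℕ} (hm : Odd m) (h : η ^ m = 1) (e : η * x * η⁻¹ = μ * x)
    (c : Commute μ η) (h2 : Two μ) : μ = 1 := by
  have k : ∀ n : ℕ, η ^ n * x * (η ^ n)⁻¹ = μ ^ n * x := fun n => by
    induction n with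
    | zero => simp
    | succ n ih =>
      calc η ^ (n + 1) * x * (η ^ (n + 1))⁻¹ = η * (η ^ n * x * (η ^ n)⁻¹) * η⁻¹ := by rw [pow_succ']; group
        _ = (η * μ ^ n) * η⁻¹ * (η * x * η⁻¹) := by rw [ih]; group
        _ = _ := by rw [e, ← (c.pow_left n).eq, pow_succ]; group
  have := k m
  rw [h, one_mul, inv_one, mul_one, right_eq_mul] at this
  exact eq_one_of_odd_two (odd_of_pow hm this) h2

/-- the `A × B` lemma for an extraspecial group -/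
theorem axb {Q : Subgroup G} {z δ η : G} {m : ℕ} (hz : z * z = 1)
    (sq : ∀ x ∈ Q, x * x = 1 ∨ x * x = z)
    (cm : ∀ x ∈ Q, ∀ y ∈ Q, x * y * x⁻¹ = y ∨ x * y * x⁻¹ = y * z)
    (h1 : δ ∈ normalizer (Q : Set G)) (h2 : η ∈ normalizer (Q : Set G)) (d2 : δ * δ = 1) (c : Commute δ η)
    (c2 : Commute η z) (hm : Odd m) (h : η ^ m = 1) (k : ∀ x ∈ Q, Commute x δ → Commute x η) :
    ∀ x ∈ Q, Commute x η := by
  have n1 : ∀ x ∈ Q, δ * x * δ⁻¹ ∈ Q := fun x hx => (mem_normalizer_iff.1 h1 x).1 hx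
  have n2 : ∀ x ∈ Q, η * x * η⁻¹ * x⁻¹ ∈ Q := fun x hx => mul_mem ((mem_normalizer_iff.1 h2 x).1 hx) (inv_mem hx)
  have two : ∀ x ∈ Q, Two x := fun x hx => two_of_mul_self ((sq x hx).elim (fun e => e ▸ ⟨0, one_pow _⟩)
    fun e => e ▸ two_of_sq hz)
  have fin : ∀ x ∈ Q, Commute (η * x * η⁻¹ * x⁻¹) η → Commute x η := fun x hx e => by
    have := eq_one_of_tw (x := x) hm h (by group) e (two _ (n2 x hx))
    rw [mul_inv_eq_one, mul_inv_eq_iff_eq_mul] at this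
    exact this.symm
  have cj : ∀ x, δ * (η * x * η⁻¹ * x⁻¹) * δ⁻¹ = η * (δ * x * δ⁻¹) * η⁻¹ * (δ * x * δ⁻¹)⁻¹ := fun x => by
    calc _ = (δ * η) * x * (δ * η)⁻¹ * (δ * x * δ⁻¹)⁻¹ := by group
      _ = _ := by rw [c.eq]; group
  have k2 : ∀ x ∈ Q, δ * x * δ⁻¹ = x ∨ δ * x * δ⁻¹ = x * z → Commute x η := fun x hx e => by
    refine fin x hx (k _ (n2 x hx) (mul_inv_eq_iff_eq_mul.1 ?_).symm)
    rw [cj]
    rcases e with e | e <;> rw [e]
    calc η * (x * z) * η⁻¹ * (x * z)⁻¹ = η * x * η⁻¹ * (η * z) * η⁻¹ * z⁻¹ * x⁻¹ := by group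
      _ = _ := by rw [c2.eq]; group
  intro x hx
  have hν := mul_mem (n1 x hx) (inv_mem hx)
  have e1 : δ * (δ * x * δ⁻¹ * x⁻¹) * δ⁻¹ = (δ * x * δ⁻¹ * x⁻¹)⁻¹ := by
    calc _ = (δ * δ) * x * (δ * δ)⁻¹ * (δ * x * δ⁻¹)⁻¹ := by group
      _ = _ := by rw [d2]; group
  have e2 : δ * x * δ⁻¹ = δ * x * δ⁻¹ * x⁻¹ * x := by group
  generalize δ * x * δ⁻¹ * x⁻¹ = ν at hν e1 e2
  have cν := k2 ν hν (by
    rw [e1]
    refine (sq ν hν).imp (fun e => inv_eq_of_mul_eq_one_right e) fun e => inv_eq_of_mul_eq_one_right ?_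
    rw [← mul_assoc, e, hz])
  refine fin x hx (k2 _ (n2 x hx) ?_)
  rw [cj, e2, show η * (ν * x) * η⁻¹ * (ν * x)⁻¹ = (η * ν) * x * η⁻¹ * x⁻¹ * ν⁻¹ by group, ← cν.eq,
    show ν * η * x * η⁻¹ * x⁻¹ * ν⁻¹ = ν * (η * x * η⁻¹ * x⁻¹) * ν⁻¹ by group]
  exact cm ν hν _ (n2 x hx)

variable {θ : Subgroup G} {f : normalizer (θ : Set G) →* X} {a : normalizer (θ : Set G)}

/-- `x` lies over `y` -/
def Ov (f : normalizer (θ : Set G) →* X) (x : G) (y : X) : Prop := ∃ h, f ⟨x, h⟩ = y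

variable {x x' : G} {y y' : X}

theorem Ov.mem (k : Ov f x y) : x ∈ normalizer (θ : Set G) := k.1

theorem ov_of (x : normalizer (θ : Set G)) : Ov f x (f x) := ⟨x.2, rfl⟩

theorem exists_ov (hx : x ∈ normalizer (θ : Set G)) : ∃ y, Ov f x y := ⟨_, hx, rfl⟩

theorem Ov.mul (k : Ov f x y) (k' : Ov f x' y') : Ov f (x * x') (y * y') :=
  let ⟨h, e⟩ := k; let ⟨h', e'⟩ := k'; ⟨mul_mem h h', by rw [← e, ← e', ← map_mul]; rfl⟩

theorem Ov.inv (k : Ov f x y) : Ov f x⁻¹ y⁻¹ := let ⟨h, e⟩ := k; ⟨inv_mem h, by rw [← e, ← map_inv]; rfl⟩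

theorem ov_one : Ov f 1 1 := ⟨one_mem _, map_one f⟩

theorem Ov.pow (k : Ov f x y) (n : ℕ) : Ov f (x ^ n) (y ^ n) :=
  let ⟨h, e⟩ := k; ⟨pow_mem h n, by rw [← e, ← map_pow]; rfl⟩

theorem Ov.eq (k : Ov f x y) (k' : Ov f x y') : y = y' := let ⟨_, e⟩ := k; let ⟨_, e'⟩ := k'; e.symm.trans e'

theorem Ov.conj {g : G} {u : X} (k : Ov f g u) (k' : Ov f x y) : Ov f (g * x * g⁻¹) (u * y * u⁻¹) :=
  (k.mul k').mul k.inv

theorem Ov.comm (k : Ov f x y) (k' : Ov f x' y') (c : Commute x x') : Commute y y' :=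
  (c.eq ▸ k.mul k').eq (k'.mul k)

end STc

open STc

variable {θ : Subgroup G} {f : normalizer (θ : Set G) →* X} {a : normalizer (θ : Set G)} {x x' : G} {y y' : X}

namespace Qt

variable (h : Qt τ φ ρ θ f a)
include h

theorem exists_lift (y : X) : ∃ x, Ov f x y := let ⟨x, e⟩ := h.surj y; ⟨x, x.2, e⟩

theorem ker' (k : Ov f x 1) : x ∈ θ := let ⟨_, e⟩ := k; (h.fker _).1 e

theorem ov_a : Ov f a (qG ρ 0 s1) := h.a_eq ▸ h.fa ▸ ov_of a

omit [Group X] h in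
theorem pow_card [Finite G] (hx : x ∈ θ) : x ^ Nat.card θ = 1 :=
  congrArg Subtype.val (pow_card_eq_one' (x := (⟨x, hx⟩ : θ)))

theorem exists_cen [Finite G] (hy : Commute y (qG ρ 1 0)) : ∃ x ∈ centralizer (θ : Set G), Ov f x y := by
  have := Finite.of_surjective f h.surj
  let K : Subgroup X :=
    { carrier := {y | ∃ x ∈ centralizer (θ : Set G), Ov f x y}
      one_mem' := ⟨1, one_mem _, ov_one⟩
      mul_mem' := fun ⟨x, a, b⟩ ⟨x', a', b'⟩ => ⟨x * x', mul_mem a a', b.mul b'⟩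
      inv_mem' := fun ⟨x, a, b⟩ => ⟨x⁻¹, inv_mem a, b.inv⟩ }
  have cK : ∀ u, ∀ y ∈ K, u * y * u⁻¹ ∈ K := fun u y ⟨x, a, b⟩ =>
    let ⟨g, k⟩ := h.exists_lift u
    ⟨_, LAE.conj_mem_of_mem_normalizer (LAE.normalizer_le_normalizer_centralizer θ k.mem) a, k.conj b⟩
  have lK : ∀ l, φ l ∈ K := fun l => let ⟨x, a, b⟩ := h.lift l; ⟨x, b, x.2, a⟩
  have mK : ∀ e w, Om w → qG ρ e w ∈ K := fun e w hw => by
    obtain ⟨g, c, -, k⟩ := h.exists_conj e hw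
    exact k ▸ cK g _ (h.a_eq ▸ lK _)
  let A : AddSubgroup V24 :=
    { carrier := {w | om w v0 = 0 ∧ ∀ e, qG ρ e w ∈ K}
      zero_mem' := ⟨om_zero_left _, fun e => by
        have k1 := mK (0 + e) s1 Om_s1
        rw [← qG_mul_zero _ _ om_s1_v0] at k1
        exact (K.mul_mem_cancel_left (mK 0 s1 Om_s1)).1 k1⟩
      add_mem' := fun {v w} a b => ⟨om_add0 a.1 b.1, fun e => by
        have := mul_mem (a.2 (e + bet v w)) (b.2 0)
        rwa [qG_mul _ _ a.1 b.1, add_zero, add_assoc, z2_add_self, add_zero] at this⟩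
      neg_mem' := fun {x} hx => by rwa [Tig.neg_eq] }
  have QK : ρ.range ≤ K := fun y hy => by
    obtain ⟨e, w, hw, rfl⟩ := mem_range_iff.1 hy
    exact (span_P (A := A) (fun u hu => ⟨hu.perp, fun e => mK e u hu⟩) hw).2 e
  let Y : Subgroup CK :=
    { carrier := {c | ∃ g ∈ K, Acts ρ g c.1}
      one_mem' := ⟨1, one_mem _, by simpa [q_zero, qG_zero] using acts_qG (ρ := ρ) 0 (om_zero_left _)⟩
      mul_mem' := fun ⟨g, a, b⟩ ⟨g', a', b'⟩ => ⟨g * g', mul_mem a a', b.mul b'⟩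
      inv_mem' := fun ⟨g, a, b⟩ => ⟨g⁻¹, inv_mem a, b.inv⟩ }
  have hY : Y.Normal := ⟨fun c ⟨g, a, b⟩ d =>
    let ⟨u, k⟩ := h.all_acts d.2; ⟨_, cK u g a, (k.mul b).mul k.inv⟩⟩
  obtain ⟨u, c, hc, o, -, -, -, o'⟩ := wit_x
  have top := CK_normal_of_mem hY ⟨_, lK _, h.acts_D ⟨z k0, mem_DK.2 ⟨(z_comm _).symm, (z_comm _).symm⟩⟩⟩
    (c := ⟨c, DK_le_CK hc⟩) ⟨_, lK _, h.acts_D ⟨c, hc⟩⟩ fun e => o' (by
      rwa [mem_Q_iff_cact.1 e, add_assoc, ww_add_self, add_zero])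
  obtain ⟨d, hd⟩ := h.acts_of_norm hy (h.norm y hy)
  obtain ⟨g, a, b⟩ := top.ge (mem_top (⟨d, hd.mem⟩ : CK))
  exact (K.mul_mem_cancel_left (inv_mem a)).1
    (QK ((h.mem_iff (b.inv.mul hd)).2 (by rw [inv_mul_cancel]; exact one_mem _)))

variable [Finite G]

theorem two_cen (k : Ov f x y) (hy : Commute y (qG ρ 1 0)) (hx : Two x) : x ∈ centralizer (θ : Set G) := by
  obtain ⟨c, hc, k'⟩ := h.exists_cen hy
  have h1 := h.ker' (by simpa using k.mul k'.inv)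
  refine mem_of_pow_odd hx h.odd ?_
  have e : x = x * c⁻¹ * c := by group
  rw [e, Commute.mul_pow (hc _ h1), Qt.pow_card h1, one_mul]
  exact pow_mem hc _

theorem uniq (k : Ov f x y) (k' : Ov f x' y) (hy : Commute y (qG ρ 1 0)) (hx : Two x) (hx' : Two x') :
    x = x' := by
  have h1 := h.ker' (by simpa using k.inv.mul k')
  have c : Commute x⁻¹ x' := by
    have : Commute x (x⁻¹ * x') := (h.two_cen k hy hx _ h1).symm
    simpa using ((Commute.refl x).mul_right this).inv_left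
  exact inv_mul_eq_one.1 (eq_one_of_odd_two (odd_of_mem h.odd h1) (two_mul' c (two_inv hx) hx'))

theorem exists_two (r : RQ) : ∃ x, Ov f x (ρ r) ∧ Two x := by
  obtain ⟨e, w, hw, k⟩ := mem_range_iff.1 (⟨r, rfl⟩ : ρ r ∈ ρ.range)
  have h4 : ρ r ^ 4 = 1 := by
    rw [show 4 = 2 * 2 from rfl, pow_mul, pow_two, pow_two, k, qG_mul_self _ hw, qG_mul_self _ (om_zero_left _),
      XB.qf_zero', qG_zero]
  obtain ⟨x, k⟩ := h.exists_lift (ρ r)
  obtain ⟨n, hn⟩ := h.odd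
  refine ⟨x ^ (Nat.card θ * Nat.card θ), ?_, 2, ?_⟩
  · have := k.pow (Nat.card θ * Nat.card θ)
    rwa [show Nat.card θ * Nat.card θ = 4 * (n * n + n) + 1 by rw [hn]; ring, pow_succ (ρ r), pow_mul (ρ r), h4,
      one_pow, one_mul, show 4 * (n * n + n) + 1 = Nat.card θ * Nat.card θ by rw [hn]; ring] at this
  · rw [← pow_mul, mul_comm _ (2 ^ 2), ← mul_assoc, pow_mul, pow_mul,
      Qt.pow_card (x := x ^ 2 ^ 2) (h.ker' (h4 ▸ k.pow 4)), one_pow]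

theorem exists_rho : ∃ ρ' : RQ →* G, ∀ r, Ov f (ρ' r) (ρ r) ∧ Two (ρ' r) := by
  choose s hs using h.exists_two
  have cz : ∀ r, Commute (ρ r) (qG ρ 1 0) := qG_z
  obtain ⟨z, hz, z2⟩ : ∃ z, Ov f z (qG ρ 1 0) ∧ Two z := by
    rw [qG_def 1 (om_zero_left _)]; exact ⟨_, hs _⟩
  have c : ∀ {x y}, Ov f x y → Commute y (qG ρ 1 0) → Commute x z := fun {x y} k hy =>
    mul_inv_eq_iff_eq_mul.1 (h.uniq (by simpa [hy.eq] using k.conj hz) hz (Commute.refl _) (two_conj x z2) z2)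
  have zz : z * z = 1 := h.uniq (h.es.mul_self ▸ hz.mul hz) ov_one (Commute.one_left _)
    (two_mul' (Commute.refl _) z2 z2) ⟨0, one_pow _⟩
  have sq : ∀ r, s r * s r = 1 ∨ s r * s r = z := fun r => by
    obtain ⟨e, w, hw, k⟩ := mem_range_iff.1 (⟨r, rfl⟩ : ρ r ∈ ρ.range)
    have k1 := (hs r).1.mul (hs r).1
    have k2 := two_mul' (Commute.refl _) (hs r).2 (hs r).2
    rw [k, qG_mul_self _ hw] at k1
    refine (z2_cases (qf w)).imp (fun e => ?_) fun e => ?_ <;> rw [e] at k1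
    · exact h.uniq (qG_zero (ρ := ρ) ▸ k1) ov_one (Commute.one_left _) k2 ⟨0, one_pow _⟩
    · exact h.uniq k1 hz (Commute.refl _) k2 z2
  refine ⟨MonoidHom.mk' s fun r r' => ?_, hs⟩
  refine h.uniq (hs _).1 (map_mul ρ r r' ▸ (hs r).1.mul (hs r').1) (cz _) (hs _).2 (two_of_mul_self ?_)
  have k1 := (hs r).1.conj (hs r').1
  have k2 := two_conj (s r) (hs r').2
  have k3 : s r * s r' * (s r)⁻¹ = s r' ∨ s r * s r' * (s r)⁻¹ = z * s r' := by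
    refine (h.es.comm _ ⟨r, rfl⟩ _ ⟨r', rfl⟩).imp (fun e => ?_) fun e => ?_ <;> rw [e] at k1
    · exact h.uniq (by simpa using k1) (hs r').1 (cz _) k2 (hs r').2
    · exact h.uniq (by simpa [mul_assoc] using k1) (hz.mul (hs r').1) ((Commute.refl _).mul_left (cz _)) k2
        (two_mul' (c (hs r').1 (cz _)).symm z2 (hs r').2)
  have k4 : Commute (s r') (s r * s r) := by
    rcases sq r with e | e <;> rw [e]
    exacts [Commute.one_right _, c (hs r').1 (cz _)]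
  rw [show s r * s r' * (s r * s r') = s r * s r' * (s r)⁻¹ * (s r * s r * s r') by group, ← k4.eq]
  have o : Two (1 : G) := ⟨0, one_pow _⟩
  rcases k3 with e | e <;> rw [e, ← mul_assoc]
  · rcases sq r with e1 | e1 <;> rcases sq r' with e2 | e2 <;> simp [e1, e2, zz, o, z2]
  · rw [mul_assoc z]
    rcases sq r with e1 | e1 <;> rcases sq r' with e2 | e2 <;> simp [e1, e2, zz, o, z2]

end Qt

/-- the lift of `ρ` -/
structure Lf (τ : M) (φ : LM π →* X) (ρ : RQ →* X) (θ : Subgroup G) (f : normalizer (θ : Set G) →* X)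
    (a : normalizer (θ : Set G)) (ρ' : RQ →* G) : Prop extends Qt τ φ ρ θ f a where
  lf : ∀ r, Ov f (ρ' r) (ρ r) ∧ Two (ρ' r)

namespace Lf

variable {ρ' : RQ →* G} [Finite G] (h : Lf τ φ ρ θ f a ρ') {e e' : ZMod 2} {v w : V24}
include h

omit [Finite G] in
theorem ov (e : ZMod 2) (w : V24) : Ov f (qG ρ' e w) (qG ρ e w) ∧ Two (qG ρ' e w) := by
  unfold qG
  split_ifs
  exacts [h.lf _, ⟨ov_one, 0, one_pow _⟩]

theorem eq_q (k : Ov f x (qG ρ e w)) (hx : Two x) : x = qG ρ' e w :=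
  h.uniq k (h.ov e w).1 (h.es.comm_z _ (qG_mem e w)) hx (h.ov e w).2

theorem eq_iff : qG ρ' e v = qG ρ' e' w ↔ qG ρ e v = qG ρ e' w :=
  ⟨fun k => (h.ov e v).1.eq (k ▸ (h.ov e' w).1), fun k => h.eq_q (k ▸ (h.ov e v).1) (h.ov e v).2⟩

theorem a_eq' : (a : G) = qG ρ' 0 s1 := h.eq_q h.ov_a (two_of_sq (congrArg Subtype.val h.a2))

theorem conj_q {g : G} {u : X} (k : Ov f g u) (k' : u * qG ρ e v * u⁻¹ = qG ρ e' w) :
    g * qG ρ' e v * g⁻¹ = qG ρ' e' w := h.eq_q (k' ▸ k.conj (h.ov e v).1) (two_conj g (h.ov e v).2)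

theorem comm_z (k : Ov f x y) (hy : Commute y (qG ρ 1 0)) : Commute x (qG ρ' 1 0) :=
  mul_inv_eq_iff_eq_mul.1 (h.conj_q k (mul_inv_eq_iff_eq_mul.2 hy))

theorem acts {c : C k0} (k : Ov f x y) (hy : Acts ρ y c) : Acts ρ' x c :=
  ⟨hy.mem, h.comm_z k hy.z, fun w hw => (hy.act w hw).imp fun _ e => h.conj_q k e⟩

theorem exists_acts (hx : x ∈ normalizer (θ : Set G)) (c : Commute x (qG ρ' 1 0)) :
    ∃ y c, Ov f x y ∧ Acts ρ y c := by
  have := Finite.of_surjective f h.surj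
  obtain ⟨y, k⟩ := exists_ov (f := f) hx
  have hy := k.comm (h.ov 1 0).1 c
  obtain ⟨d, hd⟩ := h.acts_of_norm hy (h.norm y hy)
  exact ⟨y, d, k, hd⟩

theorem normQ (hx : x ∈ normalizer (θ : Set G)) (c : Commute x (qG ρ' 1 0)) :
    x ∈ normalizer (ρ'.range : Set G) :=
  let ⟨_, _, k, hd⟩ := h.exists_acts hx c; (h.acts k hd).mem_normalizer

theorem cen_of (hx : x ∈ normalizer (θ : Set G)) (c : Commute x (qG ρ' 1 0)) (h2 : Two x) :
    x ∈ centralizer (θ : Set G) :=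
  let ⟨_, k⟩ := exists_ov (f := f) hx; h.two_cen k (k.comm (h.ov 1 0).1 c) h2

omit [Finite G] in
theorem Q_le (hx : x ∈ ρ'.range) : x ∈ normalizer (θ : Set G) ∧ Two x := by
  obtain ⟨r, rfl⟩ := hx
  exact ⟨(h.lf r).1.mem, (h.lf r).2⟩

omit [Finite G] h in
theorem cz (hx : x ∈ ρ'.range) : Commute x (qG ρ' 1 0) := by
  obtain ⟨r, rfl⟩ := hx
  exact qG_z r

omit [Finite G] h in
theorem z_sq : qG ρ' 1 0 * qG ρ' 1 0 = 1 := by rw [qG_mul_self _ (om_zero_left _), XB.qf_zero', qG_zero]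

omit [Finite G] h in
theorem sq (hx : x ∈ ρ'.range) : x * x = 1 ∨ x * x = qG ρ' 1 0 := by
  obtain ⟨e, w, hw, rfl⟩ := mem_range_iff.1 hx
  refine (z2_cases (qf w)).imp (fun e => ?_) fun e => ?_ <;> rw [qG_mul_self _ hw, e]
  exact qG_zero

omit [Finite G] h in
theorem sign {e' : ZMod 2} (hw : om w v0 = 0) : qG ρ' e' w = qG ρ' e w ∨ qG ρ' e' w = qG ρ' e w * qG ρ' 1 0 := by
  rw [Tig.split e e' hw]
  refine (z2_cases (e + e')).imp (fun k => ?_) fun k => ?_ <;> rw [k]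
  rw [qG_zero, mul_one]

omit [Finite G] h in
theorem cm (hx : x ∈ ρ'.range) (hx' : x' ∈ ρ'.range) : x * x' * x⁻¹ = x' ∨ x * x' * x⁻¹ = x' * qG ρ' 1 0 := by
  obtain ⟨e, w, hw, rfl⟩ := mem_range_iff.1 hx
  obtain ⟨e', w', hw', rfl⟩ := mem_range_iff.1 hx'
  rw [qG_conj e e' hw hw']
  exact sign hw'

theorem z_ne : qG ρ' 1 0 ≠ 1 := fun k => h.toExt.z_ne ((h.eq_iff.1 (k.trans qG_zero.symm)).trans qG_zero)

omit [Finite G] in
theorem bar_cen (k : Ov f x y) (c : ∀ u ∈ ρ'.range, Commute u x) : y = 1 ∨ y = qG ρ 1 0 := by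
  have c' : ∀ e w, Commute (qG ρ e w) y := fun e w => (h.ov e w).1.comm k (c _ (qG_mem e w))
  refine h.es.center y (h.mem_of_triv (c' 1 0).symm fun w _ => ⟨0, ?_⟩) fun u hu => ?_
  · rw [← (c' 0 w).eq, mul_inv_cancel_right]
  · obtain ⟨e, w, -, rfl⟩ := mem_range_iff.1 hu
    exact c' e w

omit [Finite G] in
theorem cenQ (hx : x ∈ normalizer (θ : Set G)) (c : ∀ u ∈ ρ'.range, Commute u x) {m : ℕ} (hm : Odd m)
    (e : x ^ m = 1) : x ∈ θ := by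
  obtain ⟨y, k⟩ := exists_ov (f := f) hx
  rcases h.bar_cen k c with rfl | rfl
  · exact h.ker' k
  · have := (e ▸ k.pow m).eq ov_one
    rw [StdInt.odd_pow_sq h.es.mul_self hm] at this
    exact absurd this h.toExt.z_ne

theorem cenQ' (hx : x ∈ normalizer (θ : Set G)) (c : ∀ u ∈ ρ'.range, Commute u x) (h2 : Two x) :
    x = 1 ∨ x = qG ρ' 1 0 := by
  obtain ⟨y, k⟩ := exists_ov (f := f) hx
  refine (h.bar_cen k c).imp (fun e => ?_) fun e => h.eq_q (by rwa [← e]) h2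
  exact (h.eq_q (e := 0) (w := 0) (by rwa [qG_zero, ← e]) h2).trans qG_zero

theorem stab {g : G} (hg : Commute g (qG ρ' 1 0))
    (k : x * (g * a * g⁻¹) * x⁻¹ = g * a * g⁻¹ ∨ x * (g * a * g⁻¹) * x⁻¹ = g * a * g⁻¹ * qG ρ' 1 0) :
    g⁻¹ * x * g ∈ normalizer (θ : Set G) := by
  have e1 : g⁻¹ * x * g * a * (g⁻¹ * x * g)⁻¹ = g⁻¹ * (x * (g * a * g⁻¹) * x⁻¹) * g := by group
  rcases k with k | k
  · exact h.ca _ (mul_inv_eq_iff_eq_mul.1 (by rw [e1, k]; group))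
  · obtain ⟨u, -, k'⟩ := Tig.exists_az ρ'
    rw [← h.a_eq'] at k'
    refine (Subgroup.mul_mem_cancel_left _ (inv_mem (h.ov 0 u).1.mem)).1 (h.ca _ (mul_inv_eq_iff_eq_mul.1 ?_))
    calc _ = (qG ρ' 0 u)⁻¹ * (g⁻¹ * x * g * a * (g⁻¹ * x * g)⁻¹) * qG ρ' 0 u := by group
      _ = (qG ρ' 0 u)⁻¹ * (a * (g⁻¹ * (qG ρ' 1 0 * g))) * qG ρ' 0 u := by rw [e1, k]; group
      _ = _ := by rw [← hg.eq, inv_mul_cancel_left, ← k']; group

theorem exists_conj' (e : ZMod 2) (hw : Om w) :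
    ∃ m ∈ normalizer (θ : Set G), Commute m (qG ρ' 1 0) ∧ m * a * m⁻¹ = qG ρ' e w := by
  obtain ⟨u, c, hc, k⟩ := h.exists_conj e hw
  obtain ⟨m, hm⟩ := h.exists_lift u
  exact ⟨m, hm.mem, h.comm_z hm hc.z, h.a_eq' ▸ h.conj_q hm k⟩

theorem of_cen {g δ : G} (h1 : δ ∈ normalizer (θ : Set G)) (c1 : Commute δ (qG ρ' 1 0)) (d2 : δ * δ = 1)
    (h2 : ∀ t ∈ θ, g⁻¹ * t * g ∈ normalizer (θ : Set G) ∧ Commute (g⁻¹ * t * g) (qG ρ' 1 0))
    (h3 : g * δ * g⁻¹ ∈ centralizer (θ : Set G))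
    (k : ∀ x ∈ ρ'.range, Commute x δ → g * x * g⁻¹ ∈ centralizer (θ : Set G)) : g ∈ normalizer (θ : Set G) := by
  refine inv_mem_iff.1 (LAE.mem_normalizer_of_conjS_le (LAE.conjS_le_iff_forall.2 fun t ht => ?_))
  rw [inv_inv]
  have e : (g⁻¹ * t * g) ^ Nat.card θ = 1 := by
    have := conj_pow (a := g⁻¹) (b := t) (i := Nat.card θ)
    rwa [inv_inv, Qt.pow_card ht, mul_one, inv_mul_cancel] at this
  have c : ∀ {x}, g * x * g⁻¹ ∈ centralizer (θ : Set G) → Commute x (g⁻¹ * t * g) := fun k =>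
    (StdInt.comm_conj.1 (k t ht)).symm
  exact h.cenQ (h2 t ht).1 (axb z_sq (fun _ => sq) (fun _ a _ b => cm a b) (h.normQ h1 c1)
    (h.normQ (h2 t ht).1 (h2 t ht).2) d2 (c h3) (h2 t ht).2 h.odd e fun x hx e => c (k x hx e)) h.odd e

theorem key {g : G} (hg : Commute g (qG ρ' 1 0)) (k : g * a * g⁻¹ ∈ normalizer (θ : Set G)) :
    g ∈ normalizer (θ : Set G) := by
  have az : Commute (a : G) (qG ρ' 1 0) := h.a_eq' ▸ cz (qG_mem 0 s1)
  have a2 : (a : G) * a = 1 := congrArg Subtype.val h.a2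
  have s2 : g * a * g⁻¹ * (g * a * g⁻¹) = 1 := by rw [conj_mul, a2, mul_one, mul_inv_cancel]
  have sz := (hg.mul_left az).mul_left hg.inv_left
  obtain ⟨y, c, ky, hc⟩ := h.exists_acts k sz
  obtain ⟨w, hw, ev⟩ := exists_fix_Om hc.mem ((h.mem_iff (hc.mul hc)).1
    ((s2 ▸ ky.mul ky).eq ov_one ▸ one_mem _))
  obtain ⟨m, hm, mz, em⟩ := h.exists_conj' 0 hw
  obtain ⟨e, k1⟩ := hc.act w hw.perp
  obtain ⟨e', k2⟩ := h.qG_ev ev hw.perp e
  have k3 := h.conj_q ky (k1.trans k2)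
  have dz := cz (qG_mem (ρ := ρ') 0 w)
  have d2 : qG ρ' 0 w * qG ρ' 0 w = 1 := by rw [← em, conj_mul, a2, mul_one, mul_inv_cancel]
  have sw : ∀ {x d : G}, Commute d (qG ρ' 1 0) → Commute x (qG ρ' 1 0) →
      (x * d * x⁻¹ = d ∨ x * d * x⁻¹ = d * qG ρ' 1 0) → d * x * d⁻¹ = x ∨ d * x * d⁻¹ = x * qG ρ' 1 0 :=
    fun {x d} c1 c2 k => k.imp (fun e => mul_inv_eq_iff_eq_mul.2 (mul_inv_eq_iff_eq_mul.1 e).symm) fun e => by
      calc d * x * d⁻¹ = d * x * (qG ρ' 1 0 * qG ρ' 1 0) * d⁻¹ := by rw [z_sq, mul_one]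
        _ = d * (x * qG ρ' 1 0) * qG ρ' 1 0 * d⁻¹ := by group
        _ = x * d * x⁻¹ * x * qG ρ' 1 0 * d⁻¹ := by rw [c2.eq, e]; group
        _ = x * (d * qG ρ' 1 0) * d⁻¹ := by group
        _ = _ := by rw [c1.eq]; group
  have hd := h.stab hg (sw dz sz (by rw [k3]; exact sign hw.perp))
  have hs := h.cen_of k sz (two_of_sq s2)
  refine h.of_cen hd ((hg.inv_left.mul_left dz).mul_left hg) (by
      rw [show g⁻¹ * qG ρ' 0 w * g * (g⁻¹ * qG ρ' 0 w * g) = g⁻¹ * (qG ρ' 0 w * qG ρ' 0 w) * g by group, d2,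
        mul_one, inv_mul_cancel]) (fun t ht => ⟨h.ca _ (StdInt.comm_conj.1 (hs t ht)), ?_⟩) ?_ fun x hx c => ?_
  · exact (hg.inv_left.mul_left (h.cen_of (h.ov 1 0).1.mem (Commute.refl _) (h.ov 1 0).2 t ht)).mul_left hg
  · rw [show g * (g⁻¹ * qG ρ' 0 w * g) * g⁻¹ = qG ρ' 0 w by group]
    exact h.cen_of (h.ov 0 w).1.mem dz (h.ov 0 w).2
  · have c1 := (hg.mul_left (cz hx)).mul_left hg.inv_left
    refine h.cen_of ?_ c1 (two_conj g (h.Q_le hx).2)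
    have := h.stab (x := g * x * g⁻¹) mz (Or.inl (by
      rw [em]; exact mul_inv_eq_iff_eq_mul.2 (StdInt.comm_conj.2 c.symm).symm))
    exact (Subgroup.mul_mem_cancel_left _ (inv_mem hm)).1 ((Subgroup.mul_mem_cancel_right _ hm).1 this)

end Lf

end CfsgLib.StdB
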