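import Mathlib
import Cfsg.Agent.Lib.StdB.STca

/-! STDB, package STC (plans/STDB-STD.md). -/

set_option autoImplicit false

namespace CfsgLib.StdB

open Cfsg CfsgLib.Leech CfsgLib.Mon CfsgLib.DCX CfsgLib.StdM Subgroup STc
open CfsgLib.StdInt (Two two_conj)

variable {M G X : Type*} [Group M] [Group G] [Group X] {π : C k0 →* M} {τ : M} {φ : LM π →* X} {ρ : RQ →* X}

variable {θ : Subgroup G} {f : normalizer (θ : Set G) →* X} {a : normalizer (θ : Set G)}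

namespace Lf

variable {ρ' : RQ →* G} [Finite G] (h : Lf τ φ ρ θ f a ρ')
include h

theorem rho_iff {r r' : RQ} : ρ' r = ρ' r' ↔ ρ r = ρ r' :=
  ⟨fun k => (h.lf r).1.eq (k ▸ (h.lf r').1),
    fun k => h.uniq (h.lf r).1 (k ▸ (h.lf r').1) (qG_z r) (h.lf r).2 (h.lf r').2⟩

theorem ncard_pre' {S : Set G} (hS : S ⊆ ρ'.range) : (ρ' ⁻¹' S).ncard = 2 * S.ncard := by
  choose! s hs using fun y (hy : y ∈ S) => (hS hy : ∃ x, ρ' x = y)
  have e : ρ' ⁻¹' S = ρ ⁻¹' ((fun y => ρ (s y)) '' S) := by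
    ext r
    exact ⟨fun k => ⟨_, k, h.rho_iff.1 (hs _ k)⟩, fun ⟨y, hy, k⟩ => by
      rwa [Set.mem_preimage, ← h.rho_iff.2 k, hs y hy]⟩
  rw [e, h.ncard_pre (by rintro _ ⟨y, -, rfl⟩; exact ⟨_, rfl⟩), Set.InjOn.ncard_image fun x hx y hy k => by
    rw [← hs x hx, ← hs y hy, h.rho_iff.2 k]]

theorem card_range' : Nat.card ρ'.range = 2 ^ 23 := by
  have e1 := h.ncard_pre' (S := ρ'.range) subset_rfl
  have e2 := h.ncard_pre (S := ρ.range) subset_rfl
  rw [MonoidHom.coe_range, Set.preimage_range, ← MonoidHom.coe_range, ← Nat.card_coe_set_eq (ρ'.range : Set G),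
    SetLike.coe_sort_coe] at e1
  rw [MonoidHom.coe_range, Set.preimage_range, ← MonoidHom.coe_range, ← Nat.card_coe_set_eq (ρ.range : Set X),
    SetLike.coe_sort_coe, h.card_range] at e2
  omega

attribute [local irreducible] qG in
theorem norm' (g : G) (hz : Commute g (qG ρ' 1 0)) : g ∈ normalizer (ρ'.range : Set G) := by
  let D := centralizer ({qG ρ' 1 0} : Set G)
  have mD : ∀ x : D, Commute x.1 (qG ρ' 1 0) := fun x => mem_centralizer_singleton_iff.1 x.2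
  have QD : ρ'.range ≤ D := fun x hx => mem_centralizer_singleton_iff.2 (cz hx)
  have aQ : (a : G) ∈ ρ'.range := h.a_eq' ▸ qG_mem 0 s1
  have a2 : (a : G) * a = 1 := congrArg Subtype.val h.a2
  let T : Set D := {s | ∃ g : D, g.1 * a * g.1⁻¹ = s.1}
  have hT : ∀ x : D, x ∈ T ∩ ρ'.range.subgroupOf D ↔ ∃ e w, Om w ∧ x.1 = qG ρ' e w := fun x => by
    constructor
    · rintro ⟨⟨b, h1⟩, h2⟩
      obtain ⟨e, w, hw, k⟩ := mem_range_iff.1 (mem_subgroupOf.1 h2)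
      obtain ⟨u, hu⟩ := exists_ov (f := f) (h.key (mD b) (h1 ▸ (h.Q_le (mem_subgroupOf.1 h2)).1))
      have := hu.conj h.ov_a
      rw [h1, k] at this
      exact ⟨e, w, (h.isConj_iff hw).1 (_root_.isConj_iff.2 ⟨u, this.eq (h.ov e w).1⟩), k⟩
    · rintro ⟨e, w, hw, k⟩
      obtain ⟨m, -, ha, k'⟩ := h.exists_conj' e hw
      exact ⟨⟨⟨m, mem_centralizer_singleton_iff.2 ha⟩, k'.trans k.symm⟩, mem_subgroupOf.2 (k ▸ qG_mem e w)⟩
  have hN := subgroupOf_normalizer_eq QD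
  have H : TIG (⟨qG ρ' 1 0, QD (qG_mem 1 0)⟩ : D) T (ρ'.range.subgroupOf D) 2 := by
    refine ⟨le_rfl, orderOf_eq_prime (Subtype.ext (by rw [pow_two]; exact z_sq))
      fun e => h.z_ne (congrArg Subtype.val e), fun g => Subtype.ext (mD g), ?_, ?_, ?_, ?_,
      qG_mem 1 0, fun b hb => (sq (mem_subgroupOf.1 hb)).imp Subtype.ext Subtype.ext,
      fun b hb k => (h.cenQ' (h.Q_le (mem_subgroupOf.1 hb)).1 (fun c hc => ?_)
        (h.Q_le (mem_subgroupOf.1 hb)).2).imp Subtype.ext Subtype.ext,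
      fun b hb => ?_, fun s hs hQ x hx => ?_, ?_, ?_, fun W h1 _ h3 => ?_⟩
    · rintro s ⟨b, k⟩
      exact Subtype.ext (by rw [coe_mul, ← k, conj_mul, a2, mul_one, mul_inv_cancel]; rfl)
    · rintro s ⟨b, k⟩
      obtain ⟨u, hu, k'⟩ := Tig.exists_az ρ'
      rw [← h.a_eq'] at k'
      refine ⟨b * ⟨_, QD (qG_mem 0 u)⟩, ?_⟩
      change b.1 * qG ρ' 0 u * a * (b.1 * qG ρ' 0 u)⁻¹ = s.1 * qG ρ' 1 0
      rw [show b.1 * qG ρ' 0 u * a * (b.1 * qG ρ' 0 u)⁻¹ =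
        b.1 * (qG ρ' 0 u * a * (qG ρ' 0 u)⁻¹) * b.1⁻¹ by group, k', ← conj_mul, k, (mD b).eq,
        mul_inv_cancel_right]
    · rintro s ⟨c, k⟩ b
      exact ⟨b * c, by simp only [coe_mul, coe_inv, ← k]; group⟩
    · rintro s ⟨c, k⟩ s' ⟨b, k'⟩
      exact _root_.isConj_iff.2 ⟨b * c⁻¹, Subtype.ext (by simp only [coe_mul, coe_inv, ← k, ← k']; group)⟩
    · exact congrArg Subtype.val (k ⟨c, QD hc⟩ hc).symm
    · let K := (closure (T ∩ ρ'.range.subgroupOf D)).map D.subtype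
      have mK : ∀ e w, Om w → qG ρ' e w ∈ K := fun e w hw =>
        mem_map_of_mem (x := ⟨qG ρ' e w, QD (qG_mem e w)⟩) D.subtype
          (subset_closure ((hT ⟨qG ρ' e w, QD (qG_mem e w)⟩).2 ⟨e, w, hw, Eq.refl (qG ρ' e w)⟩))
      let A : AddSubgroup V24 :=
        { carrier := {w | om w v0 = 0 ∧ ∀ e, qG ρ' e w ∈ K}
          zero_mem' := ⟨om_zero_left _, fun e => by
            have k1 := mK (0 + e) s1 Om_s1
            rw [← qG_mul_zero _ _ om_s1_v0] at k1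
            exact (K.mul_mem_cancel_left (mK 0 s1 Om_s1)).1 k1⟩
          add_mem' := fun {v w} a b => ⟨om_add0 a.1 b.1, fun e => by
            have := mul_mem (a.2 (e + bet v w)) (b.2 0)
            rwa [qG_mul _ _ a.1 b.1, add_zero, add_assoc, z2_add_self, add_zero] at this⟩
          neg_mem' := fun {x} hx => by rwa [Tig.neg_eq] }
      obtain ⟨e, w, hw, k⟩ := mem_range_iff.1 (mem_subgroupOf.1 hb)
      obtain ⟨c, hc, k'⟩ := (span_P (A := A) (fun u hu => ⟨hu.perp, fun e => mK e u hu⟩) hw).2 e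
      rwa [show b = c from Subtype.ext (k.trans k'.symm)]
    · obtain ⟨e, w, hw, k⟩ := (hT s).1 ⟨hs, hQ⟩
      obtain ⟨m, hm, mz, k'⟩ := h.exists_conj' e hw
      have := h.stab (x := x.1) mz (by
        rw [k', ← k]
        exact hx.imp (congrArg Subtype.val) (congrArg Subtype.val))
      exact hN.le (h.normQ ((Subgroup.mul_mem_cancel_left _ (inv_mem hm)).1
        ((Subgroup.mul_mem_cancel_right _ hm).1 this)) (mD x))
    · rintro s ⟨b, k⟩ hn
      have h1 := h.key (mD s) (h.Q_le ((mem_normalizer_iff.1 (hN.ge hn :) _).1 aQ)).1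
      have h2 := (mem_normalizer_iff.1 (h.normQ (h.key (mD b) (k ▸ h1)) (mD b)) _).1 aQ
      rwa [k] at h2
    · have e1 := h.ncard_pre' (S := D.subtype '' (T ∩ ρ'.range.subgroupOf D)) (by rintro _ ⟨x, hx, rfl⟩; exact hx.2)
      have e2 : ρ' ⁻¹' (D.subtype '' (T ∩ ρ'.range.subgroupOf D)) =
          RQ.subtype ⁻¹' {x | ∃ e w, Om w ∧ x = q k0 e w} := by
        ext x
        obtain ⟨e, w, hx⟩ := x.2.1
        have hw : om w v0 = 0 := q_mem_CK_iff.1 (hx ▸ x.2.2 :)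
        have k : ρ' x = qG ρ' e w := (congrArg ρ' (Subtype.ext hx)).trans (qG_def e hw).symm
        constructor
        · rintro ⟨y, hy, k1⟩
          obtain ⟨e', w', hw', k2⟩ := (hT y).1 hy
          exact ⟨e, w, hw'.of_ev (h.qG_inj hw hw'.perp (h.eq_iff.1 (k.symm.trans (k1.symm.trans k2)))), hx⟩
        · rintro ⟨e', w', hw', k1⟩
          have k2 : w = w' := (q_inj (hx.symm.trans k1)).2
          exact ⟨⟨_, QD ⟨x, rfl⟩⟩, (hT _).2 ⟨e, w, k2 ▸ hw', k⟩, rfl⟩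
      rw [e2, Set.ncard_image_of_injective _ (subtype_injective _),
        Set.ncard_preimage_of_injective_subset_range (subtype_injective _)
          (by rintro _ ⟨e, w, hw, rfl⟩; exact ⟨⟨_, q_mem_RQ.2 hw.perp⟩, rfl⟩), ncard_Om] at e1
      omega
    · let U : AddSubgroup V24 :=
        { carrier := {w | om w v0 = 0 ∧ ∃ e, qG ρ' e w ∈ W.map D.subtype}
          zero_mem' := ⟨om_zero_left _, 0, by rw [qG_zero]; exact one_mem _⟩
          add_mem' := fun ⟨a0, e, a⟩ ⟨b0, f, b⟩ => ⟨om_add0 a0 b0, _, by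
            rw [← qG_mul e f a0 b0]; exact mul_mem a b⟩
          neg_mem' := fun {x} hx => by rwa [Tig.neg_eq] }
      have h4 := free16 (U := U) ⟨om_self _, 0, by
        rw [h.eq_iff.2 (h.t_eq.trans qG_zero.symm), qG_zero]; exact one_mem _⟩ (fun _ a => a.1) (by
        rintro u ⟨-, e, y, hy, k⟩ hu
        exact h3 y hy ((hT y).2 ⟨e, u, hu, k⟩).1)
      have h5 := U.index_mul_card
      have e1 := h.ncard_pre' (S := W.map D.subtype) (by rintro _ ⟨x, hx, rfl⟩; exact h1 hx)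
      have h7 : ∀ a : ρ' ⁻¹' (W.map D.subtype : Set G), ∃ p : ZMod 2 × U, a.1.1 = q k0 p.1 p.2 := fun a => by
        obtain ⟨e, w, hx⟩ := a.1.2.1
        have hw : om w v0 = 0 := q_mem_CK_iff.1 (hx ▸ a.1.2.2 :)
        have k : ρ' a.1 = qG ρ' e w := (congrArg ρ' (Subtype.ext hx)).trans (qG_def e hw).symm
        exact ⟨(e, ⟨w, hw, e, k ▸ a.2⟩), hx⟩
      choose F hF using h7
      have h6 := Nat.card_le_card_of_injective F fun a b k => Subtype.ext (Subtype.ext (by rw [hF, hF, k]))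
      rw [Nat.card_prod, Nat.card_zmod, Nat.card_coe_set_eq, e1, ← Nat.card_coe_set_eq, SetLike.coe_sort_coe,
        card_map_of_injective (subtype_injective _)] at h6
      rw [Core.card_subgroupOf_of_le QD, h.card_range']
      have := Nat.mul_le_mul_right (Nat.card U) h4
      rw [h5, card_V24] at this
      omega
  have := H.normal
  exact mem_subgroupOf.1 (hN.ge ((normalizer_eq_top _).ge (mem_top (⟨g, mem_centralizer_singleton_iff.2 hz⟩ : D))))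

theorem cent' {g : G} (hz : Commute g (qG ρ' 1 0)) : g ∈ normalizer (θ : Set G) :=
  h.key hz (h.Q_le ((mem_normalizer_iff.1 (h.norm' g hz) _).1 (h.a_eq' ▸ qG_mem 0 s1))).1

theorem exists_syl : ∃ S, LAE.IsSylowIn 2 S ⊤ ∧ S ≤ centralizer ({qG ρ' 1 0} : Set G) ∧ ρ'.range ≤ S := by
  have := Fact.mk Nat.prime_two
  have mD : ∀ {x}, x ∈ centralizer ({qG ρ' 1 0} : Set G) ↔ Commute x (qG ρ' 1 0) := mem_centralizer_singleton_iff
  obtain ⟨S, hS, hQ⟩ := LAE.exists_isSylowIn_ge (p := 2) (H := centralizer ({qG ρ' 1 0} : Set G))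
    (LAE.isPGroup_iff_forall_mem.2 fun x hx => (h.Q_le hx).2) fun x hx => mD.2 (cz hx)
  obtain ⟨S', hS', hle⟩ := LAE.exists_isSylowIn_ge hS.isPGroup (le_top (a := S))
  refine ⟨S, hle.eq_or_lt.elim (fun e => e ▸ hS') fun hlt => ?_, hS.le, hQ⟩
  exfalso
  have := hS'.isPGroup.isNilpotent
  obtain ⟨x, ⟨x1, x2⟩, x3⟩ := SetLike.exists_of_lt (Core.lt_inf_normalizer_of_isNilpotent hlt)
  have hz := (mem_normalizer_iff.1 x2 _).1 (hQ (qG_mem 1 0))
  have h1 := h.cenQ' (h.cent' (mD.1 (hS.le hz))) (fun u hu => StdInt.comm_conj.2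
    (mD.1 (hS.le (LAE.conj_inv_mem_of_mem_normalizer x2 (hQ hu))))) (two_conj x (h.ov 1 0).2)
  refine x3 (hS.le_of_normalizes (hS'.isPGroup.to_le (zpowers_le.2 x1)) (zpowers_le.2 (mD.2 ?_))
    (zpowers_le.2 x2) (mem_zpowers x))
  exact mul_inv_eq_iff_eq_mul.1 (h1.resolve_left fun e => h.z_ne (conj_eq_one_iff.1 e))

theorem fus' {g : G} (hg : g * qG ρ' 1 0 * g⁻¹ ∈ normalizer (θ : Set G)) : g ∈ normalizer (θ : Set G) := by
  have := Fact.mk Nat.prime_two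
  have mD : ∀ {x}, x ∈ centralizer ({qG ρ' 1 0} : Set G) ↔ Commute x (qG ρ' 1 0) := mem_centralizer_singleton_iff
  obtain ⟨S, hS, h1, -⟩ := h.exists_syl
  have two : ∀ g : G, Two (g * qG ρ' 1 0 * g⁻¹) := fun g => two_conj g (h.ov 1 0).2
  obtain ⟨n, hn, e⟩ := (hS.mono (fun x hx => h.cent' (mD.1 (h1 hx))) le_top).exists_conj_le
    (Q := zpowers (g * qG ρ' 1 0 * g⁻¹)) (LAE.isPGroup_iff_forall_mem.2 (by
      rintro _ ⟨n, rfl⟩
      obtain ⟨k, hk⟩ := two g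
      exact ⟨k, by rw [← zpow_natCast, ← zpow_mul, mul_comm, zpow_mul, zpow_natCast, hk, one_zpow]⟩))
    (zpowers_le.2 hg)
  have h2 := mD.1 (h1 (e (LAE.conj_mem_conjS.2 (mem_zpowers _))))
  rw [show n * (g * qG ρ' 1 0 * g⁻¹) * n⁻¹ = n * g * qG ρ' 1 0 * (n * g)⁻¹ by group] at h2
  refine (Subgroup.mul_mem_cancel_left _ hn).1 ?_
  generalize n * g = g at h2
  have h3 := h.cen_of (h.cent' h2) h2 (two g)
  have h4 := StdInt.comm_conj.1 h2.symm
  refine h.of_cen (h.cent' h4) h4 (by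
    rw [show g⁻¹ * qG ρ' 1 0 * g * (g⁻¹ * qG ρ' 1 0 * g) = g⁻¹ * (qG ρ' 1 0 * qG ρ' 1 0) * g by group, z_sq,
      mul_one, inv_mul_cancel]) (fun t ht => ?_) ?_ fun x hx c => ?_
  · have := StdInt.comm_conj.1 (h3 t ht)
    exact ⟨h.cent' this, this⟩
  · rw [show g * (g⁻¹ * qG ρ' 1 0 * g) * g⁻¹ = qG ρ' 1 0 by group]
    exact h.cen_of (h.ov 1 0).1.mem (Commute.refl _) (h.ov 1 0).2
  · have := (StdInt.comm_conj.2 c.symm).symm
    exact h.cen_of (h.cent' this) this (two_conj g (h.Q_le hx).2)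

end Lf

theorem Qt.cent_z [Finite G] (h : Qt τ φ ρ θ f a) {z : normalizer (θ : Set G)} (h1 : f z = φ (zL π)) (h2 : z * z = 1)
    (h3 : z.1 ∈ centralizer (θ : Set G)) {g : G} (hg : Commute g z) : g ∈ normalizer (θ : Set G) := by
  obtain ⟨ρ', k⟩ := h.exists_rho
  have l : Lf τ φ ρ θ f a ρ' := ⟨h, k⟩
  refine l.cent' ?_
  rwa [← l.eq_q (x := z.1) (h.z_eq ▸ h1 ▸ ov_of z) (two_of_sq (congrArg Subtype.val h2))]

theorem Qt.fus [Finite G] (h : Qt τ φ ρ θ f a) : ∃ z ∈ normalizer (θ : Set G), IsTwoCentralInvolution z ∧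
    ∀ g : G, g * z * g⁻¹ ∈ normalizer (θ : Set G) → g ∈ normalizer (θ : Set G) := by
  have := Fact.mk Nat.prime_two
  obtain ⟨ρ', k⟩ := h.exists_rho
  have l : Lf τ φ ρ θ f a ρ' := ⟨h, k⟩
  refine ⟨qG ρ' 1 0, (l.ov 1 0).1.mem, ⟨orderOf_eq_prime (by rw [pow_two]; exact Lf.z_sq) l.z_ne, ?_⟩,
    fun g => l.fus'⟩
  obtain ⟨S, hS, h1, h2⟩ := l.exists_syl
  obtain ⟨P, rfl⟩ := hS.exists_sylow_top
  exact ⟨P, h2 (qG_mem 1 0), fun x hx => mem_centralizer_singleton_iff.1 (h1 hx)⟩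

end CfsgLib.StdB
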