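import Mathlib
import Cfsg.Agent.Lib.StdB.STc
import Cfsg.Agent.Lib.StdB.SHolt
import Cfsg.Agent.Lib.StdB.Main
import Cfsg.Agent.Lib.StdB.Iso
import Cfsg.Agent.Lib.StdInt.Main
import Cfsg.Agent.Lib.FT.OddOrder

/-! STDB, package STHETA (plans/STDB-STD.md). -/

set_option autoImplicit false

namespace CfsgLib.StdB

open Cfsg CfsgLib.Leech CfsgLib.Mon CfsgLib.DCX CfsgLib.StdM Subgroup

theorem STh.cen_of_perf {G : Type*} [Group G] {A : Subgroup G} [Group.IsPerfect A] {g : G}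
    (hg : g ∈ normalizer (A : Set G)) (h : ∀ x ∈ A, x⁻¹ * (g * x * g⁻¹) ∈ centralizer (A : Set G)) :
    g ∈ centralizer (A : Set G) := fun x hx => by
  have := Schur.lift_unique_of_perfect (σ := QuotientGroup.mk' (center A)) (QuotientGroup.ker_mk' _).le
    (MonoidHom.id A) (StdInt.aut hg).toMonoidHom (MonoidHom.ext fun y => QuotientGroup.eq.2
      (Subgroup.mem_center_iff.2 fun u => Subtype.ext (by
        have := h y y.2 u u.2
        rwa [← StdInt.aut_apply hg] at this)))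
  have e := congrArg Subtype.val (DFunLike.congr_fun this ⟨x, hx⟩)
  exact (mul_inv_eq_iff_eq_mul.1 ((StdInt.aut_apply hg ⟨x, hx⟩).symm.trans e.symm)).symm

theorem theta_bot {G : Type*} [Group G] [Finite G] [IsSimpleGroup G] (hG : ¬ IsMulCommutative G) {A : Subgroup G}
    (hA : IsStandardSubgroup A) {K : Type*} [Field K] [Fintype K] (hK : Fintype.card K = 4)
    (e : A ⧸ center A ≃* Lie.twistedE6 K 2) {a : G} (aA : a ∈ A) (aK : a ∈ centralizer (A : Set G))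
    (a2 : orderOf a = 2) {θ : Subgroup G} (hθ : StdInt.Th (centralizer (A : Set G)) θ a) {g : G}
    (hg : g ∈ normalizer (θ : Set G)) (h1 : Commute (g * a * g⁻¹) a) (h2 : g * a * g⁻¹ ≠ a) : θ = ⊥ := by
  by_contra h0
  have := hA.1.1
  have aa : a * a = 1 := by rw [← pow_two, ← a2, pow_orderOf_eq_one]
  have a1 : a ≠ 1 := by rintro rfl; simp at a2
  have θK : ∀ {x}, x ∈ θ → x ∈ centralizer (A : Set G) := fun hx => ((hθ.mem _).1 hx).1
  have aθ : a ∉ θ := fun k => a1 (StdInt.eq_one_of_odd_sq ((hθ.mem _).1 k).2 aa)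
  have nθ : normalizer (A : Set G) ≤ normalizer (θ : Set G) := fun c hc => mem_normalizer_fintype fun x hx =>
    (hθ.mem _).2 ⟨LAE.conj_mem_of_mem_normalizer (LAE.normalizer_le_normalizer_centralizer A hc) (θK hx),
      StdInt.odd_conj c ((hθ.mem x).1 hx).2⟩
  have AN : A ≤ normalizer (θ : Set G) := le_normalizer.trans nθ
  let f := QuotientGroup.mk' (θ.subgroupOf (normalizer (θ : Set G)))
  have fk : ∀ x, f x = 1 ↔ x.1 ∈ θ := fun x => QuotientGroup.eq_one_iff x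
  have fe : ∀ {x y}, f x = f y ↔ x.1⁻¹ * y.1 ∈ θ := fun {x y} => QuotientGroup.eq
  let ι := f.comp (inclusion AN)
  let σA := e.toMonoidHom.comp (QuotientGroup.mk' (center A))
  have kA : ∀ x, σA x = 1 ↔ x.1 ∈ centralizer (A : Set G) := fun x => by
    rw [show σA x = 1 ↔ x ∈ center A by simp [σA], Subgroup.mem_center_iff]
    exact ⟨fun k u hu => congrArg Subtype.val (k ⟨u, hu⟩), fun k u => Subtype.ext (k u u.2)⟩
  have ps := ι.rangeRestrict_surjective
  have pk : ∀ x, ι.rangeRestrict x = 1 ↔ x.1 ∈ θ := fun x => Subtype.ext_iff.trans (fk _)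
  let σ := ι.rangeRestrict.liftOfSurjective ps ⟨σA, fun x hx => (kA x).2 (θK ((pk x).1 hx))⟩
  have hσ : ∀ x, σ (ι.rangeRestrict x) = σA x := fun x => MonoidHom.liftOfRightInverse_comp_apply _ _ _ _ x
  have := Group.IsPerfect.ofSurjective ps
  have b1 : σ (ι.rangeRestrict ⟨a, aA⟩) = 1 := (hσ _).trans ((kA _).2 aK)
  have b2 : ι.rangeRestrict ⟨a, aA⟩ ≠ 1 := fun k => aθ ((pk _).1 k)
  have dec : ∀ x : normalizer (θ : Set G), x.1 ∈ centralizer (A : Set G) → f x = 1 ∨ f x = ι ⟨a, aA⟩ :=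
    fun x hx => (hθ.dec _ (inv_mem hx)).imp (fun k => (fk x).2 (inv_mem_iff.1 k)) fun k => fe.2 k
  have nA : ∀ x : normalizer (θ : Set G), f x * ι ⟨a, aA⟩ = ι ⟨a, aA⟩ * f x → x.1 ∈ normalizer (A : Set G) := by
    intro x k
    have k1 : f ⟨a, AN aA⟩ = f (x * ⟨a, AN aA⟩ * x⁻¹) := by
      rw [map_mul, map_mul, map_inv]; exact (mul_inv_eq_iff_eq_mul.2 k).symm
    have k2 := (Subgroup.mul_mem_cancel_left _ (inv_mem aK)).1 (θK (fe.1 k1))
    rw [hA.2.2.2]
    by_contra n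
    refine a1 (conj_eq_one_iff.1 (StdInt.eq_one_of_odd_sq (StdInt.odd_of_mem (hA.2.1.2 x n) ⟨k2, a, aK, rfl⟩) ?_))
    change x.1 * a * x.1⁻¹ * (x.1 * a * x.1⁻¹) = 1
    rw [conj_mul, aa, mul_one, mul_inv_cancel]
  obtain ⟨φ, h, fa, hr⟩ := exists_emb' hK (σ := σ) ⟨fun y => by
      obtain ⟨x, rfl⟩ := e.surjective.comp (QuotientGroup.mk'_surjective _) y
      exact ⟨_, hσ x⟩, fun y hy => by
      obtain ⟨x, rfl⟩ := ps y
      refine Subgroup.mem_center_iff.2 fun u => ?_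
      obtain ⟨u, rfl⟩ := ps u
      rw [← map_mul, ← map_mul]
      exact congrArg _ (Subtype.ext ((kA x).1 ((hσ x).symm.trans hy) u u.2)),
      fun _ _ => Group.IsPerfect.mem_commutator⟩ ((Nat.card_eq_two_iff' 1).2 ⟨⟨_, b1⟩,
      fun k => b2 (congrArg Subtype.val k), fun y hy => by
        obtain ⟨x, k⟩ := ps y.1
        refine Subtype.ext (Subtype.ext ?_)
        rw [← k]
        exact (dec (inclusion AN x) ((kA x).1 ((hσ x).symm.trans (k ▸ y.2)))).resolve_left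
          fun k' => hy (Subtype.ext (k.symm.trans (Subtype.ext k')))⟩)
    ι.range.subtype_injective b1 b2 (fun y k => by
      obtain ⟨x, rfl⟩ := QuotientGroup.mk'_surjective _ y
      rw [range_subtype]
      refine mem_normalizer_fintype ?_
      rintro _ ⟨u, rfl⟩
      exact ⟨⟨_, LAE.conj_mem_of_mem_normalizer (nA x k) u.2⟩, by
        change f _ = f x * f _ * (f x)⁻¹
        rw [← map_inv, ← map_mul, ← map_mul]; rfl⟩) (fun y k => by
      obtain ⟨x, rfl⟩ := QuotientGroup.mk'_surjective _ y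
      refine dec x (STh.cen_of_perf (nA x (k (ι.rangeRestrict ⟨a, aA⟩))) fun u hu => θK (fe.1
        (show f ⟨u, AN hu⟩ = f (x * ⟨u, AN hu⟩ * x⁻¹) from ?_)))
      rw [map_mul, map_mul, map_inv]
      exact (mul_inv_eq_iff_eq_mul.2 (k (ι.rangeRestrict ⟨u, hu⟩))).symm)
  have fa' : f ⟨a, AN aA⟩ = φ (aL _) := fa.symm
  obtain ⟨ρ, hρ⟩ := h.exists_ext (h.isConj_az (s := f (⟨g, hg⟩ * ⟨a, AN aA⟩ * ⟨g, hg⟩⁻¹))
    (_root_.isConj_iff.2 ⟨f ⟨g, hg⟩, by rw [map_mul, map_mul, map_inv, fa']⟩)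
    (fa' ▸ (show Commute (⟨g, hg⟩ * ⟨a, AN aA⟩ * ⟨g, hg⟩⁻¹ : normalizer (θ : Set G)) ⟨a, AN aA⟩ from
      Subtype.ext h1).map f) fun k => h2 (by
      have k1 : (g * a * g⁻¹)⁻¹ * a ∈ θ := fe.1 (k.trans fa'.symm)
      refine inv_mul_eq_one.1 (StdInt.eq_one_of_odd_sq ((hθ.mem _).1 k1).2 ?_)
      rw [← pow_two, h1.inv_left.mul_pow, inv_pow, conj_pow, pow_two, aa]
      simp))
  obtain ⟨z, z1, z2, z3⟩ := Qt.fus (a := ⟨a, AN aA⟩) ⟨hρ, hθ.odd, QuotientGroup.mk'_surjective _, fk, fa',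
    Subtype.ext aa, fun c hc => nθ (StdInt.norm_of_even hA aK aa a1 hc), fun l => by
      obtain ⟨y, k⟩ := hr.le ⟨l, rfl⟩
      obtain ⟨x, rfl⟩ := ps y
      exact ⟨inclusion AN x, k, fun t ht => (θK ht x x.2).symm⟩⟩
  refine holt0 hG (fun k => ?_) z2 z1 z3 (fun k => ?_) le_normalizer le_rfl h0 (FT.odd_subgroup_solvable hθ.odd)
  · exact aθ (((normalizer_eq_top_iff.1 k).eq_bot_or_eq_top.resolve_left h0).ge (mem_top a))
  · have : Nontrivial A := ⟨⟨a, aA⟩, 1, fun k => a1 (congrArg Subtype.val k)⟩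
    exact Group.IsPerfect.not_isSolvable A (Group.isSolvable_of_isSolvable_injective (inclusion_injective AN))

end CfsgLib.StdB
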