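import Mathlib
import Cfsg.Agent.Lib.StdB.SIso
import Cfsg.Agent.Lib.StdB.SFix
import Cfsg.Agent.Lib.StdB.SOut
import Cfsg.Agent.Lib.StdB.SFour
import Cfsg.Agent.Lib.StdB.STheta
import Cfsg.Agent.Lib.BabRec.OnC

/-! STDB, package STD (plans/STDB-STD.md): a standard subgroup of type `²E₆(2)` with centre of even order. -/

set_option autoImplicit false

namespace CfsgLib.StdB

open Cfsg CfsgLib.Leech CfsgLib.Mon CfsgLib.DCX CfsgLib.StdM Subgroup FusP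
open CfsgLib.StdInt (Two cj mem_cj two_conj two_of_sq odd_of_mem norm_of_even mem_cent)

variable {M G : Type*} [Group M] [Group G] {π : C k0 →* M} {τ : M} {A : Subgroup G} {R : Subgroup (LM π × G)}

/-- the 2-elements over the four-group -/
def InV (R : Subgroup (LM π × G)) (x : G) : Prop :=
  x = 1 ∨ x = xq R 0 v0 ∨ x = xq R 0 s1 ∨ x = xq R 0 v0 * xq R 0 s1

theorem ql_t : (ql π 0 v0).1 = π tK := by rw [coe_ql 0 v0_mem, tK_eq]

theorem ql_a : (ql π 0 s1).1 = π tK1 := by rw [coe_ql 0 s1_mem, a_eq]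

theorem InE.mem {x : M} (k : InE π x) : x ∈ LM π := by
  have k1 := (ql π 0 v0).2
  have k2 := (ql π 0 s1).2
  rw [ql_t] at k1
  rw [ql_a] at k2
  rcases k with rfl | rfl | rfl | rfl
  exacts [one_mem _, k1, k2, mul_mem k1 k2]

namespace Cov

variable (h : Cov τ A R)
include h

theorem tR : (ql π 0 v0, xq R 0 v0) ∈ R := (h.xq_spec 0 v0_mem).1

theorem aR : (ql π 0 s1, xq R 0 s1) ∈ R := (h.xq_spec 0 s1_mem).1

theorem tK : xq R 0 v0 ∈ centralizer (A : Set G) := (h.cen h.tR).2 (Or.inr (Or.inl ql_t))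

theorem aK : xq R 0 s1 ∈ centralizer (A : Set G) := (h.cen h.aR).2 (Or.inr (Or.inr (Or.inl ql_a)))

theorem t_sq : xq R 0 v0 * xq R 0 v0 = 1 := by rw [h.xq_mul_self 0 v0_mem, qf_of_short short_v0, h.xq_zero]

theorem a_sq : xq R 0 s1 * xq R 0 s1 = 1 := by rw [h.xq_mul_self 0 s1_mem, qf_of_short short_s1, h.xq_zero]

theorem a_ne : xq R 0 s1 ≠ 1 ∧ xq R 0 s1 ≠ xq R 0 v0 := by
  have k : s1 ≠ v0 := fun k => MonRec.Sv.ne Om_s1.2 (by rw [k, ww_add_self])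
  exact ⟨fun e => (h.xq_ev s1_mem (zero_mem _) (e.trans h.xq_zero.symm)).elim s1_ne fun e => k (by rwa [zero_add] at e),
    fun e => (h.xq_ev s1_mem v0_mem e).elim k fun e => s1_ne (by rwa [ww_add_self] at e)⟩

theorem ta : Commute (xq R 0 v0) (xq R 0 s1) := h.aK _ (h.mem h.tR)

theorem inV {x : G} (k : InV R x) : x ∈ A ∧ x ∈ centralizer (A : Set G) ∧ x * x = 1 := by
  rcases k with rfl | rfl | rfl | rfl
  exacts [⟨one_mem _, one_mem _, mul_one 1⟩, ⟨h.mem h.tR, h.tK, h.t_sq⟩, ⟨h.mem h.aR, h.aK, h.a_sq⟩,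
    ⟨mul_mem (h.mem h.tR) (h.mem h.aR), mul_mem h.tK h.aK, by rw [h.ta.symm.mul_mul_mul_comm, h.t_sq, h.a_sq, mul_one]⟩]

theorem lift {l : LM π} (k : InE π l.1) : ∃ v, InV R v ∧ (l, v) ∈ R := by
  rcases k with e | e | e | e
  · exact ⟨1, Or.inl rfl, (show l = 1 from Subtype.ext e) ▸ one_mem R⟩
  · exact ⟨_, Or.inr (Or.inl rfl), (show l = _ from Subtype.ext (e.trans ql_t.symm)) ▸ h.tR⟩
  · exact ⟨_, Or.inr (Or.inr (Or.inl rfl)), (show l = _ from Subtype.ext (e.trans ql_a.symm)) ▸ h.aR⟩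
  · exact ⟨_, Or.inr (Or.inr (Or.inr rfl)),
      (show l = ql π 0 v0 * ql π 0 s1 from Subtype.ext (by rw [e, coe_mul, ql_t, ql_a])) ▸ mul h.tR h.aR⟩

theorem cube {x : G} (h1 : x ∈ A) (h2 : x ∈ centralizer (A : Set G)) : InV R (x ^ 3) := by
  obtain ⟨l, m⟩ := h.ex2 x h1
  obtain ⟨v, hv, m'⟩ := h.lift ((h.cen m).1 h2)
  obtain ⟨-, v1, v2⟩ := h.inV hv
  have := h.odd (x := x * v⁻¹) (by simpa using mul m (inv m'))
  rw [(mem_cent.1 (inv_mem v1) x h1).mul_pow, inv_pow, mul_inv_eq_one, pow_succ v, pow_two, v2, one_mul] at this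
  rwa [this]

theorem of_sq {x : G} (h1 : x ∈ A) (h2 : x ∈ centralizer (A : Set G)) (h3 : x * x = 1) : InV R x := by
  have := h.cube h1 h2
  rwa [pow_succ, pow_two, h3, one_mul] at this

theorem inn' {n : M} {y : G} (hn : n ∈ LM π) (hy : y ∈ normalizer (A : Set G)) (k : Ac R n y) :
    y ∈ A ⊔ centralizer (A : Set G) := by
  obtain ⟨x, m⟩ := h.ex1 ⟨n, hn⟩
  simpa using mul_mem (mem_sup_left (h.mem m)) (mem_sup_right (h.inn hy k m))

theorem ft_inn {y : G} (hy : y ∈ A ⊔ centralizer (A : Set G)) : Ft R y := by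
  obtain ⟨x, hx, k, hk, rfl⟩ := (mem_sup_comm fun l hl k hk => mem_cent.1 hk l hl).1 hy
  obtain ⟨l, m⟩ := h.ex2 x hx
  refine ⟨l, ⟨(mem_cen2.1 l.2).1, Or.inl (conj_a l)⟩, fun u u' p e m' => ?_⟩
  rw [show x * k * p * (x * k)⁻¹ = x * (k * p * k⁻¹) * x⁻¹ by group, ← (mem_cent.1 hk p (h.mem m')).eq,
    mul_inv_cancel_right]
  exact ac_of_mem m u u' p e m'

theorem ft (t1 : xq R 0 v0 = 1) {y : G} (hy : y ∈ normalizer (A : Set G)) : Ft R y := by
  obtain ⟨n, n1, n2⟩ := h.act y hy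
  have e1 := n1 _ (Or.inr (Or.inl rfl))
  have := n2 _ ⟨_, e1.mem⟩ _ (by rw [ql_t]) h.tR
  rw [t1, mul_one, mul_inv_cancel] at this
  have k : ∀ {e w}, w ≠ 0 → n * π (q k0 e w) * n⁻¹ ≠ 1 := fun hw e => by
    rw [conj_eq_one_iff, ← map_one π, h.inj.eq_iff, ← q_zero] at e
    exact hw (q_inj e).2
  have e2 : n * π Mon.tK * n⁻¹ = π Mon.tK := (h.ker this).resolve_left fun e => k XP.v0_ne (by rw [← tK_eq]; exact e)
  refine ⟨n, ⟨mul_inv_eq_iff_eq_mul.1 e2, ?_⟩, n2⟩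
  rcases n1 _ (Or.inr (Or.inr (Or.inl rfl))) with e | e | e
  · exact absurd e (a_eq ▸ k s1_ne)
  · exact absurd (h.eq_xq v0_mem (ql_a.trans ((conj_injective (e.trans e2.symm)).trans (congrArg π tK_eq))) h.aR
      (two_of_sq h.a_sq)) h.a_ne.2
  · exact e

variable [Finite G] (hA : IsStandardSubgroup A)
include hA

theorem norm_iff (t1 : xq R 0 v0 = 1) {c : G} : c ∈ normalizer (A : Set G) ↔ Commute c (xq R 0 s1) := by
  refine ⟨fun hc => mul_inv_eq_iff_eq_mul.1 ?_, norm_of_even hA h.aK h.a_sq h.a_ne.1⟩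
  have := h.of_sq ((mem_normalizer_iff.1 hc _).1 (h.mem h.aR)) ((mem_normalizer_iff.1 (hA.2.2.2 ▸ hc) _).1 h.aK)
    (by rw [conj_mul, h.a_sq, mul_one, mul_inv_cancel])
  simpa only [InV, t1, one_mul, conj_eq_one_iff, h.a_ne.1, false_or, or_self] using this

theorem sd (t1 : xq R 0 v0 = 1) : Sd A (centralizer (A : Set G)) (xq R 0 s1) (Zc A R) :=
  have N : ∀ {c}, Commute c (xq R 0 s1) → c ∈ normalizer (A : Set G) := (h.norm_iff hA t1).2
  have sw : ∀ {x}, Commute x (xq R 0 s1) → x ∉ A ⊔ centralizer (A : Set G) → ∃ n, n * π Mon.tK = π Mon.tK * n ∧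
      n * π tK1 * n⁻¹ = π Mon.tK * π tK1 ∧ Ac R n x := fun hx h0 =>
    let ⟨n, n1, n2⟩ := h.ft t1 (N hx)
    ⟨n, n1.1, n1.2.resolve_left fun e => h0 (h.inn' (mem_of n1.1 e) (N hx) n2), n2⟩
  { aA := h.mem h.aR
    aK := h.aK
    ne := h.a_ne.1
    sq := h.a_sq
    comm l hl k hk := mem_cent.1 hk l hl
    inter x h1 h2 := by simpa only [InV, t1, one_mul, or_self, ← or_assoc] using h.cube h1 h2
    nK c hc l hl := (mem_normalizer_iff.1 (hA.2.2.2 ▸ N hc) l).1 hl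
    invC r hr h1 h2 c hc := (h.norm_iff hA t1).1 (norm_of_even hA hr h1 h2 hc)
    par x y hx hy h1 h2 :=
      let ⟨n, n1, n2, n3⟩ := sw hx h1
      let ⟨n', m1, m2, m3⟩ := sw hy h2
      h.inn' (mem_of ((show Commute n _ from n1).mul_left m1) (swap_mul n1 n2 m2)) (N (hx.mul_left hy))
        (Ac.mul (fun _ => Nm.mem ⟨m1, Or.inr m2⟩) n3 m3)
    dec _ := h.dec
    tight g hg x h1 h2 := odd_of_mem (hA.2.1.2 g fun e => hg ((h.norm_iff hA t1).1 (hA.2.2.2 ▸ e))) ⟨h1, h2⟩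
    fix l hl l2 lK y hy c := h.fix hl l2 lK (l2 ▸ one_mem _) l2 (N hy) (h.ft t1 (N hy)) fun p hp cp =>
      Or.inl (mul_inv_eq_iff_eq_mul.2 (c p hp cp))
    two l hl l2 lK :=
      let ⟨P, p1, p2, p3, p4, p5⟩ := h.two hl l2 lK
      ⟨P, p1, p2, p3, fun y s hy => p4 y (N hy) s (h.ft t1 (N hy)), fun y hy => p5 y (h.ft t1 (N hy))⟩
    zA := by
      rintro _ ⟨x, hx, rfl⟩
      exact ⟨mul_mem (mul_mem hx (h.xq_mem 1 (zero_mem _))) (inv_mem hx), by simpa using h.z_ne⟩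
    iso s hs J1 J2 J3 := h.iso hs
    out s hs s2 h0 J :=
      let ⟨n, n1, n2, n3⟩ := sw hs h0
      h.out (N hs) s2 n1 n2 n3 }

theorem t_eq [IsSimpleGroup G] (hG : ¬ IsMulCommutative G) : xq R 0 v0 = 1 := by
  by_contra t1
  have c : ∀ l ∈ A, ∀ k ∈ centralizer (A : Set G), Commute l k := fun l hl k hk => mem_cent.1 hk l hl
  let V : Subgroup G :=
    { carrier := {x | x ∈ A ∧ x ∈ centralizer (A : Set G) ∧ x * x = 1}
      one_mem' := ⟨one_mem _, one_mem _, mul_one 1⟩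
      mul_mem' := fun {x y} hx hy => ⟨mul_mem hx.1 hy.1, mul_mem hx.2.1 hy.2.1, by
        rw [(c y hy.1 x hx.2.1).mul_mul_mul_comm, hx.2.2, hy.2.2, mul_one]⟩
      inv_mem' := fun {x} hx => ⟨inv_mem hx.1, inv_mem hx.2.1, by rw [← mul_inv_rev, hx.2.2, inv_one]⟩ }
  have hV : ∀ x ∈ V, InV R x := fun x hx => h.of_sq hx.1 hx.2.1 hx.2.2
  have tV : xq R 0 v0 ∈ V := h.inV (Or.inr (Or.inl rfl))
  have aV : xq R 0 s1 ∈ V := h.inV (Or.inr (Or.inr (Or.inl rfl)))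
  have h1 : ∀ l, (l, 1) ∈ R → l = 1 := fun l m => Subtype.ext ((h.ker m).resolve_right fun e =>
    t1 (h.eq_xq v0_mem (e.trans (congrArg π tK_eq)) m ⟨0, one_pow _⟩).symm)
  have N : A ⊔ centralizer (A : Set G) ≤ normalizer (A : Set G) := sup_le le_normalizer (centralizer_le_normalizer _)
  have : Nontrivial A := ⟨⟨_, tV.1⟩, 1, fun e => t1 (congrArg Subtype.val e)⟩
  refine Sf.elim (A := A) (K := centralizer (A : Set G)) (H := normalizer (A : Set G)) (V := V)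
    ⟨fun _ hx => hx.1, fun _ hx => hx.2.1, fun _ hx => hx.2.2, fun v hv v1 => ?_, c,
      fun y hy x hx => (mem_normalizer_iff.1 hy x).1 hx, fun y hy x hx => ⟨(mem_normalizer_iff.1 hy x).1 hx.1,
        (mem_normalizer_iff.1 (hA.2.2.2 ▸ hy) x).1 hx.2.1, by rw [conj_mul, hx.2.2, mul_one, mul_inv_cancel]⟩,
      fun r hr r1 x hx => norm_of_even hA hr.2.1 hr.2.2 r1 hx,
      fun g hg x h1 h2 => odd_of_mem (hA.2.1.2 g (hA.2.2.2 ▸ hg)) ⟨h1, h2⟩, fun y hy k => ?_, fun _ => h.dec,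
      fun l hl l2 lK s ls s2 y hy => h.fix hl l2 lK ls s2 (N hy) (h.ft_inn hy),
      fun s hs s2 h0 J => h.out4 h1 hs s2 h0⟩ hG (fun e => t1 (mem_bot.1 (e ▸ tV))) le_normalizer fun s =>
    (Group.IsSolvable.commutator_lt_top_of_nontrivial A).ne hA.1.1.commutator_eq_top
  · rcases (hV v hv).resolve_left v1 with rfl | rfl | rfl
    · exact ⟨_, aV, h.a_ne.1, h.a_ne.2, fun x hx => h.ta.eq ▸ hV x hx⟩
    · exact ⟨_, tV, t1, h.a_ne.2.symm, fun x hx => (hV x hx).imp_right or_left_comm.1⟩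
    · refine ⟨_, tV, t1, fun e => h.a_ne.1 (left_eq_mul.1 e), fun x hx => ?_⟩
      rw [← mul_assoc, h.t_sq, one_mul]
      exact (hV x hx).imp_right fun e => or_rotate.1 (or_rotate.1 e)
  · obtain ⟨n, n1, n2⟩ := h.act y hy
    have k' : ∀ {l : LM π} {v}, InE π l.1 → v ∈ V → (l, v) ∈ R → n * l.1 * n⁻¹ = l.1 := fun {l v} e hv m => by
      have := n2 l ⟨_, (n1 _ e).mem⟩ v rfl m
      rw [(k v hv).eq, mul_inv_cancel_right] at this
      exact congrArg Subtype.val (mul_inv_eq_one.1 (h1 _ (by simpa using mul this (inv m))))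
    have k1 := k' (Or.inr (Or.inl ql_t)) tV h.tR
    have k2 := k' (Or.inr (Or.inr (Or.inl ql_a))) aV h.aR
    rw [ql_t] at k1
    rw [ql_a] at k2
    exact h.inn' (mem_of (mul_inv_eq_iff_eq_mul.1 k1) k2) hy n2

end Cov

theorem isoB_of_standard [Finite G] [IsSimpleGroup G] (hG : ¬ IsMulCommutative G) (hA : IsStandardSubgroup A)
    (hZ : Even (Nat.card (center A))) {K : Type*} [Field K] [Fintype K] (hK : Fintype.card K = 4)
    (e : A ⧸ center A ≃* Lie.twistedE6 K 2) : Spor.IsoB G := by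
  have hp := hA.1.1.commutator_eq_top
  obtain ⟨R, h⟩ := exists_cov hp hZ hK e
  have t1 := h.t_eq hA hG
  have s := h.sd hA t1
  have a2 := orderOf_eq_prime (p := 2) (by rw [pow_two, s.sq]) s.ne
  have ni := ZStar.not_isolated_of_simple hG (xq R 0 s1)
  rw [IsIsolatedInvolution, not_and, not_forall] at ni
  obtain ⟨g, hg⟩ := ni a2
  obtain ⟨g1, g2⟩ := Classical.not_imp.1 hg
  obtain ⟨θ, t, g, g0, g1, g2⟩ := s.main g1.symm g2
  obtain rfl := theta_bot hG hA hK e s.aA s.aK a2 t g0 g1 g2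
  have k : ∀ x ∈ centralizer (A : Set G), x = 1 ∨ x = xq R 0 s1 := fun x hx => (t.dec x hx).imp mem_bot.1 fun e =>
    (eq_inv_of_mul_eq_one_left (mem_bot.1 e)).trans (inv_eq_of_mul_eq_one_right s.sq)
  have hk : (e.toMonoidHom.comp (QuotientGroup.mk' _)).ker = center A := by
    ext x
    simp
  have am : (⟨_, s.aA⟩ : A) ∈ center A := mem_center_iff.2 fun y => Subtype.ext (s.cL y.2)
  obtain ⟨φ, m, -⟩ := exists_emb' hK (σ := e.toMonoidHom.comp (QuotientGroup.mk' _))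
    ⟨e.surjective.comp (QuotientGroup.mk'_surjective _), hk.le, hp ▸ le_top⟩ (by
      rw [hk, ← (orderOf_coe (⟨_, s.aA⟩ : A)).symm.trans a2, ← Nat.card_zpowers]
      refine congrArg (fun X : Subgroup A => Nat.card X) (le_antisymm (fun x hx => ?_) (zpowers_le.2 am))
      rcases k x fun y hy => congrArg Subtype.val (mem_center_iff.1 hx ⟨y, hy⟩) with e | e
      · exact (show x = 1 from Subtype.ext e) ▸ one_mem _
      · exact (show x = ⟨_, s.aA⟩ from Subtype.ext e) ▸ mem_zpowers _)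
    A.subtype_injective (a := ⟨_, s.aA⟩) (hk.ge am) (fun e => s.ne (congrArg Subtype.val e))
    (fun y hy => by rw [range_subtype]; exact (h.norm_iff hA t1).2 hy)
    fun y hy => k y fun x hx => (hy ⟨x, hx⟩).symm
  obtain ⟨Q, z, e, b, g, g1, g2⟩ := m.bs
  exact BabRec.isoB_of_bs hG b g1 g2

end CfsgLib.StdB
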